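import Mathlib.GroupTheory.Transfer
import Mathlib.GroupTheory.Sylow
import Mathlib.GroupTheory.IndexNormal

/-!
A sharper form of the transfer lemma for involutions.
-/

set_option autoImplicit false
set_option linter.style.haveILetI false

namespace Cfsg.Agent.S3Extra

open scoped Pointwise

/-- If no involution of `P` outside `R` is conjugate into `R`, a subgroup of index two contains the involutions of
`R` and none of those outside. -/
theorem exists_kernel {H : Type*} [Group H] [Finite H] (P : Sylow 2 H) (R : Subgroup H)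
    (hRi : R.relIndex (P : Subgroup H) = 2)
    (hsep : ∀ x ∈ (P : Subgroup H), x ∉ R → x * x = 1 → ∀ g : H, g * x * g⁻¹ ∉ R)
    (u : H) (huP : u ∈ (P : Subgroup H)) (huR : u ∉ R) (hu : u * u = 1) :
    ∃ M : Subgroup H, M.index = 2 ∧ (∀ a ∈ R, a * a = 1 → a ∈ M) ∧ u ∉ M := by
  classical
  have hi2 : (R.subgroupOf (P : Subgroup H)).index = 2 := hRi
  haveI : (R.subgroupOf (P : Subgroup H)).Normal := Subgroup.normal_of_index_eq_two hi2
  set A := (P : Subgroup H) ⧸ R.subgroupOf (P : Subgroup H)
  have hA2 : Nat.card A = 2 := hi2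
  haveI : IsCyclic A := isCyclic_of_prime_card (p := 2) hA2
  letI : CommGroup A := IsCyclic.commGroup
  let φ : (P : Subgroup H) →* A := QuotientGroup.mk' _
  let V : H →* A := MonoidHom.transfer φ
  have hφ : ∀ x : (P : Subgroup H), φ x = 1 ↔ (x : H) ∈ R := fun x =>
    (QuotientGroup.eq_one_iff (N := R.subgroupOf (P : Subgroup H)) x).trans Subgroup.mem_subgroupOf
  have hz : φ ⟨u, huP⟩ ≠ 1 := fun h => huR ((hφ _).1 h)
  have hz2 : φ ⟨u, huP⟩ ^ 2 = 1 := by
    have h := pow_card_eq_one' (x := φ ⟨u, huP⟩)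
    rwa [hA2] at h
  have hnz : ∀ x : A, x ≠ 1 → x = φ ⟨u, huP⟩ := by
    intro x hx
    by_contra hne
    haveI : Fintype A := Fintype.ofFinite A
    have h3 : ({1, x, φ ⟨u, huP⟩} : Finset A).card ≤ 2 := by
      refine (Finset.card_le_univ _).trans ?_
      rw [← Nat.card_eq_fintype_card, hA2]
    rw [Finset.card_insert_of_notMem (by simp [hx.symm, hz.symm]),
      Finset.card_insert_of_notMem (by simp [hne]), Finset.card_singleton] at h3
    omega
  have hconj : ∀ (x g : H), x * x = 1 → g⁻¹ * x * g * (g⁻¹ * x * g) = 1 := fun x g hx => by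
    rw [show g⁻¹ * x * g * (g⁻¹ * x * g) = g⁻¹ * (x * x) * g by group, hx]; group
  -- the value on an involution, orbit by orbit
  have key : ∀ (v : H) (c : A), v * v = 1 →
      (∀ g : H, ∀ h : g⁻¹ * v * g ∈ (P : Subgroup H), φ ⟨_, h⟩ = c) → c ^ 2 = 1 →
      V v = c ^ (P : Subgroup H).index := by
    intro v c hv hc hc2
    haveI : Fintype (Quotient (MulAction.orbitRel (Subgroup.zpowers v) (H ⧸ (P : Subgroup H)))) :=
      Fintype.ofFinite _
    have hv2 : v ^ 2 = 1 := by rw [pow_two, hv]
    rw [Subgroup.index_eq_sum_minimalPeriod (P : Subgroup H) v, ← Finset.prod_pow_eq_pow_sum]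
    simp only [V]
    rw [MonoidHom.transfer_eq_prod_quotient_orbitRel_zpowers_quot]
    refine Finset.prod_congr rfl fun q _ => ?_
    have hk : ∀ k, Function.minimalPeriod (v • ·) q.out = k → k ∣ 2 := by
      rintro k rfl
      apply Function.IsPeriodicPt.minimalPeriod_dvd
      have : (fun x : H ⧸ (P : Subgroup H) => v • x)^[2] q.out = q.out := by
        simp only [Function.iterate_succ, Function.iterate_zero, Function.comp_apply, id_eq]
        rw [smul_smul, ← pow_two, hv2, one_smul]
      exact this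
    suffices hgen : ∀ (k : ℕ) (hmem : q.out.out⁻¹ * v ^ k * q.out.out ∈ (P : Subgroup H)), k ∣ 2 →
        φ ⟨_, hmem⟩ = c ^ k from hgen _ _ (hk _ rfl)
    intro k hmem hk2
    rcases (Nat.dvd_prime Nat.prime_two).1 hk2 with rfl | rfl
    · rw [pow_one c]
      have h' : q.out.out⁻¹ * v * q.out.out ∈ (P : Subgroup H) := by rwa [pow_one] at hmem
      rw [← hc _ h']
      congr 1
      exact Subtype.ext (by show _ * v ^ 1 * _ = _; rw [pow_one])
    · rw [hc2]
      convert φ.map_one
      simp [hv2]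
  have hVu : V u = φ ⟨u, huP⟩ := by
    have h := key u (φ ⟨u, huP⟩) hu (fun g h => hnz _ fun h1 => by
      have h1' := (hφ ⟨_, h⟩).1 h1
      have := hsep u huP huR hu g⁻¹
      rw [inv_inv] at this
      exact this h1') hz2
    rw [h]
    obtain ⟨k, hk⟩ : Odd (P : Subgroup H).index :=
      Nat.not_even_iff_odd.1 (fun h => P.not_dvd_index h.two_dvd)
    rw [hk, pow_succ, pow_mul, hz2, one_pow, one_mul]
  refine ⟨V.ker, ?_, fun a haR ha => ?_, fun h => hz (hVu ▸ h)⟩
  · rw [Subgroup.index_ker]
    have hsurj : Function.Surjective V := by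
      intro a
      by_cases ha : a = 1
      · exact ⟨1, by rw [map_one, ha]⟩
      · exact ⟨u, by rw [hVu, hnz a ha]⟩
    rw [MonoidHom.range_eq_top.2 hsurj, Subgroup.card_top, hA2]
  · rw [MonoidHom.mem_ker, key a 1 ha (fun g h => ?_) (one_pow 2), one_pow]
    rw [hφ]
    by_contra hne
    refine hsep _ h hne (hconj a g ha) g ?_
    rw [show g * (g⁻¹ * a * g) * g⁻¹ = a by group]
    exact haR

end Cfsg.Agent.S3Extra
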