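import Cfsg.Agent.Lib.S3Extra.CaseOneBase
import Cfsg.Agent.Lib.S3Extra.Kernel
import Cfsg.Agent.Lib.M12Cent.CaseOne

/-!
The alternating case: the centraliser of the second involution has order 96, and then the group has order 20160, or
480.
-/

set_option autoImplicit false
set_option synthInstance.maxSize 100000
set_option maxRecDepth 4000
set_option linter.style.haveILetI false
set_option linter.unusedSectionVars false

namespace Cfsg.Agent.S3Extra

open Subgroup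

variable {G : Type*} [Group G]

/-- The indices of the four group containing the second involution. -/
def inW (i : ℕ) : Bool := Nat.beq i 0 || Nat.beq i 11 || Nat.beq i 33 || Nat.beq i 42

/-- The indices of the complementary four group. -/
def inW' (i : ℕ) : Bool := Nat.beq i 0 || Nat.beq i 10 || Nat.beq i 35 || Nat.beq i 41

theorem chk_D :
    (List.range 192).countP (fun i => cm i 11) = 32 ∧
    (∀ i < 192, cm i 11 = true → (∀ j < 192, cm j 11 = true → cm i j = true) → isS i = true → i = 1) ∧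
    (∀ i < 192, inA i = true → cm i 11 = true) ∧
    (∀ i < 192, cm i 11 = true → inA i = false → Tc i i = 0 → i = 20 ∨ i = 21 ∨ i = 30 ∨ i = 31) ∧
    (∀ u < 192, (u = 20 ∨ u = 21 ∨ u = 30 ∨ u = 31) →
      (List.range 192).countP (fun i => cm i 11 && cm i u) = 8 ∧
      ∀ i < 192, cm i 11 = true → cm i u = true → isS i = true → i = 1) ∧
    (∀ i < 192, inA i = true → isS i = false → isS (Tc 11 i) = false → inW i = true) ∧
    (∀ i < 192, inW i = true → inA i = true ∧ isS i = false ∧ isS (Tc 11 i) = false) ∧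
    (∀ i < 192, inW i = true → inW' i = true → i = 0) ∧
    (∀ i < 192, inA i = true → inW i = false → isS i = true ∨ isS (Tc 11 i) = true) ∧
    (∀ i < 192, isInv i = true → isS i = false →
      (List.range 192).countP (fun j => cm j i) = 16 ∨ (List.range 192).countP (fun j => cm j i) = 32) ∧
    (∀ i < 192, inW' i = true → inA i = true ∧ iv false i = i) ∧
    (∀ i < 192, ∀ j < 192, inW' i = true → inW' j = true → inW' (Tc i j) = true) ∧
    (∀ i < 192, ∀ j < 192, inW i = true → inW j = true → inW' (Tc i j) = true → i = j) ∧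
    (∀ i < 192, inA i = true → ∃ j < 192, inW j = true ∧ inW' (Tc j i) = true) ∧
    inW 11 = true ∧ cm 20 11 = true ∧ inA 20 = false ∧ Tc 20 20 = 0 ∧ isS 2 = true ∧ isS 3 = true ∧
      Tc 1 2 = 3 ∧ inA 1 = true ∧ inA 2 = true := by
  decide +kernel

namespace One

variable {Q : Subgroup G} {P : Gens G} (O : One Q P)
include O

theorem w_two : orderOf (P.el 11) = 2 := O.C.two_el (by norm_num) (by decide +kernel)

theorem card_count {H : Subgroup G} (f : ℕ → Bool) (hH : ∀ y, y ∈ H ↔ ∃ i < 192, f i = true ∧ P.el i = y) :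
    Nat.card H = (List.range 192).countP f := by
  rw [← M12Cent.card_range_filter]
  exact (Nat.card_congr (Equiv.ofBijective
    (fun i : {i : ℕ // i < 192 ∧ f i = true} => (⟨P.el i.1, (hH _).2 ⟨i.1, i.2.1, i.2.2, rfl⟩⟩ : H))
    ⟨fun a b h => Subtype.ext (O.C.inj _ a.2.1 _ b.2.1 (congrArg Subtype.val h)),
      fun ⟨y, hy⟩ => let ⟨i, hi, hu, e⟩ := (hH y).1 hy; ⟨⟨i, hi, hu⟩, Subtype.ext e⟩⟩)).symm

theorem mem_D {y : G} : y ∈ centralizer ({P.s} : Set G) ⊓ centralizer ({P.el 11} : Set G) ↔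
    ∃ i < 192, cm i 11 = true ∧ P.el i = y := by
  rw [mem_inf, mem_centralizer_singleton_iff, mem_centralizer_singleton_iff]
  constructor
  · rintro ⟨h1, h2⟩
    obtain ⟨i, hi, rfl⟩ := (O.C.mem y).1 h1
    exact ⟨i, hi, (O.C.comm_iff hi (by norm_num)).1 h2, rfl⟩
  · rintro ⟨i, hi, hu, rfl⟩
    exact ⟨O.C.el_comm hi, (O.C.comm_iff hi (by norm_num)).2 hu⟩

theorem card_A : Nat.card (A16 P) = 16 := by
  rw [O.card_count (f := inA) fun y => ?_, chk_A.2.2.2.2.2.1]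
  rw [O.C.mem_A]
  exact ⟨fun ⟨i, hi, h, e⟩ => ⟨i, by omega, h, e⟩, fun ⟨i, hi, h, e⟩ => ⟨i, chk_A.2.2.2.2.2.2.2.1 i hi h, h, e⟩⟩

theorem A_le_cent : A16 P ≤ centralizer ({P.el 11} : Set G) := fun y hy => by
  obtain ⟨i, hi, h, rfl⟩ := O.C.mem_A.1 hy
  exact mem_centralizer_singleton_iff.2 ((O.C.comm_iff (by omega) (by norm_num)).2 (chk_D.2.2.1 i (by omega) h))

theorem not_32_w [Finite G] : ¬ 2 ^ (5 + 1) ∣ Nat.card (centralizer ({P.el 11} : Set G)) := by
  set D := centralizer ({P.s} : Set G) ⊓ centralizer ({P.el 11} : Set G) with hD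
  have hDc : Nat.card D = 2 ^ 5 := by
    rw [O.card_count (f := fun i => cm i 11) fun y => O.mem_D, chk_D.1]; norm_num
  refine M12Cent.card_sylow_of_no_double inf_le_right hDc fun K hle hKH hK => ?_
  have hK2 : Nat.card K = 2 * Nat.card D := by rw [hK, hDc]; norm_num
  have hKD : K ≤ D := fun n hn => by
    refine mem_inf.2 ⟨mem_centralizer_singleton_iff.2 ?_, hKH hn⟩
    have hsD : P.s ∈ D := O.mem_D.2 ⟨1, by norm_num, by decide +kernel, el_one P⟩
    obtain ⟨i, hi, hu, hie⟩ := O.mem_D.1 (M12Cent.conj_mem_of_double hle hK2 hn hsD)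
    have hiS := (O.conj_s_iff hi).1 (isConj_iff.2 ⟨n, hie.symm⟩)
    have := chk_D.2.1 i hi hu (fun j hj hju => by
      refine (O.C.comm_iff hi hj).1 ?_
      have h' := M12Cent.conj_mem_of_double hle hK2 (inv_mem hn) (O.mem_D.2 ⟨j, hj, hju, rfl⟩)
      rw [inv_inv] at h'
      have hc := mem_centralizer_singleton_iff.1 (mem_inf.1 h').1
      rw [hie]
      calc n * P.s * n⁻¹ * P.el j = n * (P.s * (n⁻¹ * P.el j * n)) * n⁻¹ := by group
        _ = _ := by rw [← hc]; group) hiS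
    subst this
    rw [el_one] at hie
    exact mul_inv_eq_iff_eq_mul.1 hie.symm
  have := Subgroup.card_le_of_le hKD
  omega

/-- An involution of the Sylow subgroup outside `A` is not fused into `A` in the centraliser. -/
theorem no_fuse [Finite G] {u : ℕ} (hu : u < 192) (hu' : u = 20 ∨ u = 21 ∨ u = 30 ∨ u = 31) {g : G}
    (hg : g ∈ centralizer ({P.el 11} : Set G)) : g * P.el u * g⁻¹ ∉ A16 P := by
  intro hz
  obtain ⟨hc8, hone⟩ := chk_D.2.2.2.2.1 u hu hu'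
  set H := centralizer ({P.el 11} : Set G) ⊓ centralizer ({P.el u} : Set G) with hH
  set U := centralizer ({P.s} : Set G) ⊓ H with hU
  have hUmem : ∀ y, y ∈ U ↔ ∃ i < 192, (cm i 11 && cm i u) = true ∧ P.el i = y := fun y => by
    rw [hU, hH, ← inf_assoc, mem_inf, O.mem_D, mem_centralizer_singleton_iff]
    constructor
    · rintro ⟨⟨i, hi, h1, rfl⟩, h2⟩
      exact ⟨i, hi, by rw [h1, (O.C.comm_iff hi hu).1 h2]; rfl, rfl⟩
    · rintro ⟨i, hi, h, rfl⟩
      rw [Bool.and_eq_true] at h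
      exact ⟨⟨i, hi, h.1, rfl⟩, (O.C.comm_iff hi hu).2 h.2⟩
  have hUc : Nat.card U = 2 ^ 3 := by rw [O.card_count _ hUmem, hc8]; norm_num
  have hd : ¬ 2 ^ (3 + 1) ∣ Nat.card H := by
    refine M12Cent.card_sylow_of_no_double inf_le_right hUc fun K hle hKH hK => ?_
    have hK2 : Nat.card K = 2 * Nat.card U := by rw [hK, hUc]; norm_num
    have hKU : K ≤ U := fun n hn => by
      refine mem_inf.2 ⟨mem_centralizer_singleton_iff.2 ?_, hKH hn⟩
      have hsU : P.s ∈ U := (hUmem _).2 ⟨1, by norm_num, by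
        rcases hu' with rfl | rfl | rfl | rfl <;> decide +kernel, el_one P⟩
      obtain ⟨i, hi, hh, hie⟩ := (hUmem _).1 (M12Cent.conj_mem_of_double hle hK2 hn hsU)
      rw [Bool.and_eq_true] at hh
      have := hone i hi hh.1 hh.2 ((O.conj_s_iff hi).1 (isConj_iff.2 ⟨n, hie.symm⟩))
      subst this
      rw [el_one] at hie
      exact mul_inv_eq_iff_eq_mul.1 hie.symm
    have := Subgroup.card_le_of_le hKU
    omega
  apply hd
  have hle : A16 P ≤ H.map (MulAut.conj g).toMonoidHom := by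
    intro a ha
    obtain ⟨i, hi, hiA, rfl⟩ := O.C.mem_A.1 ha
    rw [mem_map_equiv, MulAut.conj_symm_apply, hH, mem_inf, mem_centralizer_singleton_iff,
      mem_centralizer_singleton_iff]
    have hw : g * P.el 11 = P.el 11 * g := mem_centralizer_singleton_iff.1 hg
    have h11 := mem_centralizer_singleton_iff.1 (O.A_le_cent (O.C.mem_A.2 ⟨i, hi, hiA, rfl⟩))
    obtain ⟨j, hj, hjA, hje⟩ := O.C.mem_A.1 hz
    have hij : P.el i * P.el j = P.el j * P.el i :=
      (O.C.comm_iff (by omega) (by omega)).2 (chk_A.1 i hi hiA j hj hjA).2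
    rw [hje] at hij
    constructor
    · calc g⁻¹ * P.el i * g * P.el 11 = g⁻¹ * (P.el i * (g * P.el 11 * g⁻¹)) * g := by group
        _ = g⁻¹ * (P.el i * P.el 11) * g := by rw [hw, mul_inv_cancel_right]
        _ = g⁻¹ * (g * P.el 11 * g⁻¹ * P.el i) * g := by rw [h11, hw, mul_inv_cancel_right]
        _ = _ := by group
    · calc g⁻¹ * P.el i * g * P.el u = g⁻¹ * (P.el i * (g * P.el u * g⁻¹)) * g := by group
        _ = g⁻¹ * (g * P.el u * g⁻¹ * P.el i) * g := by rw [hij]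
        _ = _ := by group
  have hdvd := card_dvd_of_le hle
  rw [card_map_of_injective (MulAut.conj g).injective, O.card_A] at hdvd
  exact hdvd

/-- The subgroup of index two of the centraliser of the second involution. -/
theorem exists_Y0 [Finite G] : ∃ Y₀ : Subgroup G, Y₀ ≤ centralizer ({P.el 11} : Set G) ∧ A16 P ≤ Y₀ ∧
    P.el 20 ∉ Y₀ ∧ Nat.card (centralizer ({P.el 11} : Set G)) = 2 * Nat.card Y₀ ∧
    (∀ x ∈ centralizer ({P.el 11} : Set G), x ∈ Y₀ ∨ P.el 20 * x ∈ Y₀) ∧ ¬ 2 ^ (4 + 1) ∣ Nat.card Y₀ ∧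
    (∀ g ∈ centralizer ({P.el 11} : Set G), ∀ x ∈ Y₀, g * x * g⁻¹ ∈ Y₀) := by
  haveI : Fact (Nat.Prime 2) := ⟨Nat.prime_two⟩
  set Y := centralizer ({P.el 11} : Set G) with hY
  set D := centralizer ({P.s} : Set G) ⊓ Y with hD
  have hDY : D ≤ Y := inf_le_right
  have hDc : Nat.card D = 2 ^ 5 := by
    rw [O.card_count (f := fun i => cm i 11) fun y => O.mem_D, chk_D.1]; norm_num
  have hAD : A16 P ≤ D := fun y hy => by
    obtain ⟨i, hi, h, rfl⟩ := O.C.mem_A.1 hy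
    exact O.mem_D.2 ⟨i, by omega, chk_D.2.2.1 i (by omega) h, rfl⟩
  have hcD : Nat.card (D.subgroupOf Y) = 2 ^ 5 := by
    rw [Nat.card_congr (subgroupOfEquivOfLe hDY).toEquiv, hDc]
  obtain ⟨S, hS⟩ := (IsPGroup.of_card hcD).exists_le_sylow
  have hSD : (S : Subgroup Y) = D.subgroupOf Y := by
    refine (eq_of_le_of_card_ge hS ?_).symm
    obtain ⟨m, hm⟩ := S.isPGroup'.exists_card_eq
    rw [hm, hcD]
    exact Nat.pow_le_pow_right (by norm_num) (le_of_not_gt fun hlt =>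
      O.not_32_w ((pow_dvd_pow 2 hlt).trans (hm ▸ card_subgroup_dvd_card _)))
  have hidx : ((A16 P).subgroupOf Y).relIndex (S : Subgroup Y) = 2 := by
    rw [hSD, relIndex_subgroupOf hDY]
    have h1 := index_mul_card ((A16 P).subgroupOf D)
    rw [Nat.card_congr (subgroupOfEquivOfLe hAD).toEquiv, O.card_A, hDc] at h1
    show ((A16 P).subgroupOf D).index = 2
    omega
  have h20D : P.el 20 ∈ D := O.mem_D.2 ⟨20, by norm_num, chk_D.2.2.2.2.2.2.2.2.2.2.2.2.2.2.2.1, rfl⟩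
  have h20A : P.el 20 ∉ A16 P := fun h => by
    obtain ⟨i, hi, hiA, he⟩ := O.C.mem_A.1 h
    rw [O.C.inj i (by omega) 20 (by norm_num) he, chk_D.2.2.2.2.2.2.2.2.2.2.2.2.2.2.2.2.1] at hiA
    exact Bool.false_ne_true hiA
  obtain ⟨M, hM, hMA, hMu⟩ := exists_kernel S ((A16 P).subgroupOf Y) hidx (fun x hx hxA hxx g => by
      rw [hSD, mem_subgroupOf] at hx
      obtain ⟨i, hi, hc, hie⟩ := O.mem_D.1 hx
      rw [mem_subgroupOf] at hxA
      have hiA : inA i = false := Bool.eq_false_iff.2 fun h =>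
        hxA (hie ▸ O.C.mem_A.2 ⟨i, chk_A.2.2.2.2.2.2.2.1 i hi h, h, rfl⟩)
      have hii : Tc i i = 0 := (O.C.sq_iff hi).1 (by rw [hie]; exact congrArg Subtype.val hxx)
      have := O.no_fuse hi (chk_D.2.2.2.1 i hi hc hiA hii) g.2
      rw [mem_subgroupOf, coe_mul, coe_mul, coe_inv, ← hie]
      exact this)
    ⟨P.el 20, hDY h20D⟩ (by rw [hSD, mem_subgroupOf]; exact h20D) (by rw [mem_subgroupOf]; exact h20A)
    (Subtype.ext ((O.C.sq_iff (by norm_num)).2 chk_D.2.2.2.2.2.2.2.2.2.2.2.2.2.2.2.2.2.1))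
  have hmemM : ∀ x, ∀ hx : x ∈ Y, x ∈ M.map Y.subtype ↔ (⟨x, hx⟩ : Y) ∈ M := fun x hx =>
    ⟨fun ⟨z, hz, hze⟩ => by rwa [show (⟨x, hx⟩ : Y) = z from Subtype.ext hze.symm], fun h => ⟨_, h, rfl⟩⟩
  have hc2 : Nat.card Y = 2 * Nat.card (M.map Y.subtype) := by
    rw [card_map_of_injective Y.subtype_injective, ← hM, index_mul_card]
  refine ⟨M.map Y.subtype, map_subtype_le _, fun a ha => ?_, fun h => hMu ((hmemM _ (hDY h20D)).1 h), hc2,
    fun x hx => ?_, fun h => O.not_32_w ?_, fun g hg x hx => ?_⟩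
  · refine (hmemM a (hDY (hAD ha))).2 (hMA _ (by rw [mem_subgroupOf]; exact ha) (Subtype.ext ?_))
    obtain ⟨i, hi, hiA, rfl⟩ := O.C.mem_A.1 ha
    exact (O.C.sq_iff (by omega)).2 (chk_A.2.1 i hi hiA)
  · by_cases hxM : (⟨x, hx⟩ : Y) ∈ M
    · exact Or.inl ((hmemM x hx).2 hxM)
    · exact Or.inr ((hmemM _ (mul_mem (hDY h20D) hx)).2
        ((mul_mem_iff_of_index_two hM (a := ⟨P.el 20, hDY h20D⟩) (b := ⟨x, hx⟩)).2 (iff_of_false hMu hxM)))
  · rw [hc2, show (2 : ℕ) ^ (5 + 1) = 2 * 2 ^ (4 + 1) by norm_num]; exact mul_dvd_mul_left 2 h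
  · obtain ⟨z, hz, rfl⟩ := hx
    exact ⟨⟨g, hg⟩ * z * ⟨g, hg⟩⁻¹, (normal_of_index_eq_two hM).conj_mem z hz _, rfl⟩

/-- The orbit of the second involution under the normaliser of `A` has at most six points. -/
theorem card_NA_w [Finite G] :
    96 ≤ Nat.card ↥(normalizer (A16 P : Set G) ⊓ centralizer ({P.el 11} : Set G)) := by
  classical
  set N := normalizer (A16 P : Set G)
  let I := {i : ℕ // i < 192 ∧ (inA i && !(Nat.beq i 0) && !(isS i)) = true}
  have himg : ∀ n : N, ∃ i : I, P.el i.1 = (n : G) * P.el 11 * (n : G)⁻¹ := fun n => by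
    obtain ⟨i, hi, hiA, hie⟩ := O.C.mem_A.1 ((mem_normalizer_iff.1 n.2 _).1
      (O.C.mem_A.2 ⟨11, by norm_num, by decide +kernel, rfl⟩))
    have hi0 : i ≠ 0 := fun h => by
      rw [h, O.C.rels.el_zero] at hie
      have := O.w_two
      rw [conj_eq_one_iff.1 hie.symm, orderOf_one] at this; omega
    have hiS : isS i = false := Bool.eq_false_iff.2 fun h =>
      O.h11 (((O.conj_s_iff (show i < 192 by omega)).2 h).trans
        (isConj_iff.2 ⟨(n : G), hie.symm⟩ : IsConj (P.el 11) (P.el i)).symm)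
    exact ⟨⟨i, by omega, by simp [hiA, hi0, hiS, Bool.eq_false_iff]⟩, hie⟩
  choose f hf using himg
  have hg : ∀ i : I, ∃ g : N, (∃ n, f n = i) → f g = i := fun i => by
    by_cases h : ∃ n, f n = i
    · obtain ⟨n, hn⟩ := h; exact ⟨n, fun _ => hn⟩
    · exact ⟨1, fun h' => absurd h' h⟩
  choose g hg using hg
  have hfix : ∀ n : N, ((g (f n) : G))⁻¹ * n ∈ N ⊓ centralizer ({P.el 11} : Set G) := fun n => by
    refine mem_inf.2 ⟨mul_mem (inv_mem (g (f n)).2) n.2, mem_centralizer_singleton_iff.2 ?_⟩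
    have e := hf (g (f n))
    rw [hg (f n) ⟨n, rfl⟩, hf n] at e
    generalize (g (f n) : G) = v at e
    calc v⁻¹ * n * P.el 11 = v⁻¹ * ((n : G) * P.el 11 * (n : G)⁻¹) * n := by group
      _ = v⁻¹ * (v * P.el 11 * v⁻¹) * n := by rw [e]
      _ = _ := by group
  haveI : Finite I := Finite.of_injective (fun i : I => (⟨i.1, i.2.1⟩ : Fin 192)) fun a b h =>
    Subtype.ext (Fin.mk.inj_iff.1 h)
  have hinj : Function.Injective (fun n : N =>
      ((f n, ⟨_, hfix n⟩) : I × ↥(N ⊓ centralizer ({P.el 11} : Set G)))) := fun a b h => by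
    simp only [Prod.mk.injEq, Subtype.mk.injEq] at h
    rw [h.1] at h
    exact Subtype.ext (mul_left_cancel h.2)
  have h := Nat.card_le_card_of_injective _ hinj
  rw [O.card_NA, Nat.card_prod, M12Cent.card_range_filter,
    show (List.range 192).countP (fun i => inA i && !(Nat.beq i 0) && !(isS i)) = 6 by decide +kernel] at h
  omega

/-- A conjugate of the involution commuting with the second one has a 2-group as common centraliser. -/
theorem card_cent_two [Finite G] {v : G} (hv : IsConj P.s v) (hc : v * P.el 11 = P.el 11 * v) :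
    ∃ k, Nat.card ↥(centralizer ({P.el 11} : Set G) ⊓ centralizer ({v} : Set G)) = 2 ^ k := by
  obtain ⟨g, hg⟩ := isConj_iff.1 hv
  have hj : g⁻¹ * P.el 11 * g * P.s = P.s * (g⁻¹ * P.el 11 * g) := by
    calc g⁻¹ * P.el 11 * g * P.s = g⁻¹ * (P.el 11 * (g * P.s * g⁻¹)) * g := by group
      _ = g⁻¹ * (g * P.s * g⁻¹ * P.el 11) * g := by rw [hg, hc]
      _ = _ := by group
  obtain ⟨j, hj', hje⟩ := (O.C.mem _).1 hj
  have hjj : isInv j = true := (O.C.orderOf_el hj').1 (by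
    rw [hje, show g⁻¹ * P.el 11 * g = MulAut.conj g⁻¹ (P.el 11) by simp, MulEquiv.orderOf_eq, O.w_two])
  have hjS : isS j = false := Bool.eq_false_iff.2 fun h =>
    O.h11 (((O.conj_s_iff hj').2 h).trans (hje ▸ (isConj_iff.2 ⟨g⁻¹, by group⟩ : IsConj (P.el 11) _).symm))
  have hJ : ∀ y, y ∈ (centralizer ({P.el 11} : Set G) ⊓ centralizer ({v} : Set G)).map
      (MulAut.conj g⁻¹).toMonoidHom ↔ ∃ i < 192, cm i j = true ∧ P.el i = y := fun y => by
    rw [mem_map_equiv, MulAut.conj_symm_apply, inv_inv, mem_inf, mem_centralizer_singleton_iff,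
      mem_centralizer_singleton_iff, ← hg, M12Cent.conj_comm_iff,
      show P.el 11 = g * P.el j * g⁻¹ by rw [hje]; group, M12Cent.conj_comm_iff]
    constructor
    · rintro ⟨h1, h2⟩
      obtain ⟨i, hi, rfl⟩ := (O.C.mem y).1 h2
      exact ⟨i, hi, (O.C.comm_iff hi hj').1 h1, rfl⟩
    · rintro ⟨i, hi, h, rfl⟩
      exact ⟨(O.C.comm_iff hi hj').2 h, O.C.el_comm hi⟩
  have h := O.card_count (f := fun i => cm i j) hJ
  rw [card_map_of_injective (MulAut.conj g⁻¹).injective] at h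
  rcases chk_D.2.2.2.2.2.2.2.2.2.1 j hj' hjj hjS with e | e <;> rw [e] at h
  · exact ⟨4, by rw [h]; norm_num⟩
  · exact ⟨5, by rw [h]; norm_num⟩

end One

/-- The centraliser of the second involution in the larger case. -/
structure Wide (P : Gens G) (Y₀ K₀ : Subgroup G) : Prop where
  Y₀_le : Y₀ ≤ centralizer ({P.el 11} : Set G)
  A_le : A16 P ≤ Y₀
  not_mem : P.el 20 ∉ Y₀
  cover : ∀ x ∈ centralizer ({P.el 11} : Set G), x ∈ Y₀ ∨ P.el 20 * x ∈ Y₀
  normal : ∀ g ∈ centralizer ({P.el 11} : Set G), ∀ x ∈ Y₀, g * x * g⁻¹ ∈ Y₀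
  K₀_le : K₀ ≤ Y₀
  normalK : ∀ g ∈ Y₀, ∀ x ∈ K₀, g * x * g⁻¹ ∈ K₀
  comm : ∀ g ∈ Y₀, ∀ h ∈ Y₀, g * h * g⁻¹ * h⁻¹ ∈ K₀
  prod : ∀ x ∈ Y₀, ∃ i < 192, inW i = true ∧ P.el i * x ∈ K₀
  inter : ∀ i < 192, inW i = true → P.el i ∈ K₀ → i = 0
  card_Y₀ : Nat.card Y₀ = 240
  card_Y : Nat.card (centralizer ({P.el 11} : Set G)) = 480
  iso : Nonempty (K₀ ≃* alternatingGroup (Fin 5))

namespace One

variable {Q : Subgroup G} {P : Gens G} (O : One Q P)
include O

theorem card_NA_Y0 [Finite G] {Y₀ : Subgroup G} (hY₀le : Y₀ ≤ centralizer ({P.el 11} : Set G))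
    (h20 : P.el 20 ∉ Y₀)
    (hcover : ∀ x ∈ centralizer ({P.el 11} : Set G), x ∈ Y₀ ∨ P.el 20 * x ∈ Y₀) :
    48 ≤ Nat.card ↥(normalizer (A16 P : Set G) ⊓ Y₀) := by
    have h20N : P.el 20 ∈ normalizer (A16 P : Set G) := (O.C.el_mem_normA (by norm_num)).2 (by norm_num)
    have h20Y : P.el 20 ∈ centralizer ({P.el 11} : Set G) := mem_centralizer_singleton_iff.2
      ((O.C.comm_iff (by norm_num) (by norm_num)).2 chk_D.2.2.2.2.2.2.2.2.2.2.2.2.2.2.2.1)
    have h := M12Cent.mk_two_subgroup (inf_le_inf_left (normalizer (A16 P : Set G)) hY₀le) (r := P.el 20)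
      ⟨h20N, h20Y⟩ (fun h => h20 (mem_inf.1 h).2) (fun x hx => by
        obtain ⟨hxN, hxY⟩ := mem_inf.1 hx
        exact (hcover x hxY).imp (fun h => mem_inf.2 ⟨hxN, h⟩) fun h => mem_inf.2 ⟨mul_mem h20N hxN, h⟩)
    have := O.card_NA_w
    omega

/-- The four group is central in the normaliser of `A` inside the subgroup of index two. -/
theorem W_fix [Finite G] {Y₀ : Subgroup G} (hY₀le : Y₀ ≤ centralizer ({P.el 11} : Set G)) (hA₀ : A16 P ≤ Y₀)
    (hd32 : ¬ 2 ^ (4 + 1) ∣ Nat.card Y₀) :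
    ∀ n ∈ normalizer (A16 P : Set G) ⊓ Y₀, ∀ i < 192, inW i = true → n * P.el i * n⁻¹ = P.el i := by
    have hwY : ∀ {g}, g ∈ Y₀ → g * P.el 11 = P.el 11 * g := fun hg => mem_centralizer_singleton_iff.1 (hY₀le hg)
    intro n hn i hi hiW
    set K := normalizer (A16 P : Set G) ⊓ Y₀ with hK
    have hperm : ∀ m ∈ K, ∀ k < 192, inW k = true → ∃ l < 192, inW l = true ∧ m * P.el k * m⁻¹ = P.el l := by
      intro m hm k hk hkW
      obtain ⟨hkA, hkS, hkS'⟩ := chk_D.2.2.2.2.2.2.1 k hk hkW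
      obtain ⟨hmN, hmY⟩ := mem_inf.1 hm
      obtain ⟨l, hl, hlA, hle⟩ := O.C.mem_A.1 ((mem_normalizer_iff.1 hmN _).1
        (O.C.mem_A.2 ⟨k, chk_A.2.2.2.2.2.2.2.1 k hk hkA, hkA, rfl⟩))
      have hl' : l < 192 := by omega
      refine ⟨l, hl', chk_D.2.2.2.2.2.1 l hl' hlA (Bool.eq_false_iff.2 fun h => ?_) (Bool.eq_false_iff.2 fun h => ?_),
        hle.symm⟩
      · have := (O.conj_s_iff hk).1 (((O.conj_s_iff hl').2 h).trans (isConj_iff.2 ⟨m, hle.symm⟩).symm)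
        rw [hkS] at this; exact Bool.false_ne_true this
      · have e : m * P.el (Tc 11 k) * m⁻¹ = P.el (Tc 11 l) := by
          rw [← O.C.mul hk, ← O.C.mul hl', hle]
          calc m * (P.el 11 * P.el k) * m⁻¹ = m * P.el 11 * m⁻¹ * (m * P.el k * m⁻¹) := by group
            _ = _ := by rw [hwY hmY, mul_inv_cancel_right]
        have := (O.conj_s_iff (O.C.lt hk)).1
          (((O.conj_s_iff (O.C.lt hl')).2 h).trans (isConj_iff.2 ⟨m, e⟩).symm)
        rw [hkS'] at this; exact Bool.false_ne_true this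
    obtain ⟨l, hl, hlW, hle⟩ := hperm n hn i hi hiW
    by_contra hne
    have hnil : n * P.el i * n⁻¹ ≠ P.el i := hne
    have h11 : ∀ m ∈ K, m * P.el 11 * m⁻¹ = P.el 11 := fun m hm => by
      rw [hwY (mem_inf.1 hm).2, mul_inv_cancel_right]
    have h1x : ∀ m : G, m * (1 : G) * m⁻¹ = 1 := fun m => by group
    have hi34 : i = 33 ∨ i = 42 := by
      simp only [inW, Bool.or_eq_true, Nat.beq_eq] at hiW
      rcases hiW with ((rfl | rfl) | rfl) | rfl
      · exact absurd (by rw [O.C.rels.el_zero]; exact h1x n) hnil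
      · exact absurd (h11 n hn) hnil
      · exact Or.inl rfl
      · exact Or.inr rfl
    have htwo : ∀ m ∈ K, m * P.el i * m⁻¹ = P.el i ∨ m * P.el i * m⁻¹ = n * P.el i * n⁻¹ := by
      intro m hm
      obtain ⟨k, hk, hkW, hke⟩ := hperm m hm i hi hiW
      have hgood : ∀ z, ∀ q ∈ K, inW z = true → q * P.el i * q⁻¹ = P.el z → z = 33 ∨ z = 42 := by
        intro z q hq hzW hze
        simp only [inW, Bool.or_eq_true, Nat.beq_eq] at hzW
        rcases hzW with ((rfl | rfl) | rfl) | rfl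
        · rw [O.C.rels.el_zero] at hze
          have hi1 : P.el i = P.el 0 := by rw [O.C.rels.el_zero]; exact conj_eq_one_iff.1 hze
          rw [O.C.eq_iff hi (by norm_num)] at hi1; omega
        · have hi1 : P.el i = P.el 11 := mul_left_cancel (mul_right_cancel (hze.trans (h11 q hq).symm))
          rw [O.C.eq_iff hi (by norm_num)] at hi1; omega
        · exact Or.inl rfl
        · exact Or.inr rfl
      rw [hke, hle]
      have a := hgood k m hm hkW hke
      have b := hgood l n hn hlW hle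
      have hli : l ≠ i := fun e => hnil (by rw [hle, e])
      rcases a with rfl | rfl <;> rcases b with rfl | rfl <;> rcases hi34 with rfl | rfl <;>
        first | exact Or.inl rfl | exact Or.inr rfl | exact absurd rfl hli
    set Kz := K ⊓ centralizer ({P.el i} : Set G) with hKz
    have hnKz : n ∉ Kz := fun h => hnil (mul_inv_eq_iff_eq_mul.2 (mem_centralizer_singleton_iff.1 (mem_inf.1 h).2))
    have hnn : n⁻¹ ∉ Kz := fun h => hnKz (inv_mem_iff.1 h)
    have h2 := M12Cent.mk_two_subgroup (inf_le_left : Kz ≤ K) (r := n⁻¹) (inv_mem hn) hnn fun x hx => by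
      rcases htwo x hx with e | e
      · exact Or.inl (mem_inf.2 ⟨hx, mem_centralizer_singleton_iff.2 (mul_inv_eq_iff_eq_mul.1 e)⟩)
      · refine Or.inr (mem_inf.2 ⟨mul_mem (inv_mem hn) hx, mem_centralizer_singleton_iff.2 ?_⟩)
        calc n⁻¹ * x * P.el i = n⁻¹ * (x * P.el i * x⁻¹) * x := by group
          _ = _ := by rw [e]; group
    have hAKz : A16 P ≤ Kz := fun a ha => by
      refine mem_inf.2 ⟨mem_inf.2 ⟨le_normalizer ha, hA₀ ha⟩, mem_centralizer_singleton_iff.2 ?_⟩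
      obtain ⟨k, hk, hkA, rfl⟩ := O.C.mem_A.1 ha
      have hiA := (chk_D.2.2.2.2.2.2.1 i hi hiW).1
      exact (O.C.comm_iff (by omega) hi).2 (chk_A.1 k hk hkA i (chk_A.2.2.2.2.2.2.2.1 i hi hiA) hiA).2
    have h16 := card_dvd_of_le hAKz
    rw [O.card_A] at h16
    refine hd32 ((show 2 ^ (4 + 1) ∣ Nat.card K from ?_).trans (card_dvd_of_le (inf_le_right : K ≤ Y₀)))
    rw [h2, show (2 : ℕ) ^ (4 + 1) = 2 * 16 by norm_num]
    exact mul_dvd_mul_left 2 h16

/-- The kernel of the transfer to the four group. -/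
theorem exists_K0 [Finite G] {Y₀ : Subgroup G} (hY₀le : Y₀ ≤ centralizer ({P.el 11} : Set G)) (hA₀ : A16 P ≤ Y₀)
    (hd32 : ¬ 2 ^ (4 + 1) ∣ Nat.card Y₀) :
    ∃ K₀ : Subgroup G, K₀ ≤ Y₀ ∧ (∀ g ∈ Y₀, ∀ x ∈ K₀, g * x * g⁻¹ ∈ K₀) ∧
      (∀ g ∈ Y₀, ∀ h ∈ Y₀, g * h * g⁻¹ * h⁻¹ ∈ K₀) ∧ (∀ x ∈ Y₀, ∃ i < 192, inW i = true ∧ P.el i * x ∈ K₀) ∧
      (∀ i < 192, inW i = true → P.el i ∈ K₀ → i = 0) ∧ Nat.card Y₀ = 4 * Nat.card K₀ := by
  haveI : Fact (Nat.Prime 2) := ⟨Nat.prime_two⟩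
  have hWfix := O.W_fix hY₀le hA₀ hd32
  -- transfer into `A`
  set A₀ := (A16 P).subgroupOf Y₀ with hA₀def
  have hA₀c : Nat.card A₀ = 2 ^ 4 := by
    rw [Nat.card_congr (subgroupOfEquivOfLe hA₀).toEquiv, O.card_A]; norm_num
  obtain ⟨S, hS⟩ := (IsPGroup.of_card hA₀c).exists_le_sylow
  have hSA : (S : Subgroup Y₀) = A₀ := by
    refine (eq_of_le_of_card_ge hS ?_).symm
    obtain ⟨m, hm⟩ := S.isPGroup'.exists_card_eq
    rw [hm, hA₀c]
    exact Nat.pow_le_pow_right (by norm_num) (le_of_not_gt fun hlt =>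
      hd32 ((pow_dvd_pow 2 hlt).trans (hm ▸ card_subgroup_dvd_card _)))
  have hSmem : ∀ {x : Y₀}, x ∈ (S : Subgroup Y₀) ↔ (x : G) ∈ A16 P := fun {x} => by
    rw [hSA, hA₀def, mem_subgroupOf]
  have hScomm : ∀ a b : ↥(S : Subgroup Y₀), a * b = b * a := fun a b => by
    obtain ⟨i, hi, hiA, hie⟩ := O.C.mem_A.1 (hSmem.1 a.2)
    obtain ⟨j, hj, hjA, hje⟩ := O.C.mem_A.1 (hSmem.1 b.2)
    refine Subtype.ext (Subtype.ext ?_)
    simp only [coe_mul]
    rw [← hie, ← hje]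
    exact (O.C.comm_iff (by omega) (by omega)).2 (chk_A.1 i hi hiA j hj hjA).2
  haveI hSc : IsMulCommutative ↥(S : Subgroup Y₀) := ⟨⟨hScomm⟩⟩
  letI : CommGroup ↥(S : Subgroup Y₀) := { mul_comm := hScomm }
  obtain ⟨V, hV⟩ : ∃ f : Y₀ →* ↥(S : Subgroup Y₀), f = MonoidHom.transfer (MonoidHom.id ↥(S : Subgroup Y₀)) :=
    ⟨_, rfl⟩
  have hVz : ∀ i < 192, inW i = true → ∀ h : P.el i ∈ Y₀, ((V ⟨P.el i, h⟩ : Y₀) : G) = P.el i := by
    intro i hi hiW h
    have hiA := (chk_D.2.2.2.2.2.2.1 i hi hiW).1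
    have hzA : P.el i ∈ A16 P := O.C.mem_A.2 ⟨i, chk_A.2.2.2.2.2.2.2.1 i hi hiA, hiA, rfl⟩
    set z : Y₀ := ⟨P.el i, h⟩ with hz
    have hzz : z * z = 1 :=
      Subtype.ext ((O.C.sq_iff hi).2 (chk_A.2.1 i (chk_A.2.2.2.2.2.2.2.1 i hi hiA) hiA))
    have hfus : ∀ g₀ : Y₀, g₀⁻¹ * z * g₀ ∈ (S : Subgroup Y₀) → g₀⁻¹ * z * g₀ = z := by
      intro g₀ hg₀
      obtain ⟨n, hn, he⟩ := Sylow.conj_eq_normalizer_conj_of_mem S z g₀ (hSmem.2 hzA) hg₀
      rw [he]
      have hnN : (n : G) ∈ normalizer (A16 P : Set G) := by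
        refine mem_normalizer_fintype fun a ha => ?_
        exact hSmem.1 ((mem_normalizer_iff.1 hn ⟨a, hA₀ ha⟩).1 (hSmem.2 ha))
      have := hWfix _ (inv_mem (show (n : G) ∈ normalizer (A16 P : Set G) ⊓ Y₀ from ⟨hnN, n.2⟩)) i hi hiW
      rw [inv_inv] at this
      exact Subtype.ext this
    have hpow : ∀ k : ℕ, z ^ k = 1 ∨ z ^ k = z := by
      intro k
      induction k with
      | zero => exact Or.inl (pow_zero z)
      | succ k ih => rcases ih with e | e <;> simp [pow_succ, e, hzz]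
    have key : ∀ (k : ℕ) (g₀ : Y₀), g₀⁻¹ * z ^ k * g₀ ∈ (S : Subgroup Y₀) → g₀⁻¹ * z ^ k * g₀ = z ^ k := by
      intro k g₀ hk
      rcases hpow k with e | e <;> rw [e] at hk ⊢
      · group
      · exact hfus g₀ hk
    rw [hV]
    rw [MonoidHom.transfer_eq_pow (ϕ := MonoidHom.id ↥(S : Subgroup Y₀)) z key]
    show ((z ^ (S : Subgroup Y₀).index : Y₀) : G) = P.el i
    obtain ⟨k, hk⟩ : Odd (S : Subgroup Y₀).index :=
      Nat.not_even_iff_odd.1 (fun h => S.not_dvd_index h.two_dvd)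
    rw [hk, pow_succ, pow_mul, pow_two, hzz, one_pow, one_mul]
  let W' : Subgroup ↥(S : Subgroup Y₀) :=
    { carrier := {x | ∃ i < 192, inW' i = true ∧ ((x : Y₀) : G) = P.el i}
      one_mem' := ⟨0, by norm_num, rfl, by rw [O.C.rels.el_zero]; rfl⟩
      mul_mem' := by
        rintro a b ⟨i, hi, hiW, hie⟩ ⟨j, hj, hjW, hje⟩
        refine ⟨Tc i j, O.C.lt hj, chk_D.2.2.2.2.2.2.2.2.2.2.2.1 i hi j hj hiW hjW, ?_⟩
        rw [coe_mul, coe_mul, hie, hje, O.C.mul hj]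
      inv_mem' := by
        rintro a ⟨i, hi, hiW, hie⟩
        refine ⟨i, hi, hiW, ?_⟩
        rw [coe_inv, coe_inv, hie, O.C.el_inv hi, (chk_D.2.2.2.2.2.2.2.2.2.2.1 i hi hiW).2] }
  obtain ⟨ψ, hψ⟩ : ∃ f : Y₀ →* ↥(S : Subgroup Y₀) ⧸ W', f = (QuotientGroup.mk' W').comp V := ⟨_, rfl⟩
  set K₀ := ψ.ker.map Y₀.subtype with hK₀
  have hK₀le : K₀ ≤ Y₀ := map_subtype_le _
  have hWY : ∀ {i}, i < 192 → inW i = true → P.el i ∈ Y₀ := fun {i} hi hiW => hA₀ (O.C.mem_A.2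
    ⟨i, chk_A.2.2.2.2.2.2.2.1 i hi (chk_D.2.2.2.2.2.2.1 i hi hiW).1, (chk_D.2.2.2.2.2.2.1 i hi hiW).1, rfl⟩)
  have hKmem : ∀ x, ∀ hx : x ∈ Y₀, x ∈ K₀ ↔ ψ ⟨x, hx⟩ = 1 := fun x hx =>
    ⟨fun ⟨z, hz, hze⟩ => by rw [show (⟨x, hx⟩ : Y₀) = z from Subtype.ext hze.symm]; exact hz,
      fun h => ⟨⟨x, hx⟩, h, rfl⟩⟩
  have hinter : ∀ i < 192, inW i = true → P.el i ∈ K₀ → i = 0 := fun i hi hiW h => by
    have h1 := (hKmem _ (hWY hi hiW)).1 h
    rw [show ψ ⟨P.el i, _⟩ = QuotientGroup.mk' W' (V ⟨P.el i, hWY hi hiW⟩) by rw [hψ]; rfl, QuotientGroup.mk'_apply,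
      QuotientGroup.eq_one_iff] at h1
    obtain ⟨j, hj, hjW, hje⟩ := h1
    rw [hVz i hi hiW (hWY hi hiW)] at hje
    have := O.C.inj i hi j hj hje
    subst this
    exact chk_D.2.2.2.2.2.2.2.1 i hi hiW hjW
  have hcos : ∀ q : ↥(S : Subgroup Y₀) ⧸ W',
      ∃ i : {i : ℕ // i < 192 ∧ inW i = true}, ψ ⟨P.el i.1, hWY i.2.1 i.2.2⟩ = q := by
    intro q
    obtain ⟨a, rfl⟩ := QuotientGroup.mk'_surjective W' q
    obtain ⟨k, hk, hkA, hke⟩ := O.C.mem_A.1 (hSmem.1 a.2)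
    obtain ⟨j, hj, hjW, hjk⟩ := chk_D.2.2.2.2.2.2.2.2.2.2.2.2.2.1 k (by omega) hkA
    refine ⟨⟨j, hj, hjW⟩, ?_⟩
    rw [hψ]
    show QuotientGroup.mk' W' (V ⟨P.el j, hWY hj hjW⟩) = _
    rw [QuotientGroup.mk'_apply, QuotientGroup.mk'_apply, QuotientGroup.eq]
    refine ⟨Tc j k, O.C.lt (by omega), hjk, ?_⟩
    have hjj := (O.C.sq_iff hj).2
      (chk_A.2.1 j (chk_A.2.2.2.2.2.2.2.1 j hj (chk_D.2.2.2.2.2.2.1 j hj hjW).1) (chk_D.2.2.2.2.2.2.1 j hj hjW).1)
    rw [coe_mul, coe_mul, coe_inv, coe_inv, hVz j hj hjW (hWY hj hjW), ← hke, inv_eq_of_mul_eq_one_right hjj,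
      O.C.mul (by omega)]
  have hprod : ∀ x ∈ Y₀, ∃ i < 192, inW i = true ∧ P.el i * x ∈ K₀ := fun x hx => by
    obtain ⟨⟨i, hi, hiW⟩, he⟩ := hcos (ψ ⟨x, hx⟩)⁻¹
    refine ⟨i, hi, hiW, (hKmem _ (mul_mem (hWY hi hiW) hx)).2 ?_⟩
    rw [show (⟨P.el i * x, _⟩ : Y₀) = ⟨P.el i, hWY hi hiW⟩ * ⟨x, hx⟩ from rfl, map_mul, he, inv_mul_cancel]
  have hcard4 : Nat.card Y₀ = 4 * Nat.card K₀ := by
    have hb : Function.Bijective (fun p : {i : ℕ // i < 192 ∧ inW i = true} × K₀ =>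
        (⟨P.el p.1.1 * p.2.1, mul_mem (hWY p.1.2.1 p.1.2.2) (hK₀le p.2.2)⟩ : Y₀)) := by
      refine ⟨fun a b h => ?_, fun x => ?_⟩
      · have h : P.el a.1.1 * a.2.1 = P.el b.1.1 * b.2.1 := congrArg Subtype.val h
        have ha := (hKmem _ (hK₀le a.2.2)).1 a.2.2
        have hb := (hKmem _ (hK₀le b.2.2)).1 b.2.2
        have e : ψ ⟨P.el a.1.1, hWY a.1.2.1 a.1.2.2⟩ = ψ ⟨P.el b.1.1, hWY b.1.2.1 b.1.2.2⟩ := by
          have := congrArg ψ (show (⟨P.el a.1.1, hWY a.1.2.1 a.1.2.2⟩ : Y₀) * ⟨a.2.1, hK₀le a.2.2⟩ =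
            ⟨P.el b.1.1, hWY b.1.2.1 b.1.2.2⟩ * ⟨b.2.1, hK₀le b.2.2⟩ from Subtype.ext h)
          rwa [map_mul, map_mul, ha, hb, mul_one, mul_one] at this
        have hab : a.1 = b.1 := by
          refine Subtype.ext ?_
          have h' : QuotientGroup.mk' W' (V ⟨P.el a.1.1, hWY a.1.2.1 a.1.2.2⟩) =
            QuotientGroup.mk' W' (V ⟨P.el b.1.1, hWY b.1.2.1 b.1.2.2⟩) := by rw [hψ] at e; exact e
          rw [QuotientGroup.mk'_apply, QuotientGroup.mk'_apply, QuotientGroup.eq] at h'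
          obtain ⟨k, hk, hkW, hke⟩ := h'
          obtain ⟨haA, -, -⟩ := chk_D.2.2.2.2.2.2.1 _ a.1.2.1 a.1.2.2
          have haa := (O.C.sq_iff a.1.2.1).2 (chk_A.2.1 _ (chk_A.2.2.2.2.2.2.2.1 _ a.1.2.1 haA) haA)
          rw [coe_mul, coe_mul, coe_inv, coe_inv, hVz _ a.1.2.1 a.1.2.2, hVz _ b.1.2.1 b.1.2.2,
            inv_eq_of_mul_eq_one_right haa, O.C.mul b.1.2.1, O.C.eq_iff (O.C.lt b.1.2.1) hk] at hke
          exact chk_D.2.2.2.2.2.2.2.2.2.2.2.2.1 _ a.1.2.1 _ b.1.2.1 a.1.2.2 b.1.2.2 (hke ▸ hkW)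
        obtain ⟨a1, a2⟩ := a; obtain ⟨b1, b2⟩ := b
        simp only at hab h; subst hab
        exact Prod.ext rfl (Subtype.ext (mul_left_cancel h))
      · obtain ⟨i, hi, hiW, hik⟩ := hprod x x.2
        refine ⟨(⟨i, hi, hiW⟩, ⟨_, hik⟩), Subtype.ext ?_⟩
        have hiA := (chk_D.2.2.2.2.2.2.1 i hi hiW).1
        have hii := (O.C.sq_iff hi).2 (chk_A.2.1 i (chk_A.2.2.2.2.2.2.2.1 i hi hiA) hiA)
        show P.el i * (P.el i * (x : G)) = x
        rw [← mul_assoc, hii, one_mul]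
    rw [← Nat.card_congr (Equiv.ofBijective _ hb), Nat.card_prod, M12Cent.card_range_filter,
      show (List.range 192).countP inW = 4 by decide +kernel]
  have hnormK : ∀ g ∈ Y₀, ∀ x ∈ K₀, g * x * g⁻¹ ∈ K₀ := by
    rintro g hg _ ⟨z, hz, rfl⟩
    exact ⟨⟨g, hg⟩ * z * ⟨g, hg⟩⁻¹, ψ.normal_ker.conj_mem z hz _, rfl⟩
  refine ⟨K₀, hK₀le, hnormK, fun g hg h hh => ?_, hprod, hinter, hcard4⟩
  refine (hKmem _ (mul_mem (mul_mem (mul_mem hg hh) (inv_mem hg)) (inv_mem hh))).2 ?_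
  rw [show (⟨g * h * g⁻¹ * h⁻¹, _⟩ : Y₀) = ⟨g, hg⟩ * ⟨h, hh⟩ * (⟨g, hg⟩ : Y₀)⁻¹ * (⟨h, hh⟩ : Y₀)⁻¹ from rfl,
    map_mul, map_mul, map_mul, map_inv, map_inv]
  simp [mul_comm]

/-- The Sylow subgroup of the kernel. -/
theorem card_U [Finite G] {Y₀ K₀ : Subgroup G} (hA₀ : A16 P ≤ Y₀)
    (hd8 : ¬ 2 ^ (2 + 1) ∣ Nat.card K₀) (hprod : ∀ x ∈ Y₀, ∃ i < 192, inW i = true ∧ P.el i * x ∈ K₀) :
    Nat.card ↥(A16 P ⊓ K₀) = 2 ^ 2 := by
  haveI : Fact (Nat.Prime 2) := ⟨Nat.prime_two⟩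
  set U := A16 P ⊓ K₀ with hU
  have hUc : Nat.card U = 2 ^ 2 := by
    have h4 : Nat.card U ≥ 4 := by
      choose ci h1 h2 h3 using fun a : A16 P => hprod a (hA₀ a.2)
      have hmem : ∀ a : A16 P, P.el (ci a) * a ∈ U := fun a => mem_inf.2 ⟨mul_mem (O.C.mem_A.2
        ⟨ci a, chk_A.2.2.2.2.2.2.2.1 _ (h1 a) (chk_D.2.2.2.2.2.2.1 _ (h1 a) (h2 a)).1,
          (chk_D.2.2.2.2.2.2.1 _ (h1 a) (h2 a)).1, rfl⟩) a.2, h3 a⟩
      have hinj : Function.Injective (fun a : A16 P =>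
          ((⟨ci a, h1 a, h2 a⟩, ⟨_, hmem a⟩) : {i : ℕ // i < 192 ∧ inW i = true} × U)) := by
        intro a b h
        simp only [Prod.mk.injEq, Subtype.mk.injEq] at h
        rw [h.1] at h
        exact Subtype.ext (mul_left_cancel h.2)
      haveI : Finite {i : ℕ // i < 192 ∧ inW i = true} :=
        Finite.of_injective (fun i => (⟨i.1, i.2.1⟩ : Fin 192)) fun a b h => Subtype.ext (Fin.mk.inj_iff.1 h)
      have := Nat.card_le_card_of_injective _ hinj
      rw [O.card_A, Nat.card_prod, M12Cent.card_range_filter,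
        show (List.range 192).countP inW = 4 by decide +kernel] at this
      omega
    obtain ⟨m, -, hme⟩ : ∃ m ≤ 4, Nat.card U = 2 ^ m := (Nat.dvd_prime_pow Nat.prime_two).1 (by
      have := card_dvd_of_le (inf_le_left : U ≤ A16 P)
      rw [O.card_A] at this; exact this)
    have hm2 : m ≤ 2 := le_of_not_gt fun h => hd8
      ((pow_dvd_pow 2 h).trans (hme ▸ card_dvd_of_le (inf_le_right : U ≤ K₀)))
    interval_cases m <;> omega
  exact hUc

/-- The Sylow subgroup of the kernel is the centraliser of each of its involutions. -/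
theorem cent_U [Finite G] {Y₀ K₀ : Subgroup G} (hY₀le : Y₀ ≤ centralizer ({P.el 11} : Set G))
    (hA₀ : A16 P ≤ Y₀) (hK₀le : K₀ ≤ Y₀) (hd8 : ¬ 2 ^ (2 + 1) ∣ Nat.card K₀)
    (hprod : ∀ x ∈ Y₀, ∃ i < 192, inW i = true ∧ P.el i * x ∈ K₀)
    (hinter : ∀ i < 192, inW i = true → P.el i ∈ K₀ → i = 0) :
    ∀ x ∈ A16 P ⊓ K₀, x ≠ 1 → ∀ y ∈ K₀, y * x = x * y → y ∈ A16 P ⊓ K₀ := by
    have hwY : ∀ {g}, g ∈ Y₀ → g * P.el 11 = P.el 11 * g := fun hg => mem_centralizer_singleton_iff.1 (hY₀le hg)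
    have hUc := O.card_U hA₀ hd8 hprod
    set U := A16 P ⊓ K₀ with hU
    intro x hx hx1 y hy hyx
    obtain ⟨k, hk, hkA, rfl⟩ := O.C.mem_A.1 (mem_inf.1 hx).1
    have hk' : k < 192 := by omega
    have hkW : inW k = false := Bool.eq_false_iff.2 fun h => hx1 (by
      rw [hinter k hk' h (mem_inf.1 hx).2, O.C.rels.el_zero])
    obtain ⟨v, hv, hvs, hvc⟩ : ∃ v, v * P.el 11 = P.el 11 * v ∧ IsConj P.s v ∧
        ∀ z, z * P.el 11 = P.el 11 * z → z * P.el k = P.el k * z → z * v = v * z := by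
      have hkc := chk_D.2.2.1 k hk' hkA
      rcases chk_D.2.2.2.2.2.2.2.2.1 k hk' hkA hkW with h | h
      · exact ⟨P.el k, (O.C.comm_iff hk' (by norm_num)).2 hkc, (O.conj_s_iff hk').2 h, fun z _ hz => hz⟩
      · refine ⟨P.el 11 * P.el k, ?_, ?_, fun z h1 h2 =>
          (Commute.mul_right (show Commute z (P.el 11) from h1) h2).eq⟩
        · exact (Commute.mul_left (Commute.refl (P.el 11))
            (show Commute (P.el k) (P.el 11) from (O.C.comm_iff hk' (by norm_num)).2 hkc)).eq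
        · rw [O.C.mul hk']; exact (O.conj_s_iff (O.C.lt hk')).2 h
    obtain ⟨m, hm⟩ := O.card_cent_two hvs hv
    set T := K₀ ⊓ centralizer ({P.el k} : Set G) with hT
    have hTd : Nat.card T ∣ 2 ^ m := hm ▸ card_dvd_of_le (fun z hz => by
      obtain ⟨hz1, hz2⟩ := mem_inf.1 hz
      have hzw := hwY (hK₀le hz1)
      exact mem_inf.2 ⟨mem_centralizer_singleton_iff.2 hzw,
        mem_centralizer_singleton_iff.2 (hvc z hzw (mem_centralizer_singleton_iff.1 hz2))⟩)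
    have hUT : U ≤ T := fun z hz => by
      obtain ⟨l, hl, hlA, rfl⟩ := O.C.mem_A.1 (mem_inf.1 hz).1
      exact mem_inf.2 ⟨(mem_inf.1 hz).2, mem_centralizer_singleton_iff.2
        ((O.C.comm_iff (by omega) hk').2 (chk_A.1 l hl hlA k hk hkA).2)⟩
    obtain ⟨m', -, hm'⟩ := (Nat.dvd_prime_pow Nat.prime_two).1 hTd
    have hm2 : m' ≤ 2 := le_of_not_gt fun h => hd8
      ((pow_dvd_pow 2 h).trans (hm' ▸ card_dvd_of_le (inf_le_left : T ≤ K₀)))
    have heq : U = T := eq_of_le_of_card_ge hUT (by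
      rw [hUc, hm']; exact Nat.pow_le_pow_right (by norm_num) hm2)
    exact heq ▸ mem_inf.2 ⟨hy, mem_centralizer_singleton_iff.2 hyx⟩

theorem no_complement [Finite G] {Y₀ K₀ : Subgroup G} (hY₀le : Y₀ ≤ centralizer ({P.el 11} : Set G))
    (hA₀ : A16 P ≤ Y₀) (hK₀le : K₀ ≤ Y₀) (hd8 : ¬ 2 ^ (2 + 1) ∣ Nat.card K₀)
    (hnormK : ∀ g ∈ Y₀, ∀ x ∈ K₀, g * x * g⁻¹ ∈ K₀) (hK12 : 12 ≤ Nat.card K₀) :
    ¬ Cfsg.HasNormalPComplement 2 K₀ := by
    haveI : Fact (Nat.Prime 2) := ⟨Nat.prime_two⟩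
    have hwY : ∀ {g}, g ∈ Y₀ → g * P.el 11 = P.el 11 * g := fun hg => mem_centralizer_singleton_iff.1 (hY₀le hg)
    rintro ⟨R, N, hN, hcompl⟩
    have hcm : Nat.card N * Nat.card (R : Subgroup K₀) = Nat.card K₀ := hcompl.card_mul
    obtain ⟨m, hm⟩ := R.isPGroup'.exists_card_eq
    have hRidx : (R : Subgroup K₀).index = Nat.card N := hcompl.index_eq_card
    have hodd : Odd (Nat.card N) := by
      rw [← Nat.not_even_iff_odd, even_iff_two_dvd]
      exact fun h => R.not_dvd_index (by rwa [hRidx])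
    have hm2 : m ≤ 2 := le_of_not_gt fun h => hd8
      ((pow_dvd_pow 2 h).trans (hcm ▸ hm ▸ dvd_mul_left _ _))
    have hOc : Odd (Nat.card (N.map K₀.subtype)) := by rwa [card_map_of_injective K₀.subtype_injective]
    have hodd_mem : ∀ x : K₀, Odd (orderOf x) → x ∈ N := by
      intro x hx
      haveI := hN
      have h1 : orderOf (QuotientGroup.mk' N x) ∣ 2 ^ m := by
        have h' := orderOf_dvd_natCard (QuotientGroup.mk' N x)
        rw [← index_eq_card] at h'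
        have hidx : N.index = 2 ^ m := by
          have h'' := N.card_mul_index
          rw [← hcm, hm] at h''
          exact Nat.eq_of_mul_eq_mul_left Nat.card_pos h''
        rwa [hidx] at h'
      have h2 := orderOf_map_dvd (QuotientGroup.mk' N) x
      have := Nat.eq_one_of_dvd_coprimes (hx.coprime_two_left.pow_left m) h1 h2
      rwa [orderOf_eq_one_iff, QuotientGroup.mk'_apply, QuotientGroup.eq_one_iff] at this
    have hn : ∀ g ∈ Y₀, ∀ x ∈ N.map K₀.subtype, g * x * g⁻¹ ∈ N.map K₀.subtype := by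
      rintro g hg _ ⟨z, hz, rfl⟩
      refine ⟨⟨_, hnormK g hg _ z.2⟩, hodd_mem _ ?_, rfl⟩
      have hzo : Odd (orderOf z) := hodd.of_dvd_nat (N.orderOf_dvd_natCard hz)
      rw [← Subgroup.orderOf_coe] at hzo
      rw [← Subgroup.orderOf_coe]
      show Odd (orderOf (g * (z : G) * g⁻¹))
      rwa [show (g * (z : G) * g⁻¹) = MulAut.conj g z from rfl, MulEquiv.orderOf_eq]
    have hfix : ∀ e < 64, inA e = true → isS e = true → ∀ x ∈ N.map K₀.subtype,
        x * P.el e = P.el e * x → x = 1 := by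
      intro e he heA heS x hx hxe
      obtain ⟨k, hk⟩ := O.card_cent_two ((O.conj_s_iff (show e < 192 by omega)).2 heS)
        ((O.C.comm_iff (by omega) (by norm_num)).2 (chk_D.2.2.1 e (by omega) heA))
      have h1 : orderOf x ∣ 2 ^ k := hk ▸ Subgroup.orderOf_dvd_natCard _ (mem_inf.2
        ⟨mem_centralizer_singleton_iff.2 (hwY (hK₀le (map_subtype_le _ hx))),
          mem_centralizer_singleton_iff.2 hxe⟩)
      exact orderOf_eq_one_iff.1 (Nat.eq_one_of_dvd_coprimes (hOc.coprime_two_left.pow_left k) h1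
        (Subgroup.orderOf_dvd_natCard _ hx))
    have hA1 : P.s ∈ Y₀ := hA₀ (O.C.mem_A.2 ⟨1, by norm_num, rfl, el_one P⟩)
    have hA2 : P.el 2 ∈ Y₀ := hA₀ (O.C.mem_A.2 ⟨2, by norm_num, rfl, rfl⟩)
    have htriv := M12Cent.odd_trivial O.C.hyp.s_sq
      ((O.C.sq_iff (show 2 < 192 by norm_num)).2 (by decide +kernel)) (hn _ hA1) (hn _ hA2)
      (fun x hx h => hfix 1 (by norm_num) rfl (by decide +kernel) x hx (by rw [el_one]; exact h))
      (hfix 2 (by norm_num) rfl (by decide +kernel)) (fun x hx h => hfix 3 (by norm_num) rfl (by decide +kernel) x hx (by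
        rw [show 3 = Tc 1 2 by decide +kernel, ← O.C.mul (by norm_num), el_one]; exact h))
    have hN1 : Nat.card N = 1 := by
      rw [card_eq_one, eq_bot_iff_forall]
      exact fun x hx => Subtype.ext (htriv _ ⟨x, hx, rfl⟩)
    rw [hN1, one_mul, hm] at hcm
    interval_cases m <;> omega

/-- The subgroup of index two is the product of the four group with a group of order 12 or 60. -/
theorem Y_cases [Finite G] :
    Nat.card (centralizer ({P.el 11} : Set G)) = 96 ∨ ∃ Y₀ K₀ : Subgroup G, Wide P Y₀ K₀ := by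
  haveI : Fact (Nat.Prime 2) := ⟨Nat.prime_two⟩
  obtain ⟨Y₀, hY₀le, hA₀, h20, hcY, hcover, hd32, hnormY⟩ := O.exists_Y0
  have hNA := O.card_NA_Y0 hY₀le h20 hcover
  obtain ⟨K₀, hK₀le, hnormK, hcomm, hprod, hinter, hcard4⟩ := O.exists_K0 hY₀le hA₀ hd32
  have hd8 : ¬ 2 ^ (2 + 1) ∣ Nat.card K₀ := fun h => hd32 (by
    rw [hcard4, show (2 : ℕ) ^ (4 + 1) = 4 * 2 ^ (2 + 1) by norm_num]; exact mul_dvd_mul_left 4 h)
  have hUc := O.card_U hA₀ hd8 hprod
  have hUeq := O.cent_U hY₀le hA₀ hK₀le hd8 hprod hinter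
  have hK12 : 12 ≤ Nat.card K₀ := by
    have := card_le_of_le (inf_le_right : normalizer (A16 P : Set G) ⊓ Y₀ ≤ Y₀)
    omega
  have hnc := O.no_complement hY₀le hA₀ hK₀le hd8 hnormK hK12
  set U := A16 P ⊓ K₀ with hU
  obtain ⟨xu, hxu, hxu1⟩ : ∃ x ∈ U, x ≠ 1 := by
    by_contra h
    push Not at h
    have : U = ⊥ := eq_bot_iff_forall _ |>.2 h
    rw [this, card_bot] at hUc; norm_num at hUc
  have hUsq : ∀ y ∈ U, y * y = 1 := fun y hy => by
    obtain ⟨l, hl, hlA, rfl⟩ := O.C.mem_A.1 (mem_inf.1 hy).1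
    exact (O.C.sq_iff (by omega)).2 (chk_A.2.1 l hl hlA)
  have hU2 : orderOf xu = 2 := orderOf_eq_prime (by rw [pow_two]; exact hUsq xu hxu) hxu1
  have hUcomm : ∀ a ∈ U, ∀ b ∈ U, a * b = b * a := fun a ha b hb => by
    obtain ⟨i, hi, hiA, rfl⟩ := O.C.mem_A.1 (mem_inf.1 ha).1
    obtain ⟨j, hj, hjA, rfl⟩ := O.C.mem_A.1 (mem_inf.1 hb).1
    exact (O.C.comm_iff (by omega) (by omega)).2 (chk_A.1 i hi hiA j hj hjA).2
  have hUK : U.subgroupOf K₀ = centralizer ({(⟨xu, (mem_inf.1 hxu).2⟩ : K₀)} : Set K₀) := by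
    ext y
    rw [mem_subgroupOf, mem_centralizer_singleton_iff, ← Subtype.val_inj]
    exact ⟨fun hy => hUcomm _ hy _ hxu, fun h => hUeq xu hxu hxu1 _ y.2 h⟩
  have hUKc : Nat.card (U.subgroupOf K₀) = 2 ^ 2 := by
    rw [Nat.card_congr (subgroupOfEquivOfLe inf_le_right).toEquiv, hUc]
  by_cases hne : ∀ E : Subgroup K₀, E.Normal → Cfsg.IsElementaryAbelian 2 E → Nat.card E ≠ 2 ∧ Nat.card E ≠ 4
  · right
    obtain ⟨e⟩ := S3277.result (⟨xu, (mem_inf.1 hxu).2⟩ : K₀) (by rw [← Subgroup.orderOf_coe]; exact hU2)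
      (by rw [← hUK, hUKc]; norm_num)
      (fun c hc => by
        rw [← hUK, mem_subgroupOf] at hc
        exact Subtype.ext (by rw [coe_pow, pow_two]; exact hUsq _ hc))
      hnc hne
    have h60 : Nat.card K₀ = 60 := by
      rw [Nat.card_congr e.toEquiv, nat_card_alternatingGroup, Nat.card_fin]; rfl
    exact ⟨Y₀, K₀, hY₀le, hA₀, h20, hcover, hnormY, hK₀le, hnormK, hcomm, hprod, hinter, by omega, by omega, ⟨e⟩⟩
  · left
    push Not at hne
    obtain ⟨E, hE, hEab, hE24⟩ := hne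
    have hEc : Nat.card E = 2 ∨ Nat.card E = 4 := by tauto
    have hEU : E ≤ U.subgroupOf K₀ := by
      obtain ⟨R, hR⟩ := (IsPGroup.of_card hUKc).exists_le_sylow
      have hRU : (R : Subgroup K₀) = U.subgroupOf K₀ := by
        refine (eq_of_le_of_card_ge hR ?_).symm
        obtain ⟨m, hm⟩ := R.isPGroup'.exists_card_eq
        rw [hm, hUKc]
        exact Nat.pow_le_pow_right (by norm_num) (le_of_not_gt fun hlt =>
          hd8 ((pow_dvd_pow 2 hlt).trans (hm ▸ card_subgroup_dvd_card _)))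
      obtain ⟨k, hk⟩ : ∃ k, Nat.card E = 2 ^ k := by
        rcases hEc with h | h
        · exact ⟨1, h⟩
        · exact ⟨2, h⟩
      obtain ⟨R', hR'⟩ := (IsPGroup.of_card hk).exists_le_sylow
      obtain ⟨g, hg⟩ := MulAction.exists_smul_eq K₀ R' R
      intro z hz
      rw [← hRU, ← hg]
      have h : g⁻¹ * z * g ∈ (R' : Subgroup K₀) := hR' (by
        have := hE.conj_mem z hz g⁻¹
        rwa [inv_inv] at this)
      have h' := Subgroup.smul_mem_pointwise_smul _ (MulAut.conj g) _ h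
      rwa [MulAut.smul_def, MulAut.conj_apply, show g * (g⁻¹ * z * g) * g⁻¹ = z by group] at h'
    obtain ⟨⟨z, hzE⟩, hz⟩ := exists_prime_orderOf_dvd_card' (G := E) 2 (by rcases hEc with h | h <;> simp [h])
    rw [← Subgroup.orderOf_coe] at hz
    change orderOf z = 2 at hz
    have hzU : (z : G) ∈ U := mem_subgroupOf.1 (hEU hzE)
    have hz1 : (z : G) ≠ 1 := fun h => by
      rw [show z = 1 from Subtype.ext h, orderOf_one] at hz; omega
    classical
    haveI : Fintype {v : K₀ // v ∈ E ∧ v ≠ 1} := Fintype.ofFinite _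
    have hE3 : Nat.card {v : K₀ // v ∈ E ∧ v ≠ 1} ≤ 3 := by
      have hlt : Nat.card {v : K₀ // v ∈ E ∧ v ≠ 1} < Nat.card E := by
        let j : {v : K₀ // v ∈ E ∧ v ≠ 1} → E := fun v => ⟨v.1, v.2.1⟩
        haveI : Fintype E := Fintype.ofFinite _
        rw [Nat.card_eq_fintype_card, Nat.card_eq_fintype_card]
        exact Fintype.card_lt_of_injective_of_notMem j
          (fun a b h => Subtype.ext (congrArg (fun q : E => (q : K₀)) h)) (b := 1)
          fun ⟨v, hv⟩ => v.2.2 (congrArg (fun q : E => (q : K₀)) hv)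
      rcases hEc with h | h <;> omega
    have hz' : ∀ g : K₀, g * z * g⁻¹ ∈ E ∧ g * z * g⁻¹ ≠ 1 := fun g =>
      ⟨hE.conj_mem z hzE g, fun h => hz1 (congrArg Subtype.val (conj_eq_one_iff.1 h) :)⟩
    let f : K₀ → {v : K₀ // v ∈ E ∧ v ≠ 1} := fun g => ⟨g * z * g⁻¹, hz' g⟩
    choose c hc using fun v : {v : K₀ // v ∈ E ∧ v ≠ 1} =>
      (show ∃ g : K₀, (∃ g', f g' = v) → f g = v from by
        by_cases h : ∃ g', f g' = v
        · exact ⟨h.choose, fun _ => h.choose_spec⟩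
        · exact ⟨1, fun h' => absurd h' h⟩)
    have hfixU : ∀ g : K₀, (c (f g))⁻¹ * g ∈ U.subgroupOf K₀ := fun g => by
      refine mem_subgroupOf.2 (hUeq _ hzU hz1 _ ((c (f g))⁻¹ * g).2 ?_)
      have e := congrArg Subtype.val (hc (f g) ⟨g, rfl⟩)
      generalize c (f g) = v at e
      have e' : v⁻¹ * g * z = z * (v⁻¹ * g) := by
        calc v⁻¹ * g * z = v⁻¹ * (g * z * g⁻¹) * g := by group
          _ = v⁻¹ * (v * z * v⁻¹) * g := by rw [show v * z * v⁻¹ = g * z * g⁻¹ from e]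
          _ = _ := by group
      exact congrArg Subtype.val e'
    have hinjf : Function.Injective (fun g : K₀ =>
        ((f g, ⟨_, hfixU g⟩) : {v : K₀ // v ∈ E ∧ v ≠ 1} × U.subgroupOf K₀)) := fun a b h => by
      simp only [Prod.mk.injEq, Subtype.mk.injEq] at h
      rw [h.1] at h
      exact mul_left_cancel h.2
    have := Nat.card_le_card_of_injective _ hinjf
    rw [Nat.card_prod, hUKc] at this
    have h12 : Nat.card K₀ = 12 := by
      have : Nat.card {v : K₀ // v ∈ E ∧ v ≠ 1} * 2 ^ 2 ≤ 3 * 2 ^ 2 := Nat.mul_le_mul_right _ hE3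
      omega
    omega

/-- If the centraliser of the second involution has order 96, the group is the subgroup. -/
theorem eq_top_of_small [Finite G] {G₀ : Subgroup G} (B : Big P G₀)
    (hY : Nat.card (centralizer ({P.el 11} : Set G)) = 96) : G₀ = ⊤ := by
  have hN : normalizer (A16 P : Set G) ⊓ centralizer ({P.el 11} : Set G) = centralizer ({P.el 11} : Set G) :=
    eq_of_le_of_card_ge inf_le_right (by rw [hY]; exact O.card_NA_w)
  have hYG : centralizer ({P.el 11} : Set G) ≤ G₀ := by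
    rw [← hN]; exact inf_le_left.trans (O.normA_le B)
  obtain ⟨U, hUc, hUle, hU⟩ := O.syl_sub B
  -- centralisers of involutions of the subgroup stay inside
  have hin : ∀ v ∈ G₀, orderOf v = 2 → centralizer ({v} : Set G) ≤ G₀ := by
    intro v hv hv2
    obtain ⟨m, hm, hmU⟩ := M12Cent.exists_conj_into hUle hUc (by rw [B.card]; norm_num) hv hv2
    obtain ⟨i, hi, hie⟩ := hU.1 hmU
    have hi' : i < 192 := by omega
    have hii : isInv i = true := (O.C.orderOf_el hi').1 (by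
      rw [hie, ← MulAut.conj_apply, MulEquiv.orderOf_eq, hv2])
    cases hS : isS i
    swap
    · exact O.cent_class_le B hv (((O.conj_s_iff hi').2 hS).trans (hie ▸ (isConj_iff.2 ⟨m, rfl⟩ : IsConj v _).symm))
    -- conjugate to the second involution inside the subgroup
    have hin11 : ∃ k ∈ G₀, k * P.el 11 * k⁻¹ = P.el i := by
      obtain ⟨y, hy, hc⟩ := chk_isS.2.1 i hi' hii hS
      obtain ⟨hye, -⟩ := O.C.el_conj hy hi'
      rcases hc with e | e <;> rw [e] at hye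
      · exact ⟨(P.el y)⁻¹, inv_mem (O.el_mem B hy), by rw [← hye]; group⟩
      · obtain ⟨w, hw, h1, h2, j, hj, h3⟩ := O.C.exists_swap
        have hj192 : j < 192 := by rcases hj with rfl | rfl | rfl | rfl <;> norm_num
        obtain ⟨-, -, e11, t32, -, t34, -⟩ := chk_outer
        have himg : w * P.el 11 * w⁻¹ = P.el (Tc (Tc 2 1) j) := by
          rw [← e11, ← O.C.mul (show 8 < 192 by norm_num), ← O.C.mul (show 2 < 192 by norm_num), el_one,
            ← O.C.mul hj192, ← O.C.mul (show 1 < 192 by norm_num), el_one]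
          calc w * (P.s * P.el 2 * P.el 8) * w⁻¹ = w * P.s * w⁻¹ * (w * P.el 2 * w⁻¹) * (w * P.el 8 * w⁻¹) := by
                group
            _ = _ := by rw [h1, h2, h3]
        have hjS : isS j = true := (O.conj_s_iff hj192).1 (O.h8.trans (isConj_iff.2 ⟨w, h3⟩))
        rcases hj with rfl | rfl | rfl | rfl
        · rw [t32] at himg
          obtain ⟨z, hz, hze⟩ := (chk_outer.2.1 : ∃ y < 192, cj y 35 = 33)
          obtain ⟨hz', -⟩ := O.C.el_conj hz (show 35 < 192 by norm_num)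
          rw [hze] at hz'
          refine ⟨(P.el y)⁻¹ * (P.el z * w),
            mul_mem (inv_mem (O.el_mem B hy)) (mul_mem (O.el_mem B hz) (B.hM hw)), ?_⟩
          rw [CType.conj_mul', CType.conj_mul', himg, hz', ← hye]; group
        · exact absurd hjS (by decide +kernel)
        · rw [t34] at himg
          refine ⟨(P.el y)⁻¹ * w, mul_mem (inv_mem (O.el_mem B hy)) (B.hM hw), ?_⟩
          rw [CType.conj_mul', himg, ← hye]; group
        · exact absurd hjS (by decide +kernel)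
    obtain ⟨k, hk, hke⟩ := hin11
    rw [hie] at hke
    intro y hy
    have h : k⁻¹ * (m * y * m⁻¹) * k ∈ centralizer ({P.el 11} : Set G) := by
      rw [mem_centralizer_singleton_iff]
      have hyv := mem_centralizer_singleton_iff.1 hy
      calc k⁻¹ * (m * y * m⁻¹) * k * P.el 11 = k⁻¹ * (m * y * m⁻¹ * (k * P.el 11 * k⁻¹)) * k := by group
        _ = k⁻¹ * (m * (y * v) * m⁻¹) * k := by rw [hke]; group
        _ = k⁻¹ * ((m * v * m⁻¹) * (m * y * m⁻¹)) * k := by rw [hyv]; group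
        _ = _ := by rw [← hke]; group
    have h' := (mul_mem_cancel_right hk).1 (hYG h)
    exact (mul_mem_cancel_left hm).1 ((mul_mem_cancel_right (inv_mem hm)).1
      ((mul_mem_cancel_left (inv_mem hk)).1 h'))
  rw [eq_top_iff]
  intro g _
  refine O.mem_of_conj B ?_
  by_contra hy
  set y := g * P.s * g⁻¹ with hyd
  have hy2 : orderOf y = 2 := by rw [hyd, ← MulAut.conj_apply, MulEquiv.orderOf_eq, O.C.hyp.s_two]
  rcases Nat.even_or_odd (orderOf (y * P.el 11)) with he | ho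
  · obtain ⟨hc1, hc2⟩ := Invol.half_commute hy2 O.w_two he
    have hz2 := Invol.half_order hy2 O.w_two he (orderOf_pos _)
    have hzG := hYG (mem_centralizer_singleton_iff.2 hc2)
    exact hy (hin _ hzG hz2 (mem_centralizer_singleton_iff.2 hc1.symm))
  · obtain ⟨d, -, hd⟩ := Invol.conj_of_odd hy2 O.w_two ho
    exact O.h11 ((isConj_iff.2 ⟨g, hyd.symm⟩ : IsConj P.s y).trans (isConj_iff.2 ⟨d, hd⟩))

end One

end Cfsg.Agent.S3Extra
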