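import Cfsg.Agent.Lib.S3Extra.AltEight
import Cfsg.Agent.Lib.M12Cent.CaseOne
import Mathlib.GroupTheory.GroupAction.Quotient
import Mathlib.GroupTheory.Index

/-!
A group with a subgroup `A₈` holding the centraliser of the central involution, in which the centraliser of the other
involution has order 480: the subgroup has index nine.
-/

set_option autoImplicit false
set_option linter.style.haveILetI false

namespace Cfsg.Agent.S3Extra

open Equiv Equiv.Perm Subgroup

variable {G : Type*} [Group G]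

/-- The hypotheses. -/
structure NineData (G₀ : Subgroup G) (s w : G) (K : Subgroup G) : Prop where
  iso : Nonempty (alternatingGroup (Fin 8) ≃* G₀)
  s_two : orderOf s = 2
  w_two : orderOf w = 2
  s_mem : s ∈ G₀
  w_mem : w ∈ G₀
  cent_s : centralizer ({s} : Set G) ≤ G₀
  card_s : Nat.card (centralizer ({s} : Set G)) = 192
  self : ∀ g, g * s * g⁻¹ ∈ G₀ → g ∈ G₀
  nc : ¬ IsConj s w
  h128 : ¬ 2 ^ (6 + 1) ∣ Nat.card G
  card_w : Nat.card (centralizer ({w} : Set G)) = 480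
  K_le : K ≤ centralizer ({w} : Set G)
  normK : ∀ g ∈ centralizer ({w} : Set G), ∀ x ∈ K, g * x * g⁻¹ ∈ K
  K_card : Nat.card K = 60
  K_simple : IsSimpleGroup K
  K_three : ∀ x ∈ centralizer ({w} : Set G), x * x * x = 1 → x ∈ K

/-- A faithful representation of `G₀` as the even permutations of eight letters. -/
structure NineChart (G₀ : Subgroup G) (ψ : G₀ →* Perm (Fin 8)) : Prop where
  inj : Function.Injective ψ
  even : ∀ g, sign (ψ g) = 1
  surj : ∀ σ : Perm (Fin 8), sign σ = 1 → ∃ g, ψ g = σ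

namespace NineData

variable {G₀ : Subgroup G} {s w : G} {K : Subgroup G} (D : NineData G₀ s w K)

theorem chart_conj {ψ : G₀ →* Perm (Fin 8)} (h : NineChart G₀ ψ) (τ : Perm (Fin 8)) :
    NineChart G₀ ((MulAut.conj τ).toMonoidHom.comp ψ) where
  inj := (MulAut.conj τ).injective.comp h.inj
  even g := by simp [h.even g]
  surj σ hσ := by
    obtain ⟨g, hg⟩ := h.surj (τ⁻¹ * σ * τ) (by simp [hσ])
    exact ⟨g, by simp [hg]; group⟩

theorem cent_card {ψ : G₀ →* Perm (Fin 8)} (h : NineChart G₀ ψ) (v : G₀) :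
    Nat.card ↥(centralizer ({(v : G)} : Set G) ⊓ G₀) =
      Nat.card {τ : Perm (Fin 8) // sign τ = 1 ∧ τ * ψ v = ψ v * τ} := by
  refine Nat.card_congr (Equiv.ofBijective (fun g => ⟨ψ ⟨g.1, g.2.2⟩, h.even _, ?_⟩) ⟨fun a b e => ?_, fun τ => ?_⟩)
  · rw [← map_mul, ← map_mul]
    exact congrArg ψ (Subtype.ext (mem_centralizer_singleton_iff.1 g.2.1))
  · exact Subtype.ext (congrArg Subtype.val (h.inj (congrArg Subtype.val e)) :)
  · obtain ⟨g, hg⟩ := h.surj τ.1 τ.2.1
    refine ⟨⟨g.1, mem_centralizer_singleton_iff.2 ?_, g.2⟩, Subtype.ext hg⟩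
    have := τ.2.2
    rw [← hg, ← map_mul, ← map_mul] at this
    exact congrArg Subtype.val (h.inj this)

include D

theorem exists_chart : ∃ ψ : G₀ →* Perm (Fin 8), NineChart G₀ ψ := by
  obtain ⟨e⟩ := D.iso
  refine ⟨(alternatingGroup (Fin 8)).subtype.comp e.symm.toMonoidHom,
    (alternatingGroup (Fin 8)).subtype_injective.comp e.symm.injective, fun g => (e.symm g).2, fun σ hσ =>
      ⟨e ⟨σ, hσ⟩, by simp⟩⟩

theorem cent_s_card : Nat.card ↥(centralizer ({s} : Set G) ⊓ G₀) = 192 := by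
  rw [inf_eq_left.2 D.cent_s, D.card_s]

/-- The two kinds of involutions. -/
theorem types [Finite G] {ψ : G₀ →* Perm (Fin 8)} (h : NineChart G₀ ψ) :
    (ψ ⟨s, D.s_mem⟩).cycleType = Multiset.replicate 4 2 ∧
    (ψ ⟨w, D.w_mem⟩).cycleType = Multiset.replicate 2 2 ∧
    Nat.card ↥(centralizer ({w} : Set G) ⊓ G₀) = 96 := by
  have ho : ∀ v : G₀, orderOf (v : G) = 2 → orderOf (ψ v) = 2 := fun v hv => by
    rw [orderOf_injective ψ h.inj, ← Subgroup.orderOf_coe, hv]
  have h1 := ho ⟨s, D.s_mem⟩ D.s_two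
  have h2 := ho ⟨w, D.w_mem⟩ D.w_two
  have hs : Nat.card ↥(centralizer ({s} : Set G) ⊓ G₀) = _ := cent_card h ⟨s, D.s_mem⟩
  have hw : Nat.card ↥(centralizer ({w} : Set G) ⊓ G₀) = _ := cent_card h ⟨w, D.w_mem⟩
  rw [D.cent_s_card] at hs
  have hdvd : Nat.card ↥(centralizer ({w} : Set G) ⊓ G₀) ∣ 480 :=
    D.card_w ▸ card_dvd_of_le inf_le_left
  rcases Eight.cycleType_invol h2 (h.even _) with e | e
  · refine ⟨(Eight.cycleType_invol h1 (h.even _)).resolve_left fun e' => ?_, e,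
      hw.trans ((Eight.card_cent_two h2).1 e)⟩
    rw [(Eight.card_cent_two h1).1 e'] at hs
    omega
  · rw [hw, (Eight.card_cent_two h2).2 e] at hdvd
    omega

/-- Every involution of `G₀` is conjugate in it to one of the two. -/
theorem classes [Finite G] {v : G} (hv : v ∈ G₀) (hv2 : orderOf v = 2) :
    ∃ g ∈ G₀, g * s * g⁻¹ = v ∨ g * w * g⁻¹ = v := by
  obtain ⟨ψ, h⟩ := D.exists_chart
  obtain ⟨hs, hw, -⟩ := D.types h
  have key : ∀ (a : G) (ha : a ∈ G₀), orderOf a = 2 → (ψ ⟨a, ha⟩).cycleType = (ψ ⟨v, hv⟩).cycleType →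
      ∃ g ∈ G₀, g * a * g⁻¹ = v := fun a ha ha2 he => by
    obtain ⟨τ, hτ, hτe⟩ := Eight.exists_even_conj (by
      rw [orderOf_injective ψ h.inj, ← Subgroup.orderOf_coe, ha2]) he
    obtain ⟨g, rfl⟩ := h.surj τ hτ
    rw [← map_inv, ← map_mul, ← map_mul] at hτe
    exact ⟨g, g.2, congrArg Subtype.val (h.inj hτe)⟩
  rcases Eight.cycleType_invol (σ := ψ ⟨v, hv⟩)
    (by rw [orderOf_injective ψ h.inj, ← Subgroup.orderOf_coe, hv2]) (h.even _) with e | e
  · obtain ⟨g, hg, hge⟩ := key w D.w_mem D.w_two (hw.trans e.symm)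
    exact ⟨g, hg, Or.inr hge⟩
  · obtain ⟨g, hg, hge⟩ := key s D.s_mem D.s_two (hs.trans e.symm)
    exact ⟨g, hg, Or.inl hge⟩

/-- A subgroup containing `G₀` and the centraliser of `w` is everything. -/
theorem eq_top [Finite G] {H : Subgroup G} (hG : G₀ ≤ H) (hY : centralizer ({w} : Set G) ≤ H) : H = ⊤ := by
  haveI : Fact (Nat.Prime 2) := ⟨Nat.prime_two⟩
  -- a Sylow subgroup inside `G₀`
  have h64 : 2 ^ 6 ∣ Nat.card (centralizer ({s} : Set G)) := by rw [D.card_s]; norm_num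
  obtain ⟨U, hUc⟩ := Sylow.exists_subgroup_card_pow_prime 2 h64
  set U' := U.map (centralizer ({s} : Set G)).subtype with hU'
  have hU'c : Nat.card U' = 2 ^ 6 := by
    rw [hU', card_map_of_injective (centralizer ({s} : Set G)).subtype_injective, hUc]
  have hU'G : U' ≤ G₀ := (map_subtype_le _).trans D.cent_s
  -- centralisers of its involutions
  have hin : ∀ v ∈ H, orderOf v = 2 → centralizer ({v} : Set G) ≤ H := by
    intro v hv hv2
    obtain ⟨m, hm, hmU⟩ := M12Cent.exists_conj_into (hU'G.trans hG) hU'c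
      (fun h => D.h128 (h.trans (card_subgroup_dvd_card H))) hv hv2
    have hmv : orderOf (m * v * m⁻¹) = 2 := by rw [← MulAut.conj_apply, MulEquiv.orderOf_eq, hv2]
    obtain ⟨g, hg, he⟩ := D.classes (hU'G hmU) hmv
    have key : ∀ a : G, centralizer ({a} : Set G) ≤ H → g * a * g⁻¹ = m * v * m⁻¹ →
        centralizer ({v} : Set G) ≤ H := fun a ha he y hy => by
      have hyv := mem_centralizer_singleton_iff.1 hy
      have h' : g⁻¹ * (m * y * m⁻¹) * g ∈ H := ha (mem_centralizer_singleton_iff.2 (by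
        calc g⁻¹ * (m * y * m⁻¹) * g * a = g⁻¹ * (m * y * m⁻¹ * (g * a * g⁻¹)) * g := by group
          _ = g⁻¹ * (m * (y * v) * m⁻¹) * g := by rw [he]; group
          _ = g⁻¹ * ((m * v * m⁻¹) * (m * y * m⁻¹)) * g := by rw [hyv]; group
          _ = _ := by rw [← he]; group))
      exact (mul_mem_cancel_left hm).1 ((mul_mem_cancel_right (inv_mem hm)).1
        ((mul_mem_cancel_left (inv_mem (hG hg))).1 ((mul_mem_cancel_right (hG hg)).1 h')))
    rcases he with he | he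
    · exact key s (D.cent_s.trans hG) he
    · exact key w hY he
  rw [eq_top_iff]
  intro g _
  have hgs : g * s * g⁻¹ ∈ H := by
    by_contra hy
    set y := g * s * g⁻¹ with hyd
    have hy2 : orderOf y = 2 := by rw [hyd, ← MulAut.conj_apply, MulEquiv.orderOf_eq, D.s_two]
    rcases Nat.even_or_odd (orderOf (y * w)) with he | ho
    · obtain ⟨hc1, hc2⟩ := Invol.half_commute hy2 D.w_two he
      have hz2 := Invol.half_order hy2 D.w_two he (orderOf_pos _)
      exact hy (hin _ (hY (mem_centralizer_singleton_iff.2 hc2)) hz2 (mem_centralizer_singleton_iff.2 hc1.symm))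
    · obtain ⟨d, -, hd⟩ := Invol.conj_of_odd hy2 D.w_two ho
      exact D.nc ((isConj_iff.2 ⟨g, hyd.symm⟩ : IsConj s y).trans (isConj_iff.2 ⟨d, hd⟩))
  -- the involution is fused inside `H` only
  obtain ⟨m, hm, hmU⟩ := M12Cent.exists_conj_into (hU'G.trans hG) hU'c
    (fun h => D.h128 (h.trans (card_subgroup_dvd_card H))) hgs
    (by rw [← MulAut.conj_apply, MulEquiv.orderOf_eq, D.s_two])
  have := hG (D.self (m * g) (by
    rw [show m * g * s * (m * g)⁻¹ = m * (g * s * g⁻¹) * m⁻¹ by group]; exact hU'G hmU))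
  exact (mul_mem_cancel_left hm).1 this

/-- The fixed points of `w` form one orbit of its centraliser. -/
theorem fixed [Finite G] {x : G ⧸ G₀} (hx : w • x = x) :
    ∃ y ∈ centralizer ({w} : Set G), y • ((1 : G) : G ⧸ G₀) = x := by
  induction x using QuotientGroup.induction_on with
  | H h =>
    rw [MulAction.Quotient.smul_coe, smul_eq_mul, QuotientGroup.eq] at hx
    have hu : h⁻¹ * w * h ∈ G₀ := by
      have := inv_mem hx
      rwa [mul_inv_rev, inv_inv, ← mul_assoc] at this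
    have hu2 : orderOf (h⁻¹ * w * h) = 2 := by
      have := (MulEquiv.orderOf_eq (MulAut.conj h⁻¹) w).trans D.w_two
      rwa [MulAut.conj_apply, inv_inv] at this
    obtain ⟨g, hg, he | he⟩ := D.classes hu hu2
    · exact absurd ((isConj_iff.2 ⟨g, he⟩ : IsConj s _).trans (isConj_iff.2 ⟨h, by group⟩)) D.nc
    · refine ⟨h * g, mem_centralizer_singleton_iff.2 ?_, ?_⟩
      · calc h * g * w = h * (g * w * g⁻¹) * g := by group
          _ = _ := by rw [he]; group
      · rw [MulAction.Quotient.smul_coe, smul_eq_mul, mul_one, QuotientGroup.eq,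
          show (h * g)⁻¹ * h = g⁻¹ by group]
        exact inv_mem hg

/-- The index. -/
theorem card_eq [Finite G] : Nat.card G = 181440 := by
  classical
  set Y := centralizer ({w} : Set G) with hYdef
  set α : G ⧸ G₀ := ((1 : G) : G ⧸ G₀) with hα
  have hstab : ∀ g : G, g • α = α ↔ g ∈ G₀ := fun g => by
    rw [hα, MulAction.Quotient.smul_coe, smul_eq_mul, mul_one, QuotientGroup.eq, mul_one, inv_mem_iff]
  obtain ⟨ψ₁, h₁⟩ := D.exists_chart
  obtain ⟨-, hw₁, h96⟩ := D.types h₁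
  -- the orbit of five points
  let O5 := MulAction.orbit Y α
  let αo : O5 := ⟨α, MulAction.mem_orbit_self α⟩
  have hYα : Nat.card (MulAction.stabilizer Y α) = 96 := by
    rw [← h96]
    exact Nat.card_congr
      { toFun := fun y => ⟨y.1.1, y.1.2, (hstab _).1 y.2⟩
        invFun := fun y => ⟨⟨y.1, y.2.1⟩, (hstab _).2 y.2.2⟩
        left_inv := fun _ => rfl
        right_inv := fun _ => rfl }
  have hO5 : Nat.card O5 = 5 := by
    have := Subgroup.card_mul_index (MulAction.stabilizer Y α)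
    rw [hYα, MulAction.index_stabilizer, D.card_w, ← Nat.card_coe_set_eq] at this
    change 96 * Nat.card O5 = 480 at this
    omega
  let ρ : Y →* Perm O5 := MulAction.toPermHom Y O5
  have hρ : ∀ (y : Y) (x : O5), ((ρ y x : O5) : G ⧸ G₀) = (y : G) • (x : G ⧸ G₀) := fun y x => rfl
  have hmemO : ∀ y ∈ Y, y • α ∈ O5 := fun y hy => ⟨⟨y, hy⟩, rfl⟩
  have hwY : w ∈ Y := mem_centralizer_singleton_iff.2 rfl
  have hKY : ∀ {k}, k ∈ K → k ∈ Y := fun hk => D.K_le hk
  -- the kernel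
  set N := ρ.ker with hN
  have hNfix : ∀ n ∈ N, ∀ x ∈ O5, ((n : Y) : G) • x = x := fun n hn x hx => by
    have := congrArg (fun π : Perm O5 => ((π ⟨x, hx⟩ : O5) : G ⧸ G₀)) (MonoidHom.mem_ker.1 hn)
    exact this
  have hNG : ∀ n ∈ N, ((n : Y) : G) ∈ G₀ := fun n hn =>
    (hstab _).1 (hNfix n hn α (MulAction.mem_orbit_self α))
  have hNK : ∀ n ∈ N, ((n : Y) : G) ∈ K → n = 1 := by
    haveI := D.K_simple
    let f : K →* Perm O5 := ρ.comp (Subgroup.inclusion D.K_le)
    rcases f.normal_ker.eq_bot_or_eq_top with hk | hk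
    · intro n hn hnK
      have : (⟨n, hnK⟩ : K) ∈ f.ker := MonoidHom.mem_ker.2 (by
        show ρ ⟨n, _⟩ = 1
        exact MonoidHom.mem_ker.1 hn)
      rw [hk, Subgroup.mem_bot] at this
      exact Subtype.ext (congrArg Subtype.val this :)
    · exfalso
      have hle : K ≤ Y ⊓ G₀ := fun k hk' => ⟨hKY hk', hNG ⟨k, hKY hk'⟩ (MonoidHom.mem_ker.2
        (MonoidHom.mem_ker.1 (show (⟨k, hk'⟩ : K) ∈ f.ker by rw [hk]; exact Subgroup.mem_top _)))⟩
      have := card_dvd_of_le hle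
      rw [D.K_card, h96] at this
      norm_num at this
  have hNcomm : ∀ n ∈ N, ∀ k ∈ K, ((n : Y) : G) * k = k * n := fun n hn k hk => by
    have hN' : (n * (⟨k, hKY hk⟩ : Y) * n⁻¹ * (⟨k, hKY hk⟩ : Y)⁻¹) ∈ N := by
      rw [mul_assoc, mul_assoc]
      refine mul_mem hn ?_
      rw [← mul_assoc]
      exact ρ.normal_ker.conj_mem _ (inv_mem hn) _
    have := hNK _ hN' (mul_mem (D.normK _ n.2 _ hk) (inv_mem hk))
    have e := congrArg (fun y : Y => (y : G)) this
    simp only [Subgroup.coe_mul, Subgroup.coe_inv, Subgroup.coe_one] at e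
    calc ((n : Y) : G) * k = ((n : G) * k * (n : G)⁻¹ * k⁻¹) * k * n := by group
      _ = _ := by rw [e, one_mul]
  -- its image among the permutations
  have hX : ∀ (ψ : G₀ →* Perm (Fin 8)), NineChart G₀ ψ → ψ ⟨w, D.w_mem⟩ = Eight.v₀ →
      ∀ x ∈ Eight.X4, ∃ z : G₀, (z : G) ∈ K ∧ ψ z = x := fun ψ h hv x hx => by
    obtain ⟨hxc, hx3, hxs⟩ := Eight.X4_spec x hx
    obtain ⟨z, rfl⟩ := h.surj x hxs
    rw [← hv, ← map_mul, ← map_mul] at hxc
    refine ⟨z, D.K_three _ (mem_centralizer_singleton_iff.2 (congrArg Subtype.val (h.inj hxc))) ?_, rfl⟩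
    rw [← map_mul, ← map_mul, ← map_one ψ] at hx3
    exact congrArg Subtype.val (h.inj hx3)
  let jN : N → G₀ := fun n => ⟨((n : Y) : G), hNG n n.2⟩
  have hjN : Function.Injective jN := fun a b e =>
    Subtype.ext (Subtype.ext (congrArg Subtype.val e :))
  have hV : ∀ (ψ : G₀ →* Perm (Fin 8)), NineChart G₀ ψ → ψ ⟨w, D.w_mem⟩ = Eight.v₀ →
      ∀ n : N, ψ (jN n) ∈ Eight.V4 := fun ψ h hv n => by
    refine Eight.four (h.even _) ?_ fun x hx => ?_
    · rw [← hv, ← map_mul, ← map_mul]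
      exact congrArg ψ (Subtype.ext (mem_centralizer_singleton_iff.1 (n : Y).2))
    · obtain ⟨z, hz, rfl⟩ := hX ψ h hv x hx
      rw [← map_mul, ← map_mul]
      exact congrArg ψ (Subtype.ext (hNcomm n n.2 z hz).symm)
  -- a chart in which `w` is standard
  obtain ⟨τ₁, hτ₁⟩ := isConj_iff.1 (Perm.isConj_iff_cycleType_eq.2 (hw₁.trans Eight.cycleType_v₀.2.symm))
  set ψ₂ := (MulAut.conj τ₁).toMonoidHom.comp ψ₁ with hψ₂
  have h₂ : NineChart G₀ ψ₂ := chart_conj h₁ τ₁
  have hv₂ : ψ₂ ⟨w, D.w_mem⟩ = Eight.v₀ := hτ₁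
  have hNcard : Nat.card N ≤ 4 := by
    have hinj : Function.Injective (fun n : N =>
        (⟨ψ₂ (jN n), List.mem_toFinset.2 (hV ψ₂ h₂ hv₂ n)⟩ : Eight.V4.toFinset)) := fun a b e =>
      hjN (h₂.inj (congrArg Subtype.val e))
    refine (Nat.card_le_card_of_injective _ hinj).trans ?_
    rw [Nat.card_eq_finsetCard]
    exact List.toFinset_card_le _
  have hP5 : Nat.card (Perm O5) = 120 := by rw [Nat.card_perm, hO5]; rfl
  have hNY : Nat.card N * Nat.card ρ.range = 480 := by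
    rw [← Subgroup.index_ker, ← hN, Subgroup.card_mul_index, D.card_w]
  have hrng : Nat.card ρ.range = 120 ∧ Nat.card N = 4 := by
    have h1 : Nat.card ρ.range ≤ 120 := hP5 ▸ Subgroup.card_le_card_group ρ.range
    have h2 : Nat.card N * Nat.card ρ.range ≤ 4 * Nat.card ρ.range := Nat.mul_le_mul_right _ hNcard
    constructor
    · omega
    · have : Nat.card ρ.range = 120 := by omega
      rw [this] at hNY; omega
  have hsurj : Function.Surjective ρ :=
    MonoidHom.range_eq_top.1 (Subgroup.eq_top_of_card_eq _ (hrng.1.trans hP5.symm))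
  have hVsurj : ∀ (ψ : G₀ →* Perm (Fin 8)), NineChart G₀ ψ → ψ ⟨w, D.w_mem⟩ = Eight.v₀ →
      ∀ p ∈ Eight.V4, ∃ n : N, ψ (jN n) = p := by
    intro ψ h hv p hp
    have hinj : Function.Injective (fun n : N =>
        (⟨ψ (jN n), List.mem_toFinset.2 (hV ψ h hv n)⟩ : Eight.V4.toFinset)) := fun a b e =>
      hjN (h.inj (congrArg Subtype.val e))
    haveI : Fintype N := Fintype.ofFinite _
    have hb := (Fintype.bijective_iff_injective_and_card _).2 ⟨hinj, by
      rw [← Nat.card_eq_fintype_card, hrng.2, Fintype.card_coe,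
        show Eight.V4.toFinset.card = 4 by decide +kernel]⟩
    obtain ⟨n, hn⟩ := hb.2 ⟨p, List.mem_toFinset.2 hp⟩
    exact ⟨n, congrArg Subtype.val hn⟩
  -- points
  haveI : Fintype O5 := Fintype.ofFinite _
  obtain ⟨e5⟩ : Nonempty (O5 ≃ Fin 5) := ⟨Fintype.equivFinOfCardEq (by rw [← Nat.card_eq_fintype_card, hO5])⟩
  obtain ⟨βo, γo, δo, hba, hga, hda, hbg, hbd, hgd⟩ : ∃ b g d : O5, b ≠ αo ∧ g ≠ αo ∧ d ≠ αo ∧ b ≠ g ∧
      b ≠ d ∧ g ≠ d := by
    have : ∀ a : Fin 5, ∃ b g d : Fin 5, b ≠ a ∧ g ≠ a ∧ d ≠ a ∧ b ≠ g ∧ b ≠ d ∧ g ≠ d := by decide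
    obtain ⟨b, g, d, h⟩ := this (e5 αo)
    exact ⟨e5.symm b, e5.symm g, e5.symm d, by simpa [Equiv.symm_apply_eq] using h.1,
      by simpa [Equiv.symm_apply_eq] using h.2.1, by simpa [Equiv.symm_apply_eq] using h.2.2.1,
      by simpa using h.2.2.2.1, by simpa using h.2.2.2.2.1, by simpa using h.2.2.2.2.2⟩
  set β : G ⧸ G₀ := (βo : G ⧸ G₀) with hβ
  set γ : G ⧸ G₀ := (γo : G ⧸ G₀) with hγ
  have hne : β ≠ α := fun h => hba (Subtype.ext h)
  have act : ∀ (y : Y) (π : Perm O5), ρ y = π → ∀ x : O5, (y : G) • (x : G ⧸ G₀) = (π x : G ⧸ G₀) :=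
    fun y π h x => by rw [← h]; rfl
  have hfixN : ∀ n : N, ((n : Y) : G) • β = β := fun n => hNfix n n.2 β βo.2
  -- a transposition fixing both
  obtain ⟨c₁, hc₁⟩ := hsurj (swap γo δo)
  have hc₁α : (c₁ : G) • α = α := (act c₁ _ hc₁ αo).trans
    (congrArg Subtype.val (swap_apply_of_ne_of_ne hga.symm hda.symm))
  have hc₁β : (c₁ : G) • β = β := (act c₁ _ hc₁ βo).trans
    (congrArg Subtype.val (swap_apply_of_ne_of_ne hbg hbd))
  set c₁' : G₀ := ⟨c₁, (hstab _).1 hc₁α⟩ with hc₁'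
  have hc1v : ψ₂ c₁' * Eight.v₀ = Eight.v₀ * ψ₂ c₁' := by
    rw [← hv₂, ← map_mul, ← map_mul]
    exact congrArg ψ₂ (Subtype.ext (mem_centralizer_singleton_iff.1 c₁.2))
  have hc1sq : ψ₂ c₁' * ψ₂ c₁' ∈ Eight.V4 := by
    have hm : c₁ * c₁ ∈ N := MonoidHom.mem_ker.2 (by rw [map_mul, hc₁, swap_mul_self])
    have := hV ψ₂ h₂ hv₂ ⟨_, hm⟩
    rwa [show jN ⟨_, hm⟩ = c₁' * c₁' from Subtype.ext rfl, map_mul] at this
  obtain ⟨p, hp, τ₂, hτ₂v, hτ₂c⟩ := (Eight.split (h₂.even c₁') hc1v hc1sq).resolve_left (by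
    rintro ⟨p, hp, y, hy, z, hz, he⟩
    obtain ⟨n, rfl⟩ := hVsurj ψ₂ h₂ hv₂ p hp
    obtain ⟨y', hy', rfl⟩ := hX ψ₂ h₂ hv₂ y hy
    obtain ⟨z', hz', rfl⟩ := hX ψ₂ h₂ hv₂ z hz
    rw [← map_mul, ← map_mul] at he
    have hc : c₁ = (n : Y) * ⟨y', hKY hy'⟩ * ⟨z', hKY hz'⟩ :=
      Subtype.ext (congrArg Subtype.val (h₂.inj he) :)
    have hsign : ∀ k : Y, k * k * k = 1 → sign (ρ k) = 1 := fun k hk => by
      have := congrArg (fun y => sign (ρ y)) hk
      simp only [map_mul, map_one] at this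
      rcases Int.units_eq_one_or (sign (ρ k)) with h | h
      · exact h
      · rw [h] at this; exact absurd this (by decide)
    have h3 : ∀ (k : G₀) (hk : (k : G) ∈ K), ψ₂ k * ψ₂ k * ψ₂ k = 1 → sign (ρ ⟨k, hKY hk⟩) = 1 :=
      fun k hk h => hsign _ (by
        rw [← map_mul, ← map_mul, ← map_one ψ₂] at h
        exact Subtype.ext (congrArg Subtype.val (h₂.inj h) :))
    have := congrArg (fun y => sign (ρ y)) hc
    simp only [map_mul, hc₁, MonoidHom.mem_ker.1 n.2, map_one, one_mul] at this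
    rw [h3 y' hy' (Eight.X4_spec _ hy).2.1, h3 z' hz' (Eight.X4_spec _ hz).2.1, sign_swap hgd] at this
    exact absurd this (by decide))
  set ψ := (MulAut.conj τ₂).toMonoidHom.comp ψ₂ with hψ
  have hc' : NineChart G₀ ψ := chart_conj h₂ τ₂
  have hv : ψ ⟨w, D.w_mem⟩ = Eight.v₀ := by
    show τ₂ * ψ₂ ⟨w, D.w_mem⟩ * τ₂⁻¹ = _
    rw [hv₂, hτ₂v, mul_inv_cancel_right]
  obtain ⟨n₀, hn₀⟩ := hVsurj ψ₂ h₂ hv₂ p hp
  set c : G₀ := jN n₀ * c₁' with hc
  have hψc : ψ c = Eight.c₀ := by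
    show τ₂ * ψ₂ c * τ₂⁻¹ = _
    rw [hc, map_mul, hn₀, hτ₂c]
  have hcβ : (c : G) • β = β := by
    show (((n₀ : Y) : G) * (c₁ : G)) • β = β
    rw [mul_smul, hc₁β, hfixN]
  -- the stabiliser of the two points in permutations
  let Dβ : Subgroup G₀ := (MulAction.stabilizer G β).subgroupOf G₀
  set H := Dβ.map ψ with hH
  have hHmem : ∀ g : G₀, (g : G) • β = β → ψ g ∈ H := fun g hg => Subgroup.mem_map_of_mem _ hg
  have hHof : ∀ g : G₀, ψ g ∈ H → (g : G) • β = β := fun g hg => by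
    obtain ⟨g', hg', he⟩ := hg
    rw [← hc'.inj he]; exact hg'
  have hHV : ∀ q ∈ Eight.V4, q ∈ H := fun q hq => by
    obtain ⟨n, rfl⟩ := hVsurj ψ hc' hv q hq
    exact hHmem _ (hfixN n)
  have hq₂ : Eight.σ₀ * Eight.p₂ * Eight.σ₀⁻¹ ∈ H := by
    obtain ⟨g, hg⟩ := hc'.surj _ Eight.chk_basic.2.1
    have hgw : (g : G) * w * (g : G)⁻¹ = c := by
      have : ψ (g * ⟨w, D.w_mem⟩ * g⁻¹) = ψ c := by
        rw [map_mul, map_mul, map_inv, hg, hv, hψc, Eight.chk_basic.1]
      exact congrArg Subtype.val (hc'.inj this)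
    obtain ⟨n, hn⟩ := hVsurj ψ hc' hv Eight.p₂ (by simp [Eight.V4])
    rw [← hg, ← hn, ← map_inv, ← map_mul, ← map_mul]
    refine hHmem _ ?_
    obtain ⟨y, hy, hye⟩ := D.fixed (x := (g : G)⁻¹ • β) (by
      rw [smul_smul, show w * (g : G)⁻¹ = (g : G)⁻¹ * ((g : G) * w * (g : G)⁻¹) by group, hgw, mul_smul, hcβ])
    show ((g : G) * ((n : Y) : G) * (g : G)⁻¹) • β = β
    rw [mul_smul, ← hye, mul_smul, hNfix n n.2 _ (hmemO y hy), hye, smul_inv_smul]
  have hz : Eight.z₆ ∈ H ∨ Eight.z₇ ∈ H := by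
    -- an element of order three fixing both
    obtain ⟨εo, hea, heb, heg, hed⟩ : ∃ e : O5, e ≠ αo ∧ e ≠ βo ∧ e ≠ γo ∧ e ≠ δo := by
      have : ∀ a b g d : Fin 5, ∃ e : Fin 5, e ≠ a ∧ e ≠ b ∧ e ≠ g ∧ e ≠ d := by decide
      obtain ⟨e, h⟩ := this (e5 αo) (e5 βo) (e5 γo) (e5 δo)
      exact ⟨e5.symm e, by simpa [Equiv.symm_apply_eq] using h.1, by simpa [Equiv.symm_apply_eq] using h.2.1,
        by simpa [Equiv.symm_apply_eq] using h.2.2.1, by simpa [Equiv.symm_apply_eq] using h.2.2.2⟩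
    set π : Perm O5 := swap γo δo * swap γo εo with hπ
    have hπ3 := Perm.isThreeCycle_swap_mul_swap_same (a := γo) (b := δo) (c := εo) hgd heg.symm hed.symm
    have hπo : π ^ 3 = 1 := by rw [← hπ3.orderOf, pow_orderOf_eq_one]
    obtain ⟨y, hy⟩ := hsurj π
    have hyN : y ^ 3 ∈ N := MonoidHom.mem_ker.2 (by rw [map_pow, hy, hπo])
    have hy2 : y ^ 3 * y ^ 3 = 1 := by
      have hm := hV ψ hc' hv ⟨_, hyN⟩
      have := Eight.chk_V4 _ hm
      rw [← map_mul, ← map_one ψ] at this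
      exact Subtype.ext (congrArg Subtype.val (hc'.inj this) :)
    have hπfix : π αo = αo ∧ π βo = βo := by
      simp only [hπ, Perm.mul_apply]
      exact ⟨by rw [swap_apply_of_ne_of_ne hga.symm hea.symm, swap_apply_of_ne_of_ne hga.symm hda.symm],
        by rw [swap_apply_of_ne_of_ne hbg heb.symm, swap_apply_of_ne_of_ne hbg hbd]⟩
    have hyy : ∀ x : O5, π x = x → ((y * y : Y) : G) • (x : G ⧸ G₀) = (x : G ⧸ G₀) := fun x hx => by
      rw [act (y * y) (π * π) (by rw [map_mul, hy]) x, Perm.mul_apply, hx, hx]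
    have hyG : ((y * y : Y) : G) ∈ G₀ := (hstab _).1 (hyy αo hπfix.1)
    refine Eight.three (σ := ψ ⟨_, hyG⟩) ?_ ?_ ?_ (hHmem _ (hyy βo hπfix.2)) (hψc ▸ hHmem c hcβ)
    · rw [← hv, ← map_mul, ← map_mul]
      exact congrArg ψ (Subtype.ext (mem_centralizer_singleton_iff.1 (y * y).2))
    · rw [← map_one ψ]
      intro h
      have h' : y * y = 1 := Subtype.ext (congrArg Subtype.val (hc'.inj h) :)
      have hc2 : π * π = 1 := by rw [← hy, ← map_mul, h', map_one]
      have := hπ3.orderOf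
      have hd := orderOf_dvd_of_pow_eq_one (show π ^ 2 = 1 by rw [sq, hc2])
      rw [this] at hd
      omega
    · rw [← map_mul, ← map_mul, ← map_one ψ]
      refine congrArg ψ (Subtype.ext ?_)
      have := congrArg (fun z : Y => (z : G)) (show y * y * (y * y) * (y * y) = 1 by
        rw [← hy2]; simp only [pow_succ, pow_zero, one_mul, mul_assoc])
      exact this
  obtain ⟨j, hj⟩ := Eight.stab_le (hHV _ (by simp [Eight.V4])) (hHV _ (by simp [Eight.V4])) hq₂ hz
  -- no element of `G₀` fixing `β` moves the letter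
  have hnofix : ¬ ∀ g : G₀, (g : G) • β = β := fun hall => by
    have hs := hall ⟨s, D.s_mem⟩
    obtain ⟨h, hh⟩ := QuotientGroup.mk_surjective β
    rw [← hh, MulAction.Quotient.smul_coe, smul_eq_mul, QuotientGroup.eq] at hs
    have hm : h⁻¹ * s * h⁻¹⁻¹ ∈ G₀ := by
      have := inv_mem hs
      rw [mul_inv_rev, inv_inv, ← mul_assoc] at this
      rwa [inv_inv]
    refine hne ?_
    rw [← hh, hα]
    exact QuotientGroup.eq.2 (by simpa using D.self _ hm)
  have hfix_iff : ∀ g : G₀, (g : G) • β = β ↔ ψ g j = j := fun g => by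
    refine ⟨fun hg => ?_, fun hg => hHof g (hj _ (hc'.even g) hg)⟩
    by_contra hne'
    exact hnofix fun g' => hHof g' (Eight.eq_of_move hj (hHmem g hg) (hc'.even g) hne' (hc'.even g'))
  have hsame : ∀ g g' : G₀, ψ g j = ψ g' j ↔ (g : G) • β = (g' : G) • β := fun g g' => by
    have := hfix_iff (g'⁻¹ * g)
    rw [map_mul, map_inv, Perm.mul_apply, Perm.inv_eq_iff_eq, Subgroup.coe_mul, Subgroup.coe_inv, mul_smul,
      inv_smul_eq_iff] at this
    exact this.symm
  have hall : ∀ i : Fin 8, ∃ g : G₀, ψ g j = i := fun i => by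
    have hd : ∀ j i : Fin 8, ∃ a b : Fin 8, (a = b ↔ j = i) ∧ (swap j i * swap a b) j = i := by decide +kernel
    obtain ⟨a, b, hab, he⟩ := hd j i
    obtain ⟨g, hg⟩ := hc'.surj (swap j i * swap a b) (by
      rw [map_mul, sign_swap', sign_swap']
      by_cases h : j = i <;> simp [h, hab])
    exact ⟨g, by rw [hg, he]⟩
  choose F hF using hall
  -- the exchange of the two points
  obtain ⟨t, ht⟩ := hsurj (swap αo βo)
  have htα : (t : G) • α = β := (act t _ ht αo).trans (congrArg Subtype.val (swap_apply_left _ _))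
  have htβ : (t : G) • β = α := (act t _ ht βo).trans (congrArg Subtype.val (swap_apply_right _ _))
  have htγ : (t : G) • γ = γ := (act t _ ht γo).trans
    (congrArg Subtype.val (swap_apply_of_ne_of_ne hga hbg.symm))
  obtain ⟨x₁, hx₁⟩ := hsurj (swap βo γo)
  have hx₁α : (x₁ : G) • α = α := (act x₁ _ hx₁ αo).trans
    (congrArg Subtype.val (swap_apply_of_ne_of_ne hba.symm hga.symm))
  have hx₁β : (x₁ : G) • β = γ := (act x₁ _ hx₁ βo).trans (congrArg Subtype.val (swap_apply_left _ _))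
  set x₁' : G₀ := ⟨x₁, (hstab _).1 hx₁α⟩
  have hi₀ : ψ x₁' j ≠ j := fun h => hbg (Subtype.ext (((hfix_iff x₁').2 h).symm.trans hx₁β))
  let S : Set (G ⧸ G₀) := {x | x = α ∨ ∃ g : G₀, (g : G) • β = x}
  have htS : ∀ x ∈ S, (t : G) • x ∈ S := by
    rintro x (rfl | ⟨g, rfl⟩)
    · exact Or.inr ⟨1, by rw [htα]; exact one_smul _ _⟩
    · by_cases hgj : ψ g j = j
      · rw [(hfix_iff g).2 hgj]
        exact Or.inl htβ
      obtain ⟨ν, hν, hνj, hνi⟩ := Eight.move j (ψ x₁' j) (ψ g j) hi₀ hgj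
      obtain ⟨d, rfl⟩ := hc'.surj ν hν
      have hdg : (g : G) • β = ((d * x₁' : G₀) : G) • β := (hsame _ _).1 (by rw [map_mul, Perm.mul_apply, hνi])
      have hdβ : (d : G) • β = β := (hfix_iff d).2 hνj
      have htinv : (t : G)⁻¹ • α = β := by rw [inv_smul_eq_iff, htβ]
      have htdt : (t : G) * d * (t : G)⁻¹ ∈ G₀ := (hstab _).1 (by rw [mul_smul, mul_smul, htinv, hdβ, htβ])
      refine Or.inr ⟨⟨_, htdt⟩ * x₁', ?_⟩
      rw [hdg, Subgroup.coe_mul, Subgroup.coe_mul, mul_smul, mul_smul]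
      show ((t : G) * d) • (t : G)⁻¹ • (x₁ : G) • β = (t : G) • ((d : G) * x₁) • β
      rw [mul_smul, mul_smul, hx₁β, inv_smul_eq_iff.2 htγ.symm]
  let W : Subgroup G := M12Cent.ofClosed {g | ∀ x ∈ S, g • x ∈ S} (fun x hx => by rwa [one_smul])
    fun a ha b hb x hx => by rw [mul_smul]; exact ha _ (hb x hx)
  have hWG : G₀ ≤ W := by
    rintro h hh x (rfl | ⟨g, rfl⟩)
    · exact Or.inl ((hstab h).2 hh)
    · exact Or.inr ⟨⟨h, hh⟩ * g, by rw [Subgroup.coe_mul, mul_smul]⟩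
  have hWY : Y ≤ W := fun y hy => by
    have hη : y • α ∈ O5 := hmemO y hy
    by_cases he : (⟨_, hη⟩ : O5) = αo
    · exact hWG ((hstab y).1 (congrArg Subtype.val he))
    obtain ⟨q, hq⟩ := hsurj (swap βo ⟨_, hη⟩)
    have hqα : (q : G) • α = α := (act q _ hq αo).trans
      (congrArg Subtype.val (swap_apply_of_ne_of_ne hba.symm (Ne.symm he)))
    have hqβ : (q : G) • β = y • α := (act q _ hq βo).trans (congrArg Subtype.val (swap_apply_left _ _))
    have h1 : ((q : G) * t)⁻¹ * y ∈ G₀ := (hstab _).1 (by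
      rw [mul_smul, inv_smul_eq_iff, mul_smul, htα, hqβ])
    have := mul_mem (mul_mem (hWG ((hstab _).1 hqα)) (show (t : G) ∈ W from htS)) (hWG h1)
    rwa [mul_inv_cancel_left] at this
  have hWtop := D.eq_top hWG hWY
  have hcover : ∀ x : G ⧸ G₀, x ∈ S := fun x => by
    obtain ⟨g, hg⟩ := MulAction.exists_smul_eq G α x
    rw [← hg]
    exact (show g ∈ W by rw [hWtop]; exact Subgroup.mem_top g) α (Or.inl rfl)
  let f : Option (Fin 8) → G ⧸ G₀ := fun o => o.elim α fun i => ((F i : G₀) : G) • β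
  have hbij : Function.Bijective f := by
    constructor
    · rintro (_ | a) (_ | b) h
      · rfl
      · exfalso
        have h' : ((F b : G₀) : G) • β = α := h.symm
        exact hne ((eq_inv_smul_iff.2 h').trans
          ((inv_smul_eq_iff).2 ((hstab _).2 (F b).2).symm))
      · exfalso
        have h' : ((F a : G₀) : G) • β = α := h
        exact hne ((eq_inv_smul_iff.2 h').trans
          ((inv_smul_eq_iff).2 ((hstab _).2 (F a).2).symm))
      · rw [← hF a, ← hF b, (hsame _ _).2 h]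
    · intro x
      rcases hcover x with rfl | ⟨g, rfl⟩
      · exact ⟨none, rfl⟩
      · exact ⟨some (ψ g j), (hsame _ _).1 (hF _)⟩
  have hidx : G₀.index = 9 := by
    show Nat.card (G ⧸ G₀) = 9
    rw [← Nat.card_congr (Equiv.ofBijective f hbij), Nat.card_eq_fintype_card, Fintype.card_option,
      Fintype.card_fin]
  obtain ⟨e⟩ := D.iso
  have := G₀.card_mul_index
  rw [hidx, ← Nat.card_congr e.toEquiv, nat_card_alternatingGroup, Nat.card_fin] at this
  rw [← this]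
  decide

end NineData

end Cfsg.Agent.S3Extra
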