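import Cfsg.Agent.Lib.S3Extra.BigExists
import Cfsg.Agent.Lib.S3Extra.CaseOneY
import Cfsg.Agent.Lib.S3Extra.Nine

/-!
The alternating case: the two alternating groups.
-/

set_option autoImplicit false
set_option synthInstance.maxSize 100000
set_option linter.style.haveILetI false

namespace Cfsg.Agent.S3Extra

open Subgroup

variable {G : Type*} [Group G]

theorem chk_center : (∀ i < 64, (∀ j < 64, cm i j = true) → i = 0 ∨ i = 1) ∧ isInv 11 = true := by
  decide +kernel

namespace One

variable {Q : Subgroup G} {P : Gens G} (O : One Q P) {G₀ : Subgroup G} (B : Big P G₀)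
include O B

theorem not_128 [Finite G] : ¬ 2 ^ (6 + 1) ∣ Nat.card G := by
  obtain ⟨U, hUc, -, hU⟩ := O.syl_sub B
  rw [← card_top (G := G)]
  refine M12Cent.card_sylow_of_no_double (H := ⊤) (U := U) le_top hUc fun K hle _ hK => ?_
  have hK2 : Nat.card K = 2 * Nat.card U := by rw [hK, hUc]; norm_num
  have hKs : K ≤ centralizer ({P.s} : Set G) := fun n hn => by
    have hsU : P.s ∈ U := hU.2 ⟨1, by norm_num, el_one P⟩
    obtain ⟨i, hi, hie⟩ := hU.1 (M12Cent.conj_mem_of_double hle hK2 hn hsU)
    have hcomm : ∀ j < 64, cm i j = true := fun j hj => by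
      refine (O.C.comm_iff (by omega) (by omega)).1 ?_
      have h' := M12Cent.conj_mem_of_double hle hK2 (inv_mem hn) (hU.2 ⟨j, hj, rfl⟩)
      rw [inv_inv] at h'
      obtain ⟨k, hk, hke⟩ := hU.1 h'
      have hc := O.C.el_comm (show k < 192 by omega)
      rw [hke] at hc
      rw [hie]
      calc n * P.s * n⁻¹ * P.el j = n * (P.s * (n⁻¹ * P.el j * n)) * n⁻¹ := by group
        _ = _ := by rw [← hc]; group
    rcases chk_center.1 i hi hcomm with rfl | rfl
    · rw [O.C.rels.el_zero] at hie
      exact absurd (conj_eq_one_iff.1 hie.symm) O.C.hyp.s_ne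
    · rw [el_one] at hie
      exact mem_centralizer_singleton_iff.2 (mul_inv_eq_iff_eq_mul.1 hie.symm)
  have := card_dvd_of_le hKs
  rw [hK, O.C.card_cent] at this
  norm_num at this

/-- The hypotheses for the index. -/
theorem nine_data [Finite G] (hiso : Nonempty (alternatingGroup (Fin 8) ≃* G₀)) {Y₀ K₀ : Subgroup G}
    (W : Wide P Y₀ K₀) : NineData G₀ P.s (P.el 11) K₀ := by
  obtain ⟨f⟩ := W.iso
  haveI hA : IsSimpleGroup (alternatingGroup (Fin 5)) := alternatingGroup.isSimpleGroup (by simp)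
  haveI hK : IsSimpleGroup K₀ := f.isSimpleGroup
  have hK60 : Nat.card K₀ = 60 := by
    rw [Nat.card_congr f.toEquiv, nat_card_alternatingGroup, Nat.card_fin]; rfl
  have hperf : commutator K₀ = ⊤ := by
    refine (IsSimpleGroup.eq_bot_or_eq_top_of_normal _ inferInstance).resolve_left fun h => ?_
    have hc : ∀ a b : alternatingGroup (Fin 5), a * b = b * a := fun a b => by
      have := commutator_mem_commutator (Subgroup.mem_top (f.symm a)) (Subgroup.mem_top (f.symm b))
      rw [← _root_.commutator_def, h, Subgroup.mem_bot, commutatorElement_eq_one_iff_mul_comm, ← map_mul, ← map_mul] at this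
      exact f.symm.injective this
    have := congrArg (fun σ : alternatingGroup (Fin 5) => (σ : Equiv.Perm (Fin 5)) 0)
      (hc ⟨Equiv.swap 0 1 * Equiv.swap 1 2, by rw [Equiv.Perm.mem_alternatingGroup]; decide +kernel⟩
        ⟨Equiv.swap 0 1 * Equiv.swap 1 3, by rw [Equiv.Perm.mem_alternatingGroup]; decide +kernel⟩)
    revert this
    decide +kernel
  have hsq : ∀ x ∈ centralizer ({P.el 11} : Set G), x * x * x = 1 → x ∈ Y₀ := fun x hx hx3 => by
    rcases W.cover x hx with h | h1
    · exact h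
    rcases W.cover (x * x) (mul_mem hx hx) with h | h2
    · have := mul_mem h h
      rwa [← mul_assoc, hx3, one_mul] at this
    · have := mul_mem (inv_mem h1) h2
      rwa [show (P.el 20 * x)⁻¹ * (P.el 20 * (x * x)) = x by group] at this
  refine ⟨hiso, O.C.hyp.s_two, O.w_two, ?_, O.el_mem B (by norm_num), B.hL, O.C.card_cent,
    fun g hg => O.mem_of_conj B hg, O.h11, O.not_128 B, W.card_Y, W.K₀_le.trans W.Y₀_le, ?_, hK60, hK, ?_⟩
  · rw [← el_one P]; exact O.el_mem B (by norm_num)
  · intro g hg x hx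
    let J : Subgroup K₀ := (K₀.comap (MulAut.conj g).toMonoidHom).subgroupOf K₀
    have hJ : J = ⊤ := by
      rw [eq_top_iff, ← hperf, _root_.commutator_def, Subgroup.commutator_le]
      intro a _ b _
      rw [Subgroup.mem_subgroupOf, Subgroup.mem_comap]
      have := W.comm _ (W.normal g hg _ (W.K₀_le a.2)) _ (W.normal g hg _ (W.K₀_le b.2))
      simpa [commutatorElement_def, mul_assoc] using this
    have h : (⟨x, hx⟩ : K₀) ∈ J := hJ ▸ Subgroup.mem_top _
    exact h
  · intro x hx hx3
    have hxY := hsq x hx hx3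
    haveI : (K₀.subgroupOf Y₀).Normal :=
      ⟨fun n hn g => W.normalK g g.2 n hn⟩
    have hidx : (K₀.subgroupOf Y₀).index = 4 := by
      have := (K₀.subgroupOf Y₀).card_mul_index
      rw [Nat.card_congr (subgroupOfEquivOfLe W.K₀_le).toEquiv, hK60, W.card_Y₀] at this
      omega
    have := (K₀.subgroupOf Y₀).pow_index_mem (⟨x, hxY⟩ : Y₀)
    rw [hidx, Subgroup.mem_subgroupOf, Subgroup.coe_pow] at this
    rwa [show x ^ 4 = x * x * x * x by simp [pow_succ, mul_assoc], hx3, one_mul] at this

omit B in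
/-- The alternating case. -/
theorem alternating [Finite G] :
    Nonempty (G ≃* alternatingGroup (Fin 8)) ∨ Nonempty (G ≃* alternatingGroup (Fin 9)) := by
  obtain ⟨G₁, B', ⟨f⟩⟩ := O.exists_big
  rcases O.Y_cases with h96 | ⟨Y₀, K₀, W⟩
  · exact Or.inl ⟨((MulEquiv.subgroupCongr (O.eq_top_of_small B' h96)).trans Subgroup.topEquiv).symm.trans f.symm⟩
  · refine Or.inr ?_
    have hG := (O.nine_data B' ⟨f⟩ W).card_eq
    obtain ⟨C', -⟩ := O.C.change flipAB ok_flips.2.2 O.fused_eight
    have c3 := C'.cent_E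
    have n3 := C'.card_norm
    rw [O.E8_change] at c3 n3
    obtain ⟨nc1, nc2⟩ := O.not_conj
    exact (S3344Id.RootConfig.ofGens O.C.rels (fun y hy => (O.C.mem y).1 hy) O.C.cent_E c3 O.C.card_norm n3
      nc1 nc2).iso_alt9 hG

end One

end Cfsg.Agent.S3Extra
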