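import Cfsg.Agent.Lib.S3Extra.NormA
import Mathlib.GroupTheory.Transfer

/-!
The three classes of non-central representatives cannot all be fused with the central involution.
-/

set_option autoImplicit false
set_option synthInstance.maxSize 100000
set_option linter.style.haveILetI false

namespace Cfsg.Agent.S3Extra

open Subgroup

variable {G : Type*} [Group G]

theorem chk_S :
    (∀ i < 64, cm i 1 = true) ∧
    (∀ i < 64, (∀ j < 64, cm i j = true) → i = 0 ∨ i = 1) ∧
    (∀ i < 64, ∃ j < 64, (j = 0 ∨ j = 4 ∨ j = 16 ∨ j = 20) ∧ inA (Tc (iv false j) i) = true) ∧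
    (∀ j < 64, ∀ k < 64, (j = 0 ∨ j = 4 ∨ j = 16 ∨ j = 20) → (k = 0 ∨ k = 4 ∨ k = 16 ∨ k = 20) →
      inA (Tc (iv false j) k) = true → j = k) ∧
    (∀ i < 64, ∀ j < 64, inA (Tc (iv false (Tc j i)) (Tc i j)) = true) ∧
    Tc 4 16 = 20 ∧ (List.range 192).countP (fun i => inA i && !(Nat.beq i 0)) = 15 := by
  decide +kernel

namespace CType

variable {Q : Subgroup G} {P : Gens G} (C : CType Q P)
include C

/-- The order of the normaliser from the fusion in the subgroup. -/
theorem card_normA [Finite G] (h8 : IsConj P.s (P.el 8)) (f : ℕ → Bool)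
    (hf : ∀ i < 64, inA i = true → i ≠ 0 → (IsConj P.s (P.el i) ↔ f i = true)) :
    Nat.card (normalizer (A16 P : Set G)) =
      (List.range 192).countP (fun i => inA i && !(Nat.beq i 0) && f i) * 64 := by
  set N := normalizer (A16 P : Set G) with hN
  let I := {i : ℕ // i < 192 ∧ (inA i && !(Nat.beq i 0) && f i) = true}
  have hI : ∀ i : I, i.1 < 64 ∧ inA i.1 = true ∧ i.1 ≠ 0 ∧ f i.1 = true := fun ⟨i, hi, h⟩ => by
    simp only [Bool.and_eq_true, Bool.not_eq_true', Bool.eq_false_iff, ne_eq, Nat.beq_eq] at h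
    exact ⟨chk_A.2.2.2.2.2.2.2.1 i hi h.1.1, h.1.1, h.1.2, h.2⟩
  have hex : ∀ i : I, ∃ n ∈ N, n * P.s * n⁻¹ = P.el i.1 := fun i => by
    obtain ⟨a, b, c, d⟩ := hI i
    exact C.orbit_A h8 a b c ((hf _ a b c).2 d)
  choose g hg hge using hex
  have hmem : ∀ c : Fin 64, P.el c.val ∈ N := fun c => (C.el_mem_normA (by omega)).2 c.2
  let F : I × Fin 64 → N := fun p => ⟨g p.1 * P.el p.2.val, mul_mem (hg _) (hmem _)⟩
  have hb : Function.Bijective F := by
    constructor
    · rintro ⟨a, c⟩ ⟨b, d⟩ h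
      have h : g a * P.el c.val = g b * P.el d.val := congrArg Subtype.val h
      have key : ∀ (a : I) (c : Fin 64), g a * P.el c.val * P.s * (g a * P.el c.val)⁻¹ = P.el a.1 := fun a c => by
        rw [conj_mul', C.el_comm (by omega), mul_inv_cancel_right, hge]
      have e := key a c
      rw [h, key b d] at e
      have hab : a = b := Subtype.ext (C.inj _ a.2.1 _ b.2.1 e.symm)
      subst hab
      exact Prod.ext rfl (Fin.ext (C.inj _ (by omega) _ (by omega) (mul_left_cancel h)))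
    · rintro ⟨n, hn⟩
      obtain ⟨i, hi, hi', hie⟩ := C.mem_A.1
        ((mem_normalizer_iff.1 hn _).1 (C.mem_A.2 ⟨1, by norm_num, rfl, el_one P⟩))
      have hi0 : i ≠ 0 := fun h => by
        rw [h, C.rels.el_zero] at hie; exact C.hyp.s_ne (conj_eq_one_iff.1 hie.symm)
      have hfi := (hf i hi hi' hi0).1 (isConj_iff.2 ⟨n, hie.symm⟩)
      let a : I := ⟨i, by omega, by simp [hi', hi0, hfi, Bool.eq_false_iff]⟩
      have hc : (g a)⁻¹ * n * P.s = P.s * ((g a)⁻¹ * n) := by
        calc (g a)⁻¹ * n * P.s = (g a)⁻¹ * (n * P.s * n⁻¹) * n := by group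
          _ = (g a)⁻¹ * (g a * P.s * (g a)⁻¹) * n := by rw [hge a, ← hie]
          _ = _ := by group
      obtain ⟨c, hc', hce⟩ := (C.mem _).1 hc
      have hc64 : c < 64 := (C.el_mem_normA hc').1 (by rw [hce]; exact mul_mem (inv_mem (hg a)) hn)
      refine ⟨(a, ⟨c, hc64⟩), Subtype.ext ?_⟩
      show g a * P.el c = n
      rw [hce, mul_inv_cancel_left]
  rw [← Nat.card_congr (Equiv.ofBijective F hb), Nat.card_prod, Nat.card_fin, M12Cent.card_range_filter]

/-- Not all three are fused with the involution. -/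
theorem case_two [Finite G] (h8 : IsConj P.s (P.el 8)) (h11 : IsConj P.s (P.el 11)) : False := by
  haveI : Fact (Nat.Prime 2) := ⟨Nat.prime_two⟩
  haveI : Fact (Nat.Prime 3) := ⟨Nat.prime_three⟩
  have hall : ∀ i < 64, inA i = true → i ≠ 0 → (IsConj P.s (P.el i) ↔ (fun _ => true) i = true) := by
    intro i hi hiA hi0
    refine iff_of_true ?_ rfl
    have hinv : isInv i = true := by
      rw [isInv, chk_A.2.1 i hi hiA]
      simp [hi0, Bool.eq_false_iff]
    rcases C.invol_L (show i < 192 by omega) hinv with h | h | h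
    exacts [h, h8.trans h, h11.trans h]
  have hcN := C.card_normA h8 _ hall
  rw [show (fun i => inA i && !(Nat.beq i 0) && (fun _ : ℕ => true) i) = fun i => inA i && !(Nat.beq i 0) from
    funext fun i => Bool.and_true _, chk_S.2.2.2.2.2.2] at hcN
  set N := normalizer (A16 P : Set G) with hN
  have hle : A16 P ≤ N := le_normalizer
  set An := (A16 P).subgroupOf N with hAn
  haveI : An.Normal := normal_subgroupOf_of_le_normalizer le_rfl
  have hAc : Nat.card (A16 P) = 16 := by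
    rw [← chk_A.2.2.2.2.2.1, ← M12Cent.card_range_filter]
    exact (Nat.card_congr (Equiv.ofBijective
      (fun i : {i : ℕ // i < 192 ∧ inA i = true} =>
        (⟨P.el i.1, C.mem_A.2 ⟨i.1, chk_A.2.2.2.2.2.2.2.1 _ i.2.1 i.2.2, i.2.2, rfl⟩⟩ : A16 P))
      ⟨fun a b h => Subtype.ext (C.inj _ a.2.1 _ b.2.1 (congrArg Subtype.val h)),
        fun ⟨y, hy⟩ => let ⟨i, hi, hu, e⟩ := C.mem_A.1 hy; ⟨⟨i, by omega, hu⟩, Subtype.ext e⟩⟩)).symm
  have hX : Nat.card (N ⧸ An) = 60 := by
    have h := An.card_eq_card_quotient_mul_card_subgroup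
    rw [hcN, hAn, Nat.card_congr (subgroupOfEquivOfLe hle).toEquiv, hAc] at h
    rw [hAn]; omega
  let S : ℕ → N ⧸ An := fun i =>
    if h : i < 64 then QuotientGroup.mk' An ⟨P.el i, (C.el_mem_normA (by omega)).2 h⟩ else 1
  have hSdef : ∀ {i} (h : i < 64), S i = QuotientGroup.mk' An ⟨P.el i, (C.el_mem_normA (by omega)).2 h⟩ :=
    fun h => dif_pos h
  have hT64 : ∀ i < 64, ∀ j < 64, Tc i j < 64 := fun i hi j hj => (C.el_mem_normA (C.lt (by omega))).1 (by
    rw [← C.mul (by omega)]; exact mul_mem ((C.el_mem_normA (by omega)).2 hi) ((C.el_mem_normA (by omega)).2 hj))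
  have hiv64 : ∀ i < 64, iv false i < 64 := fun i hi => (C.el_mem_normA (chk_basic i (by omega)).1).1 (by
    rw [← C.el_inv (by omega)]; exact inv_mem ((C.el_mem_normA (by omega)).2 hi))
  have hSeq : ∀ {i j}, i < 64 → j < 64 → (S i = S j ↔ inA (Tc (iv false i) j) = true) := by
    intro i j hi hj
    rw [hSdef hi, hSdef hj, QuotientGroup.mk'_apply, QuotientGroup.mk'_apply, QuotientGroup.eq, hAn,
      mem_subgroupOf]
    show (P.el i)⁻¹ * P.el j ∈ A16 P ↔ _
    rw [C.el_inv (by omega), C.mul (by omega), C.mem_A]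
    constructor
    · rintro ⟨k, hk, hk', hke⟩
      rwa [← C.inj k (by omega) _ (C.lt (by omega)) hke]
    · intro h
      exact ⟨_, hT64 _ (hiv64 i hi) j hj, h, rfl⟩
  have hSmul : ∀ {i j}, i < 64 → j < 64 → S i * S j = S (Tc i j) := fun {i j} hi hj => by
    rw [hSdef hi, hSdef hj, hSdef (hT64 i hi j hj), ← map_mul]
    exact congrArg _ (Subtype.ext (C.mul (show j < 192 by omega)))
  have hScomm : ∀ {i j}, i < 64 → j < 64 → S i * S j = S j * S i := fun {i j} hi hj => by
    rw [hSmul hi hj, hSmul hj hi]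
    exact ((hSeq (hT64 j hj i hi) (hT64 i hi j hj)).2 (chk_S.2.2.2.2.1 i hi j hj)).symm
  let V : Subgroup (N ⧸ An) := M12Cent.ofClosed {x | ∃ i < 64, S i = x}
    ⟨0, by norm_num, by
      rw [hSdef (by norm_num), show (⟨P.el 0, _⟩ : N) = 1 from Subtype.ext C.rels.el_zero, map_one]⟩
    (by rintro _ ⟨i, hi, rfl⟩ _ ⟨j, hj, rfl⟩; exact ⟨Tc i j, hT64 i hi j hj, (hSmul hi hj).symm⟩)
  have hV : ∀ {x}, x ∈ V ↔ ∃ i < 64, S i = x := Iff.rfl
  have hVc : Nat.card V = 4 := by
    let e : Fin 4 → V := fun k => ⟨S ([0, 4, 16, 20].getD k.val 0),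
      hV.2 ⟨_, by fin_cases k <;> decide, rfl⟩⟩
    have hbij : Function.Bijective e := by
      refine ⟨fun a b h => ?_, ?_⟩
      · have ha : ∀ k : Fin 4, [0, 4, 16, 20].getD k.val 0 < 64 ∧ ([0, 4, 16, 20].getD k.val 0 = 0 ∨
            [0, 4, 16, 20].getD k.val 0 = 4 ∨ [0, 4, 16, 20].getD k.val 0 = 16 ∨ [0, 4, 16, 20].getD k.val 0 = 20) := by
          decide
        have h' := chk_S.2.2.2.1 _ (ha a).1 _ (ha b).1 (ha a).2 (ha b).2
          ((hSeq (ha a).1 (ha b).1).1 (congrArg Subtype.val h))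
        clear h; revert h'; revert a b; decide
      · rintro ⟨x, hx⟩
        obtain ⟨i, hi, rfl⟩ := hV.1 hx
        obtain ⟨j, hj, hj4, hA⟩ := chk_S.2.2.1 i hi
        have he : S j = S i := (hSeq hj hi).2 hA
        rcases hj4 with rfl | rfl | rfl | rfl
        exacts [⟨0, Subtype.ext he⟩, ⟨1, Subtype.ext he⟩, ⟨2, Subtype.ext he⟩, ⟨3, Subtype.ext he⟩]
    rw [← Nat.card_congr (Equiv.ofBijective e hbij), Nat.card_fin]
  have hfac : (60 : ℕ).factorization 2 = 2 := by
    rw [show (60 : ℕ) = 2 ^ 2 * 15 by norm_num, Nat.factorization_mul (by norm_num) (by norm_num),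
      Finsupp.add_apply, Nat.Prime.factorization_pow Nat.prime_two, Finsupp.single_eq_same,
      Nat.factorization_eq_zero_of_not_dvd (by norm_num)]
  let W : Sylow 2 (N ⧸ An) := Sylow.ofCard V (by rw [hVc, hX, hfac]; norm_num)
  have hW : (W : Subgroup (N ⧸ An)) = V := rfl
  have hNV : ∀ x ∈ normalizer (V : Set (N ⧸ An)), ∃ i < 64, S i = x := by
    intro x hx
    obtain ⟨⟨n, hn⟩, rfl⟩ := QuotientGroup.mk'_surjective An x
    have hconj : ∀ j < 64, ∃ k < 64, n * P.el j * n⁻¹ = P.el k := by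
      intro j hj
      obtain ⟨i, hi, hie⟩ := hV.1 ((mem_normalizer_iff.1 hx _).1 (hV.2 ⟨j, hj, rfl⟩))
      rw [hSdef hi, hSdef hj, ← map_inv, ← map_mul, ← map_mul, QuotientGroup.mk'_apply, QuotientGroup.mk'_apply,
        QuotientGroup.eq, hAn, mem_subgroupOf] at hie
      obtain ⟨a, ha, -, hae⟩ := C.mem_A.1 hie
      refine ⟨Tc i a, hT64 i hi a ha, ?_⟩
      rw [← C.mul (show a < 192 by omega), hae]
      show n * P.el j * n⁻¹ = P.el i * ((P.el i)⁻¹ * (n * P.el j * n⁻¹))
      group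
    obtain ⟨k, hk, hke⟩ := hconj 1 (by norm_num)
    have hcentral : ∀ l < 64, cm k l = true := by
      have hsurj : ∀ l < 64, ∃ j < 64, n * P.el j * n⁻¹ = P.el l := by
        choose f hf hfe using hconj
        have hinj : Function.Injective (fun j : Fin 64 => (⟨f j.val j.2, hf _ _⟩ : Fin 64)) := fun a b h => by
          have h' : f a.val a.2 = f b.val b.2 := congrArg Fin.val h
          have e := hfe a.val a.2
          rw [h', ← hfe b.val b.2] at e
          exact Fin.ext (C.inj _ (by omega) _ (by omega) (mul_left_cancel (mul_right_cancel e)))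
        intro l hl
        obtain ⟨j, hj⟩ := (Finite.injective_iff_surjective.1 hinj) ⟨l, hl⟩
        exact ⟨j.val, j.2, by rw [hfe j.val j.2]; exact congrArg (fun z : Fin 64 => P.el z.val) hj⟩
      intro l hl
      obtain ⟨j, hj, hje⟩ := hsurj l hl
      refine (C.comm_iff (by omega) (by omega)).1 ?_
      rw [← hke, ← hje, M12Cent.conj_comm_iff]
      exact ((C.comm_iff (by omega) (by norm_num)).2 (chk_S.1 j hj)).symm
    rcases chk_S.2.1 k hk hcentral with rfl | rfl
    · rw [el_one, C.rels.el_zero] at hke; exact absurd (conj_eq_one_iff.1 hke) C.hyp.s_ne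
    · rw [el_one] at hke
      obtain ⟨i, hi, hie⟩ := (C.mem n).1 (mul_inv_eq_iff_eq_mul.1 hke)
      have hi64 := (C.el_mem_normA hi).1 (hie ▸ hn)
      exact ⟨i, hi64, by rw [hSdef hi64]; exact congrArg _ (Subtype.ext hie)⟩
  have hWC : normalizer ((W : Subgroup (N ⧸ An)) : Set (N ⧸ An)) ≤
      centralizer ((W : Subgroup (N ⧸ An)) : Set (N ⧸ An)) := by
    rw [hW]
    intro x hx
    obtain ⟨i, hi, rfl⟩ := hNV x hx
    refine mem_centralizer_iff.2 ?_
    rintro _ ⟨j, hj, rfl⟩
    exact hScomm hj hi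
  have hWc : Nat.card ↥(W : Subgroup (N ⧸ An)) = 4 := hVc
  set K := (MonoidHom.transferSylow W hWC).ker with hK
  have hKc : Nat.card K = 15 := by
    have h := (MonoidHom.ker_transferSylow_isComplement' W hWC).card_mul_card
    rw [hWc, hX, ← hK] at h
    omega
  have hmem : ∀ x : N ⧸ An, x ^ 3 = 1 → x ∈ K := by
    intro x hx
    rw [hK, MonoidHom.mem_ker]
    set y := MonoidHom.transferSylow W hWC x with hy
    have h3 : y ^ 3 = 1 := by rw [hy, ← map_pow, hx, map_one]
    have h4 : y ^ 4 = 1 := by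
      have h : y ^ Nat.card ↥((W : Subgroup (N ⧸ An))) = 1 := pow_card_eq_one'
      rwa [hWc] at h
    calc y = y ^ 4 := by rw [pow_succ, h3, one_mul]
      _ = 1 := h4
  -- the two elements of order three
  have mk3 : ∀ w ∈ N, (∀ k : ℕ, w ^ k ∈ A16 P → 3 ∣ k) → ∀ j, ∀ hj : j < 64, w * P.el j * w⁻¹ * P.el j ∈ A16 P →
      inA (Tc j j) = true → ∃ t : N ⧸ An, orderOf t = 3 ∧ t * S j = S j * t := by
    intro w hw hdvd j hj hcom hjj
    set x := QuotientGroup.mk' An ⟨w, hw⟩ with hx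
    have hx3 : 3 ∣ orderOf x := by
      refine hdvd _ ?_
      have h := pow_orderOf_eq_one x
      rw [hx, ← map_pow, QuotientGroup.mk'_apply, QuotientGroup.eq_one_iff] at h
      exact mem_subgroupOf.1 h
    have hsq : (S j)⁻¹ = S j := inv_eq_of_mul_eq_one_right (by
      rw [hSmul hj hj, hSdef (hT64 j hj j hj), QuotientGroup.mk'_apply, QuotientGroup.eq_one_iff, hAn,
        mem_subgroupOf]
      exact C.mem_A.2 ⟨_, hT64 j hj j hj, hjj, rfl⟩)
    have hc : x * S j = S j * x := by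
      have h : x * S j * x⁻¹ * S j = 1 := by
        rw [hSdef hj, hx, ← map_inv, ← map_mul, ← map_mul, ← map_mul, QuotientGroup.mk'_apply,
          QuotientGroup.eq_one_iff, hAn, mem_subgroupOf]
        exact hcom
      rw [mul_eq_one_iff_eq_inv, hsq] at h
      exact mul_inv_eq_iff_eq_mul.1 h
    exact ⟨x ^ (orderOf x / 3), by
      rw [orderOf_pow, Nat.gcd_eq_right (Nat.div_dvd_of_dvd hx3),
        Nat.div_div_self hx3 (orderOf_pos x).ne'], (Commute.pow_left hc _).eq⟩
  obtain ⟨w, hw, hwd, hwc⟩ := C.exists_three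
  obtain ⟨t, ht, htc⟩ := mk3 w hw hwd 4 (by norm_num) hwc (by decide +kernel)
  have hf : IsConj P.s (P.el (sg flipAB 2)) := by rwa [sg_flips.2.2.1.1]
  obtain ⟨C', hel⟩ := C.change flipAB ok_flips.2.2 hf
  obtain ⟨w', hw', hwd', hwc'⟩ := C'.exists_three
  rw [C.A_change ok_flips.2.2 hf chk_A.2.2.2.2.2.2.2.2.1] at hw' hwd' hwc'
  rw [hel, chk_A.2.2.2.2.2.2.2.2.2.2.2.2] at hwc'
  obtain ⟨t', ht', htc'⟩ := mk3 w' hw' hwd' 16 (by norm_num) hwc' (by decide +kernel)
  have ht1 : t ^ 3 = 1 := ht ▸ pow_orderOf_eq_one t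
  have ht1' : t' ^ 3 = 1 := ht' ▸ pow_orderOf_eq_one t'
  have hmemT : t ∈ zpowers t' := by
    have huniq : Subsingleton (Sylow 3 K) := by
      refine (Nat.card_eq_one_iff_unique.1 ?_).1
      have h1 := card_sylow_modEq_one 3 K
      have hfac3 : (15 : ℕ).factorization 3 = 1 := by
        rw [show (15 : ℕ) = 3 ^ 1 * 5 by norm_num, Nat.factorization_mul (by norm_num) (by norm_num),
          Finsupp.add_apply, Nat.Prime.factorization_pow Nat.prime_three, Finsupp.single_eq_same,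
          Nat.factorization_eq_zero_of_not_dvd (by norm_num)]
      have h2 : Nat.card (Sylow 3 K) ∣ 5 := by
        have R : Sylow 3 K := default
        have hi := (R : Subgroup K).index_mul_card
        rw [R.card_eq_multiplicity, hKc, hfac3] at hi
        have h5 : (R : Subgroup K).index = 5 := by omega
        exact h5 ▸ R.card_dvd_index
      rcases (Nat.dvd_prime (by norm_num : Nat.Prime 5)).1 h2 with h | h
      · exact h
      · rw [h] at h1; exact absurd h1 (by decide)
    have hfac3 : (15 : ℕ).factorization 3 = 1 := by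
      rw [show (15 : ℕ) = 3 ^ 1 * 5 by norm_num, Nat.factorization_mul (by norm_num) (by norm_num),
        Finsupp.add_apply, Nat.Prime.factorization_pow Nat.prime_three, Finsupp.single_eq_same,
        Nat.factorization_eq_zero_of_not_dvd (by norm_num)]
    have hP : ∀ z : K, orderOf z = 3 → Nat.card (zpowers z) = 3 ^ (Nat.card K).factorization 3 := fun z hz => by
      rw [Nat.card_zpowers, hz, hKc, hfac3]; norm_num
    have z1 : orderOf (⟨t, hmem t ht1⟩ : K) = 3 := by rw [← Subgroup.orderOf_coe]; exact ht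
    have z2 : orderOf (⟨t', hmem t' ht1'⟩ : K) = 3 := by rw [← Subgroup.orderOf_coe]; exact ht'
    have heq := congrArg (fun R : Sylow 3 K => (R : Subgroup K))
      (Subsingleton.elim (Sylow.ofCard _ (hP _ z1)) (Sylow.ofCard _ (hP _ z2)))
    have heq' : zpowers (⟨t, hmem t ht1⟩ : K) = zpowers (⟨t', hmem t' ht1'⟩ : K) := heq
    have hz : (⟨t, hmem t ht1⟩ : K) ∈ zpowers (⟨t', hmem t' ht1'⟩ : K) := heq' ▸ mem_zpowers _
    obtain ⟨k, hk⟩ := hz
    exact ⟨k, by simpa using congrArg Subtype.val hk⟩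
  obtain ⟨k, hk⟩ := hmemT
  have hk : t' ^ k = t := hk
  have htc16 : t * S 16 = S 16 * t := by rw [← hk]; exact (Commute.zpow_left htc' k).eq
  have htnorm : t ∈ normalizer (V : Set (N ⧸ An)) := by
    refine mem_normalizer_fintype fun x hx => ?_
    obtain ⟨i, hi, rfl⟩ := hV.1 hx
    obtain ⟨j, hj, hj4, hA⟩ := chk_S.2.2.1 i hi
    rw [← (hSeq hj hi).2 hA]
    have hfix : t * S j * t⁻¹ = S j := by
      rw [mul_inv_eq_iff_eq_mul]
      rcases hj4 with rfl | rfl | rfl | rfl
      · rw [hSdef hj, show (⟨P.el 0, _⟩ : N) = 1 from Subtype.ext C.rels.el_zero, map_one, mul_one, one_mul]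
      · exact htc
      · exact htc16
      · rw [← chk_S.2.2.2.2.2.1, ← hSmul (by norm_num) (by norm_num)]
        exact ((Commute.mul_right (show Commute t (S 4) from htc) htc16)).eq
    rw [hfix]; exact hV.2 ⟨j, hj, rfl⟩
  obtain ⟨i, hi, hie⟩ := hNV t htnorm
  have h4 : t ^ 4 = 1 := by
    have h : (⟨t, hV.2 ⟨i, hi, hie⟩⟩ : V) ^ Nat.card V = 1 := pow_card_eq_one'
    rw [hVc] at h
    exact congrArg Subtype.val h
  have ht' : t = 1 := by rw [← h4, pow_succ, ht1, one_mul]
  rw [ht', orderOf_one] at ht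
  omega

end CType

end Cfsg.Agent.S3Extra
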