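import Cfsg.Agent.Lib.S3Extra.Fusion
import Cfsg.Agent.Lib.M12Cent.CaseTwo

/-!
The case in which the two further classes are not fused with the central involution: the subgroup of order eight is
normal.
-/

set_option autoImplicit false
set_option synthInstance.maxSize 100000
set_option linter.style.haveILetI false

namespace Cfsg.Agent.S3Extra

open Subgroup

variable {G : Type*} [Group G]

/-- The table entries commuting with `8`, as a predicate. -/
def inU (i : ℕ) : Bool := cm i 8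

theorem chk_U : (List.range 192).countP inU = 32 ∧
    (∀ i < 192, inU i = true → (∀ j < 192, inU j = true → cm i j = true) → i = 0 ∨ i = 1 ∨ i = 8 ∨ i = 9) ∧
    (∀ i < 192, ∀ j < 192, inU i = true → inU j = true → inU (Tc i j) = true) ∧
    inU 0 = true ∧ inU 1 = true ∧ inU 2 = true ∧ inU 3 = true ∧
    (∀ k < 8, ∀ j < 192, Tc 8 k = Tc (Tc j k) 8 → j = 0 ∨ j = 1) ∧
    (∀ i < 192, isInv i = true → inU i = true → i < 8 → i = 1 ∨ i = 2 ∨ i = 3) ∧
    (∀ i < 8, ∀ j < 8, cm i j = true) ∧ (∀ i < 8, Tc i i = 0) ∧ (∀ i < 8, 1 ≤ i → isInv i = true) ∧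
    (∃ y < 192, cj y 9 = 8) := by
  decide +kernel

namespace CType

variable {Q : Subgroup G} {P : Gens G} (C : CType Q P)
include C

theorem E_comm {x y : G} (hx : x ∈ E8 P) (hy : y ∈ E8 P) : x * y = y * x := by
  obtain ⟨i, hi, rfl⟩ := C.mem_E.1 hx
  obtain ⟨j, hj, rfl⟩ := C.mem_E.1 hy
  exact (C.comm_iff (by omega) (by omega)).2 (chk_U.2.2.2.2.2.2.2.2.2.1 i hi j hj)

theorem E_sq {x : G} (hx : x ∈ E8 P) : x * x = 1 := by
  obtain ⟨i, hi, rfl⟩ := C.mem_E.1 hx
  exact (C.sq_iff (by omega)).2 (chk_U.2.2.2.2.2.2.2.2.2.2.1 i hi)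

theorem card_E [Finite G] : Nat.card (E8 P) = 8 := by
  rw [Nat.card_congr (Equiv.ofBijective (fun i : Fin 8 => (⟨P.el i, C.mem_E.2 ⟨i, i.2, rfl⟩⟩ : E8 P))
    ⟨fun a b h => Fin.ext (C.inj _ (by omega) _ (by omega) (congrArg Subtype.val h)),
      fun ⟨x, hx⟩ => let ⟨i, hi, e⟩ := C.mem_E.1 hx; ⟨⟨i, hi⟩, Subtype.ext e⟩⟩).symm, Nat.card_fin]

/-- The conjugates of the involution commuting with one in the subgroup of order eight lie in it. -/
theorem class_near [Finite G] (hX : ∀ i < 192, IsConj P.s (P.el i) → i < 8) {e v : G} (he : e ∈ E8 P) (he1 : e ≠ 1)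
    (hv : IsConj P.s v) (hc : v * e = e * v) : v ∈ E8 P := by
  obtain ⟨k, hk, rfl⟩ := C.mem_E.1 he
  have hk1 : 1 ≤ k := Nat.one_le_iff_ne_zero.2 fun h => he1 (by rw [h, C.rels.el_zero])
  obtain ⟨m, hm, hme⟩ := C.exists_to hk1 hk
  have hc' : m⁻¹ * v * m * P.s = P.s * (m⁻¹ * v * m) := by
    calc m⁻¹ * v * m * P.s = m⁻¹ * (v * (m * P.s * m⁻¹)) * m := by group
      _ = _ := by rw [hme, hc, ← hme]; group
  obtain ⟨i, hi, hie⟩ := (C.mem _).1 hc'
  have := hX i hi (hie ▸ hv.trans (isConj_iff.2 ⟨m⁻¹, by group⟩))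
  have hE : m⁻¹ * v * m ∈ E8 P := C.mem_E.2 ⟨i, this, hie⟩
  have := (mem_normalizer_iff.1 hm _).1 hE
  rwa [show m * (m⁻¹ * v * m) * m⁻¹ = v by group] at this

theorem E_class [Finite G] {e : G} (he : e ∈ E8 P) (he1 : e ≠ 1) : IsConj P.s e := by
  obtain ⟨k, hk, rfl⟩ := C.mem_E.1 he
  obtain ⟨m, -, hme⟩ := C.exists_to (Nat.one_le_iff_ne_zero.2 fun h => he1 (by rw [h, C.rels.el_zero])) hk
  exact isConj_iff.2 ⟨m, hme⟩

/-- An element sending one member of the subgroup of order eight to another normalises it. -/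
theorem mem_norm_of_map [Finite G] (hX : ∀ i < 192, IsConj P.s (P.el i) → i < 8) {g e : G} (he : e ∈ E8 P)
    (he1 : e ≠ 1) (hg : g * e * g⁻¹ ∈ E8 P) : g ∈ normalizer (E8 P : Set G) :=
  mem_normalizer_fintype fun y hy => by
    by_cases hy1 : y = 1
    · subst hy1; rw [mul_one, mul_inv_cancel]; exact one_mem _
    refine C.class_near hX hg (fun h => he1 (conj_eq_one_iff.1 h))
      ((C.E_class hy hy1).trans (isConj_iff.2 ⟨g, rfl⟩)) ?_
    rw [M12Cent.conj_comm_iff]
    exact C.E_comm hy he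

/-- An element of the normaliser commuting with `b₀` fixes the involution. -/
theorem fix_of_comm [Finite G] {g : G} (hg : g ∈ normalizer (E8 P : Set G)) (hc : g * P.el 8 = P.el 8 * g) :
    g * P.s = P.s * g := by
  have h8 : (8 : ℕ) < 192 := by norm_num
  have hrel : P.el 8 * P.el 4 = P.s * P.el 4 * P.el 8 := by
    rw [← el_one P, C.mul (by norm_num), C.mul (by norm_num), C.mul h8]
    exact congrArg P.el (show Tc 8 4 = Tc (Tc 1 4) 8 by decide +kernel)
  let φ := MulAut.conj g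
  have h8' : φ (P.el 8) = P.el 8 := by simp [φ, hc]
  obtain ⟨k, hk, hke⟩ := C.mem_E.1 ((mem_normalizer_iff.1 hg _).1 (C.mem_E.2 ⟨4, by norm_num, rfl⟩))
  obtain ⟨j, hj, hje⟩ := C.mem_E.1 ((mem_normalizer_iff.1 hg _).1 (C.mem_E.2 ⟨1, by norm_num, el_one P⟩))
  have h := congrArg φ hrel
  rw [map_mul, map_mul, map_mul, h8', show φ (P.el 4) = P.el k from hke.symm, show φ P.s = P.el j from hje.symm,
    C.mul (by omega), C.mul (by omega), C.mul h8, C.eq_iff (C.lt (by omega)) (C.lt h8)] at h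
  rcases chk_U.2.2.2.2.2.2.2.1 k hk j (by omega) h with rfl | rfl
  · rw [C.rels.el_zero] at hje; exact absurd (conj_eq_one_iff.1 hje.symm) C.hyp.s_ne
  · rw [el_one] at hje; exact mul_inv_eq_iff_eq_mul.1 hje.symm

theorem cent_eight_le [Finite G] (hX : ∀ i < 192, IsConj P.s (P.el i) → i < 8) :
    centralizer ({P.el 8} : Set G) ≤ centralizer ({P.s} : Set G) := by
  have h8 : (8 : ℕ) < 192 := by norm_num
  set H := centralizer ({P.el 8} : Set G) with hH
  have hmem : ∀ {y}, y ∈ H ↔ y * P.el 8 = P.el 8 * y := mem_centralizer_singleton_iff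
  set U := centralizer ({P.s} : Set G) ⊓ H with hU
  have hUmem : ∀ {y}, y ∈ U ↔ ∃ i < 192, inU i = true ∧ P.el i = y := by
    intro y
    rw [mem_inf, mem_centralizer_singleton_iff, hmem]
    constructor
    · rintro ⟨h1, h2⟩
      obtain ⟨i, hi, rfl⟩ := (C.mem y).1 h1
      exact ⟨i, hi, (C.comm_iff hi h8).1 h2, rfl⟩
    · rintro ⟨i, hi, hu, rfl⟩
      exact ⟨C.el_comm hi, (C.comm_iff hi h8).2 hu⟩
  have hUc : Nat.card U = 2 ^ 5 := by
    rw [show (2 : ℕ) ^ 5 = (List.range 192).countP inU by rw [chk_U.1]; norm_num, ← M12Cent.card_range_filter]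
    exact (Nat.card_congr (Equiv.ofBijective
      (fun i : {i : ℕ // i < 192 ∧ inU i = true} => (⟨P.el i.1, hUmem.2 ⟨i.1, i.2.1, i.2.2, rfl⟩⟩ : U))
      ⟨fun a b h => Subtype.ext (C.inj _ a.2.1 _ b.2.1 (congrArg Subtype.val h)),
        fun ⟨y, hy⟩ => let ⟨i, hi, hu, e⟩ := hUmem.1 hy; ⟨⟨i, hi, hu⟩, Subtype.ext e⟩⟩)).symm
  have hd : ¬ 2 ^ (5 + 1) ∣ Nat.card H := by
    refine M12Cent.card_sylow_of_no_double inf_le_right hUc fun K hle hKH hK => ?_
    have hK2 : Nat.card K = 2 * Nat.card U := by rw [hK, hUc]; norm_num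
    have hKL : K ≤ U := fun n hn => by
      refine mem_inf.2 ⟨mem_centralizer_singleton_iff.2 ?_, hKH hn⟩
      have hsU : P.s ∈ U := hUmem.2 ⟨1, by norm_num, chk_U.2.2.2.2.1, el_one P⟩
      obtain ⟨i, hi, hu, hie⟩ := hUmem.1 (M12Cent.conj_mem_of_double hle hK2 hn hsU)
      have hcen : ∀ j < 192, inU j = true → cm i j = true := fun j hj hju => by
        refine (C.comm_iff hi hj).1 ?_
        have h' := M12Cent.conj_mem_of_double hle hK2 (inv_mem hn) (hUmem.2 ⟨j, hj, hju, rfl⟩)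
        rw [inv_inv] at h'
        have hc := mem_centralizer_singleton_iff.1 (mem_inf.1 h').1
        rw [hie]
        calc n * P.s * n⁻¹ * P.el j = n * (P.s * (n⁻¹ * P.el j * n)) * n⁻¹ := by group
          _ = _ := by rw [← hc]; group
      have hc : IsConj P.s (P.el i) := isConj_iff.2 ⟨n, hie.symm⟩
      rcases chk_U.2.1 i hi hu hcen with rfl | rfl | rfl | rfl
      · rw [C.rels.el_zero] at hie; exact absurd (conj_eq_one_iff.1 hie.symm) C.hyp.s_ne
      · rw [el_one] at hie; exact mul_inv_eq_iff_eq_mul.1 hie.symm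
      · exact absurd (hX 8 h8 hc) (by norm_num)
      · exact absurd (hX 8 h8 (hc.trans (C.el_wit (by norm_num) chk_U.2.2.2.2.2.2.2.2.2.2.2.2))) (by norm_num)
    have := Subgroup.card_le_of_le hKL
    omega
  have hsU : P.s ∈ U := hUmem.2 ⟨1, by norm_num, chk_U.2.2.2.2.1, el_one P⟩
  have h2U : P.el 2 ∈ U := hUmem.2 ⟨2, by norm_num, chk_U.2.2.2.2.2.1, rfl⟩
  have hsE : P.s ∈ E8 P := C.mem_E.2 ⟨1, by norm_num, el_one P⟩
  refine fun g hg => mem_centralizer_singleton_iff.2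
    (M12Cent.central_of_isolated inf_le_right hUc hd hsU C.hyp.s_two (fun g hg hgU => ?_) ?_ g hg)
  · obtain ⟨i, hi, hu, hie⟩ := hUmem.1 hgU
    have hi8 := hX i hi (isConj_iff.2 ⟨g, hie.symm⟩)
    have hN := C.mem_norm_of_map hX hsE C.hyp.s_ne (hie ▸ C.mem_E.2 ⟨i, hi8, rfl⟩)
    rw [C.fix_of_comm hN (hmem.1 hg), mul_inv_cancel_right]
  · intro O hO hn hodd
    have hfix : ∀ e, e ∈ E8 P → e ≠ 1 → ∀ x ∈ O, x * e = e * x → x = 1 := fun e he he1 x hx hxe => by
      have hN := C.mem_norm_of_map hX he he1 (by rwa [hxe, mul_inv_cancel_right])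
      have hxU : x ∈ U := mem_inf.2
        ⟨mem_centralizer_singleton_iff.2 (C.fix_of_comm hN (hmem.1 (hO hx))), hO hx⟩
      have h1 := Subgroup.orderOf_dvd_natCard U hxU
      rw [hUc] at h1
      exact orderOf_eq_one_iff.1 (Nat.eq_one_of_dvd_coprimes (hodd.coprime_two_left.pow_left 5) h1
        (Subgroup.orderOf_dvd_natCard _ hx))
    have h2E : P.el 2 ∈ E8 P := C.mem_E.2 ⟨2, by norm_num, rfl⟩
    refine M12Cent.odd_trivial C.hyp.s_sq (C.E_sq h2E) (fun x hx => hn _ (mem_inf.1 hsU).2 x hx)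
      (fun x hx => hn _ (mem_inf.1 h2U).2 x hx) (hfix _ hsE C.hyp.s_ne)
      (hfix _ h2E fun h => ?_) (hfix _ (mul_mem hsE h2E) fun h => ?_)
    · rw [← C.rels.el_zero, C.eq_iff (by norm_num) (by norm_num)] at h; exact absurd h (by norm_num)
    · rw [← el_one P, C.mul (by norm_num), ← C.rels.el_zero, C.eq_iff (C.lt (by norm_num)) (by norm_num)] at h
      exact absurd h (by decide +kernel)

/-- The conclusion. -/
theorem case_zero [Finite G] (h8 : ¬ IsConj P.s (P.el 8)) (h11 : ¬ IsConj P.s (P.el 11)) :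
    Nat.card (normalizer (E8 P : Set G)) = Nat.card G ∧ Nat.card G = 1344 := by
  have h32 : ¬ IsConj P.s (P.el 32) ∧ ¬ IsConj P.s (P.el 33) := by
    rcases C.pairing with ⟨a, b⟩ | ⟨a, b⟩
    · exact ⟨fun h => h8 (h.trans a.symm), fun h => h11 (h.trans b.symm)⟩
    · exact ⟨fun h => h11 (h.trans b.symm), fun h => h8 (h.trans a.symm)⟩
  have hX : ∀ i < 192, IsConj P.s (P.el i) → i < 8 := by
    have hd : ∀ i < 192, isInv i = true → i < 8 ∨
        ∃ y < 192, cj y i = 8 ∨ cj y i = 11 ∨ cj y i = 32 ∨ cj y i = 33 := by decide +kernel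
    intro i hi h
    have hinv : isInv i = true := (C.orderOf_el hi).1 (by
      obtain ⟨g, hg⟩ := isConj_iff.1 h
      rw [← hg, ← MulAut.conj_apply, MulEquiv.orderOf_eq, C.hyp.s_two])
    rcases hd i hi hinv with h' | ⟨y, hy, hc⟩
    · exact h'
    · have hw := h.trans (C.conj_of_wit hi hy rfl)
      rcases hc with e | e | e | e <;> rw [e] at hw
      exacts [absurd hw h8, absurd hw h11, absurd hw h32.1, absurd hw h32.2]
  obtain ⟨C', hel⟩ := C.change flipB ok_flips.2.1 (sg_flips.2.1.1.symm ▸ C.fused)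
  have hs' : (P.change flipB).s = P.s := el_one P
  have hX' : ∀ i < 192, IsConj (P.change flipB).s ((P.change flipB).el i) → i < 8 := by
    have hd : ∀ i < 192, sg flipB i < 192 ∧ (sg flipB i < 8 → i < 8) := by decide +kernel
    intro i hi h
    rw [hs', hel] at h
    exact (hd i hi).2 (hX _ (hd i hi).1 h)
  have hc8 := C.cent_eight_le hX
  have hc11 : centralizer ({P.el 11} : Set G) ≤ centralizer ({P.s} : Set G) := by
    have := C'.cent_eight_le hX'
    rwa [hel, sg_flips.2.1.2.1, hs'] at this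
  -- the class is the set of involutions in the subgroup of order eight
  have hclass : ∀ y, IsConj P.s y → y ∈ E8 P := by
    intro y hy
    have hy2 : orderOf y = 2 := by
      obtain ⟨g, hg⟩ := isConj_iff.1 hy
      rw [← hg, ← MulAut.conj_apply, MulEquiv.orderOf_eq, C.hyp.s_two]
    have hb2 : orderOf (P.el 8) = 2 := C.two_el (by norm_num) (by decide +kernel)
    rcases Nat.even_or_odd (orderOf (y * P.el 8)) with he | ho
    swap
    · obtain ⟨d, -, hd⟩ := Invol.conj_of_odd hy2 hb2 ho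
      exact absurd (hy.trans (isConj_iff.2 ⟨d, hd⟩)) h8
    obtain ⟨hc1, hc2⟩ := Invol.half_commute hy2 hb2 he
    have hz2 := Invol.half_order hy2 hb2 he (orderOf_pos _)
    set z := (y * P.el 8) ^ (orderOf (y * P.el 8) / 2)
    have hzs : z * P.s = P.s * z :=
      mem_centralizer_singleton_iff.1 (hc8 (mem_centralizer_singleton_iff.2 hc2))
    have key : ∀ b : G, centralizer ({b} : Set G) ≤ centralizer ({P.s} : Set G) → IsConj b z → y ∈ E8 P := by
      intro b hb hbz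
      obtain ⟨g, hg⟩ := isConj_iff.1 hbz
      have pull : ∀ v, z * v = v * z → g⁻¹ * v * g * P.s = P.s * (g⁻¹ * v * g) := fun v hv => by
        refine mem_centralizer_singleton_iff.1 (hb (mem_centralizer_singleton_iff.2 ?_))
        calc g⁻¹ * v * g * b = g⁻¹ * (v * (g * b * g⁻¹)) * g := by group
          _ = b * (g⁻¹ * v * g) := by rw [hg, ← hv, ← hg]; group
      have inE : ∀ v, IsConj P.s v → z * v = v * z → g⁻¹ * v * g ∈ E8 P := fun v hv hzv => by
        obtain ⟨i, hi, hie⟩ := (C.mem _).1 (pull v hzv)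
        exact C.mem_E.2 ⟨i, hX i hi (hie ▸ hv.trans (isConj_iff.2 ⟨g⁻¹, by group⟩)), hie⟩
      have hcys := C.E_comm (inE y hy hc1) (inE P.s (IsConj.refl _) hzs)
      have hys : y * P.s = P.s * y := by
        rwa [show g⁻¹ * y * g = g⁻¹ * y * g⁻¹⁻¹ by group, show g⁻¹ * P.s * g = g⁻¹ * P.s * g⁻¹⁻¹ by group,
          M12Cent.conj_comm_iff] at hcys
      obtain ⟨i, hi, hie⟩ := (C.mem _).1 hys
      exact C.mem_E.2 ⟨i, hX i hi (hie ▸ hy), hie⟩
    rcases C.invol_cases hz2 hzs with h | h | h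
    · obtain ⟨i, hi, hie⟩ := (C.mem _).1 hzs
      refine C.class_near hX (C.mem_E.2 ⟨i, hX i hi (hie ▸ h), hie⟩) ?_ hy hc1.symm
      exact fun h1 => by rw [h1, orderOf_one] at hz2; omega
    · exact key _ hc8 h
    · exact key _ hc11 h
  have htop : normalizer (E8 P : Set G) = ⊤ := eq_top_iff.2 fun g _ => C.mem_norm_of_map hX
    (C.mem_E.2 ⟨1, by norm_num, el_one P⟩) C.hyp.s_ne (hclass _ (isConj_iff.2 ⟨g, rfl⟩))
  have hc : Nat.card (normalizer (E8 P : Set G)) = Nat.card G := by rw [htop, card_top]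
  exact ⟨hc, hc ▸ C.card_norm⟩

end CType

end Cfsg.Agent.S3Extra
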