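import Mathlib.Algebra.Group.Commute.Basic
import Mathlib.Tactic.Group
import Mathlib.Data.Nat.Bitwise
import Mathlib.Tactic

/-!
Seven generators subject to the relations of the two possible centralisers: normal forms, indexed below 192, and
their multiplication table.
-/

set_option autoImplicit false

namespace Cfsg.Agent.S3Extra

variable {G : Type*} [Group G]

/-- The seven generators. -/
structure Gens (G : Type*) where
  s : G
  a₀ : G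
  a₁ : G
  b₀ : G
  b₁ : G
  u : G
  x : G

/-- The relations; `δ` tells the two types apart. -/
structure Rels (P : Gens G) (δ : Bool) : Prop where
  ss : P.s * P.s = 1
  sa₀ : P.s * P.a₀ = P.a₀ * P.s
  sa₁ : P.s * P.a₁ = P.a₁ * P.s
  sb₀ : P.s * P.b₀ = P.b₀ * P.s
  sb₁ : P.s * P.b₁ = P.b₁ * P.s
  su : P.s * P.u = P.u * P.s
  sx : P.s * P.x = P.x * P.s
  a₀₀ : P.a₀ * P.a₀ = 1
  a₁₁ : P.a₁ * P.a₁ = 1
  a₀₁ : P.a₁ * P.a₀ = P.a₀ * P.a₁
  b₀₀ : P.b₀ * P.b₀ = 1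
  b₁₁ : P.b₁ * P.b₁ = 1
  b₀₁ : P.b₁ * P.b₀ = P.b₀ * P.b₁
  b₀a₀ : P.b₀ * P.a₀ = P.a₀ * P.b₀
  b₁a₁ : P.b₁ * P.a₁ = P.a₁ * P.b₁
  b₀a₁ : P.b₀ * P.a₁ = P.s * P.a₁ * P.b₀
  b₁a₀ : P.b₁ * P.a₀ = P.s * P.a₀ * P.b₁
  xa₀ : P.x * P.a₀ = P.a₁ * P.x
  xa₁ : P.x * P.a₁ = P.a₀ * P.a₁ * P.x
  xb₀ : P.x * P.b₀ = P.b₁ * P.x
  xb₁ : P.x * P.b₁ = P.b₀ * P.b₁ * P.x
  uu : P.u * P.u = 1
  xxx : P.x * P.x * P.x = 1
  xu : P.x * P.u = P.u * (P.x * P.x)
  ua₀ : P.u * P.a₀ = P.a₀ * P.u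
  ua₁ : P.u * P.a₁ = P.a₀ * P.a₁ * P.u
  ub₀ : P.u * P.b₀ = (cond δ (P.s * P.a₀) 1) * P.b₀ * P.u
  ub₁ : P.u * P.b₁ = (cond δ (P.s * (P.a₀ * P.a₁)) 1) * (P.b₀ * P.b₁) * P.u

/-- Exponents of a normal form. -/
abbrev Exps : Type := Bool × Bool × Bool × Bool × Bool × Bool × ℕ

/-- The bit of an index. -/
def bitB (i k : ℕ) : Bool := Nat.beq (i / 2 ^ k % 2) 1

/-- The exponents of an index. -/
def dec (i : ℕ) : Exps := (bitB i 0, bitB i 1, bitB i 2, bitB i 3, bitB i 4, bitB i 5, i / 64)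

/-- The number of a truth value. -/
def bn (b : Bool) : ℕ := cond b 1 0

/-- The index of left multiplication by `s`. -/
def Ls (i : ℕ) : ℕ := Nat.xor i 1
/-- The index of left multiplication by `a₀`. -/
def La₀ (i : ℕ) : ℕ := Nat.xor i 2
/-- The index of left multiplication by `a₁`. -/
def La₁ (i : ℕ) : ℕ := Nat.xor i 4
/-- The index of left multiplication by `b₀`. -/
def Lb₀ (i : ℕ) : ℕ := Nat.xor (Nat.xor i 8) (bn (bitB i 2))
/-- The index of left multiplication by `b₁`. -/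
def Lb₁ (i : ℕ) : ℕ := Nat.xor (Nat.xor i 16) (bn (bitB i 1))
/-- The index of left multiplication by `u`. -/
def Lu (δ : Bool) (i : ℕ) : ℕ :=
  let m := bitB i 3
  let n := bitB i 4
  Nat.xor (Nat.xor (Nat.xor (Nat.xor i 32) (2 * bn (bitB i 2))) (8 * bn n))
    (cond δ (bn (m || n) + 2 * bn (xor m n) + 4 * bn n) 0)
/-- The index of left multiplication by `x`. -/
def Lx (i : ℕ) : ℕ :=
  let q := bitB i 2
  let n := bitB i 4
  let l := bn (bitB i 5)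
  i % 2 + 2 * bn q + 4 * bn (xor (bitB i 1) q) + 8 * bn n + 16 * bn (xor (bitB i 3) n) + 32 * l +
    64 * ((i / 64 + 1 + l) % 3)

/-- The product of two indices. -/
def T (δ : Bool) (i j : ℕ) : ℕ :=
  let j := Nat.rec j (fun _ v => Lx v) (i / 64)
  let j := cond (bitB i 5) (Lu δ j) j
  let j := cond (bitB i 4) (Lb₁ j) j
  let j := cond (bitB i 3) (Lb₀ j) j
  let j := cond (bitB i 2) (La₁ j) j
  let j := cond (bitB i 1) (La₀ j) j
  cond (bitB i 0) (Ls j) j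

/-- The exponents after left multiplication by `x`. -/
def fx : Exps → Exps
  | (e, p, q, m, n, l, k) => (e, q, xor p q, n, xor m n, l, (k + 1 + bn l) % 3)

/-- The exponents after left multiplication by `u`. -/
def fu (δ : Bool) : Exps → Exps
  | (e, p, q, m, n, l, k) =>
    (xor e (δ && (m || n)), xor (xor p q) (δ && xor m n), xor q (δ && n), xor m n, n, !l, k)

set_option synthInstance.maxSize 20000 in
theorem dec_L (δ : Bool) (i : ℕ) (hi : i < 192) :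
    (Ls i < 192 ∧ dec (Ls i) = (let v := dec i; (!v.1, v.2))) ∧
    (La₀ i < 192 ∧ dec (La₀ i) = (let v := dec i; (v.1, !v.2.1, v.2.2))) ∧
    (La₁ i < 192 ∧ dec (La₁ i) = (let v := dec i; (v.1, v.2.1, !v.2.2.1, v.2.2.2))) ∧
    (Lb₀ i < 192 ∧ dec (Lb₀ i) = (let v := dec i; (xor v.1 v.2.2.1, v.2.1, v.2.2.1, !v.2.2.2.1, v.2.2.2.2))) ∧
    (Lb₁ i < 192 ∧ dec (Lb₁ i) =
      (let v := dec i; (xor v.1 v.2.1, v.2.1, v.2.2.1, v.2.2.2.1, !v.2.2.2.2.1, v.2.2.2.2.2))) ∧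
    (Lu δ i < 192 ∧ dec (Lu δ i) = fu δ (dec i)) ∧ (Lx i < 192 ∧ dec (Lx i) = fx (dec i)) := by
  revert i δ
  decide +kernel

namespace Gens

variable (P : Gens G)

/-- The element with given exponents. -/
def W : Exps → G
  | (e, p, q, m, n, l, k) => cond e P.s 1 * (cond p P.a₀ 1 * cond q P.a₁ 1) *
      (cond m P.b₀ 1 * cond n P.b₁ 1) * (cond l P.u 1 * P.x ^ k)

/-- The element with given index. -/
def el (i : ℕ) : G := P.W (dec i)

end Gens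

namespace Rels

variable {P : Gens G} {δ : Bool} (R : Rels P δ)
include R

theorem aux (g h : G) (H : g * h = h * g) (c : Bool) : g * cond c h 1 = cond c h 1 * g := by
  cases c <;> simp [H]

theorem s_W (v : Exps) : P.s * P.W v = P.W (!v.1, v.2) := by
  obtain ⟨e, p, q, m, n, l, k⟩ := v
  cases e <;> simp [Gens.W, ← mul_assoc, R.ss]

theorem a₀_W (v : Exps) : P.a₀ * P.W v = P.W (v.1, !v.2.1, v.2.2) := by
  obtain ⟨e, p, q, m, n, l, k⟩ := v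
  have h1 : ∀ w : G, P.a₀ * (P.s * w) = P.s * (P.a₀ * w) := fun w => by rw [← mul_assoc, ← R.sa₀, mul_assoc]
  have h2 : ∀ w : G, P.a₀ * (P.a₀ * w) = w := fun w => by rw [← mul_assoc, R.a₀₀, one_mul]
  cases e <;> cases p <;> simp [Gens.W, mul_assoc, h1, h2]

theorem a₁_W (v : Exps) : P.a₁ * P.W v = P.W (v.1, v.2.1, !v.2.2.1, v.2.2.2) := by
  obtain ⟨e, p, q, m, n, l, k⟩ := v
  have h1 : ∀ w : G, P.a₁ * (P.s * w) = P.s * (P.a₁ * w) := fun w => by rw [← mul_assoc, ← R.sa₁, mul_assoc]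
  have h2 : ∀ w : G, P.a₁ * (P.a₁ * w) = w := fun w => by rw [← mul_assoc, R.a₁₁, one_mul]
  have h3 : ∀ w : G, P.a₁ * (P.a₀ * w) = P.a₀ * (P.a₁ * w) := fun w => by rw [← mul_assoc, R.a₀₁, mul_assoc]
  cases e <;> cases p <;> cases q <;> simp [Gens.W, mul_assoc, h1, h2, h3]

theorem b₀_W (v : Exps) :
    P.b₀ * P.W v = P.W (xor v.1 v.2.2.1, v.2.1, v.2.2.1, !v.2.2.2.1, v.2.2.2.2) := by
  obtain ⟨e, p, q, m, n, l, k⟩ := v
  have h1 : ∀ w : G, P.b₀ * (P.s * w) = P.s * (P.b₀ * w) := fun w => by rw [← mul_assoc, ← R.sb₀, mul_assoc]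
  have h2 : ∀ w : G, P.b₀ * (P.b₀ * w) = w := fun w => by rw [← mul_assoc, R.b₀₀, one_mul]
  have h3 : ∀ w : G, P.b₀ * (P.a₀ * w) = P.a₀ * (P.b₀ * w) := fun w => by rw [← mul_assoc, R.b₀a₀, mul_assoc]
  have h4 : ∀ w : G, P.b₀ * (P.a₁ * w) = P.s * (P.a₁ * (P.b₀ * w)) := fun w => by
    rw [← mul_assoc, R.b₀a₁, mul_assoc, mul_assoc]
  have h5 : ∀ w : G, P.a₀ * (P.s * w) = P.s * (P.a₀ * w) := fun w => by rw [← mul_assoc, ← R.sa₀, mul_assoc]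
  have h6 : ∀ w : G, P.s * (P.s * w) = w := fun w => by rw [← mul_assoc, R.ss, one_mul]
  cases e <;> cases p <;> cases q <;> cases m <;> simp [Gens.W, mul_assoc, h1, h2, h3, h4, h5, h6]

theorem b₁_W (v : Exps) :
    P.b₁ * P.W v = P.W (xor v.1 v.2.1, v.2.1, v.2.2.1, v.2.2.2.1, !v.2.2.2.2.1, v.2.2.2.2.2) := by
  obtain ⟨e, p, q, m, n, l, k⟩ := v
  have h1 : ∀ w : G, P.b₁ * (P.s * w) = P.s * (P.b₁ * w) := fun w => by rw [← mul_assoc, ← R.sb₁, mul_assoc]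
  have h2 : ∀ w : G, P.b₁ * (P.b₁ * w) = w := fun w => by rw [← mul_assoc, R.b₁₁, one_mul]
  have h3 : ∀ w : G, P.b₁ * (P.a₁ * w) = P.a₁ * (P.b₁ * w) := fun w => by rw [← mul_assoc, R.b₁a₁, mul_assoc]
  have h4 : ∀ w : G, P.b₁ * (P.a₀ * w) = P.s * (P.a₀ * (P.b₁ * w)) := fun w => by
    rw [← mul_assoc, R.b₁a₀, mul_assoc, mul_assoc]
  have h6 : ∀ w : G, P.s * (P.s * w) = w := fun w => by rw [← mul_assoc, R.ss, one_mul]
  have h7 : ∀ w : G, P.b₁ * (P.b₀ * w) = P.b₀ * (P.b₁ * w) := fun w => by rw [← mul_assoc, R.b₀₁, mul_assoc]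
  cases e <;> cases p <;> cases q <;> cases m <;> cases n <;>
    simp [Gens.W, mul_assoc, h1, h2, h3, h4, h6, h7]

theorem u_mul_A (p q : Bool) (w : G) :
    P.u * (cond p P.a₀ 1 * cond q P.a₁ 1 * w) = cond (xor p q) P.a₀ 1 * cond q P.a₁ 1 * (P.u * w) := by
  have h1 : ∀ w : G, P.u * (P.a₀ * w) = P.a₀ * (P.u * w) := fun w => by rw [← mul_assoc, R.ua₀, mul_assoc]
  have h2 : ∀ w : G, P.u * (P.a₁ * w) = P.a₀ * (P.a₁ * (P.u * w)) := fun w => by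
    rw [← mul_assoc, R.ua₁, mul_assoc, mul_assoc]
  have h3 : ∀ w : G, P.a₀ * (P.a₀ * w) = w := fun w => by rw [← mul_assoc, R.a₀₀, one_mul]
  cases p <;> cases q <;> simp [mul_assoc, h1, h2, h3]

theorem u_mul_B (m n : Bool) (w : G) :
    P.u * (cond m P.b₀ 1 * cond n P.b₁ 1 * w) = cond (δ && (m || n)) P.s 1 *
      (cond (δ && xor m n) P.a₀ 1 * cond (δ && n) P.a₁ 1) * (cond (xor m n) P.b₀ 1 * cond n P.b₁ 1) *
      (P.u * w) := by
  have h6 : ∀ w : G, P.s * (P.s * w) = w := fun w => by rw [← mul_assoc, R.ss, one_mul]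
  have h5 : ∀ w : G, P.a₀ * (P.s * w) = P.s * (P.a₀ * w) := fun w => by rw [← mul_assoc, ← R.sa₀, mul_assoc]
  have h7 : ∀ w : G, P.b₀ * (P.s * w) = P.s * (P.b₀ * w) := fun w => by rw [← mul_assoc, ← R.sb₀, mul_assoc]
  have h4 : ∀ w : G, P.b₀ * (P.a₁ * w) = P.s * (P.a₁ * (P.b₀ * w)) := fun w => by
    rw [← mul_assoc, R.b₀a₁, mul_assoc, mul_assoc]
  have h3 : ∀ w : G, P.b₀ * (P.a₀ * w) = P.a₀ * (P.b₀ * w) := fun w => by rw [← mul_assoc, R.b₀a₀, mul_assoc]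
  have h8 : ∀ w : G, P.a₁ * (P.s * w) = P.s * (P.a₁ * w) := fun w => by rw [← mul_assoc, ← R.sa₁, mul_assoc]
  have h9 : ∀ w : G, P.a₀ * (P.a₀ * w) = w := fun w => by rw [← mul_assoc, R.a₀₀, one_mul]
  have h10 : ∀ w : G, P.b₀ * (P.b₀ * w) = w := fun w => by rw [← mul_assoc, R.b₀₀, one_mul]
  have hb₀ : ∀ w : G, P.u * (P.b₀ * w) = cond δ (P.s * P.a₀) 1 * (P.b₀ * (P.u * w)) := fun w => by
    rw [← mul_assoc, R.ub₀]; simp [mul_assoc]
  have hb₁ : ∀ w : G, P.u * (P.b₁ * w) = cond δ (P.s * (P.a₀ * P.a₁)) 1 * (P.b₀ * (P.b₁ * (P.u * w))) := fun w => by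
    rw [← mul_assoc, R.ub₁]; simp [mul_assoc]
  cases m <;> cases n <;> cases δ <;> simp [mul_assoc, hb₀, hb₁, h3, h4, h5, h6, h7, h8, h9, h10]

theorem u_W (v : Exps) : P.u * P.W v = P.W (fu δ v) := by
  obtain ⟨e, p, q, m, n, l, k⟩ := v
  have h1 : ∀ w : G, P.u * (cond e P.s 1 * w) = cond e P.s 1 * (P.u * w) := fun w => by
    rw [← mul_assoc, R.aux _ _ R.su.symm, mul_assoc]
  have hl : P.u * (cond l P.u 1 * P.x ^ k) = cond (!l) P.u 1 * P.x ^ k := by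
    cases l <;> simp [← mul_assoc, R.uu]
  simp only [Gens.W, fu, mul_assoc]
  rw [h1]
  have e1 := R.u_mul_A p q (cond m P.b₀ 1 * (cond n P.b₁ 1 * (cond l P.u 1 * P.x ^ k)))
  simp only [mul_assoc] at e1
  rw [e1]
  have e2 := R.u_mul_B m n (cond l P.u 1 * P.x ^ k)
  simp only [mul_assoc] at e2
  rw [e2, hl]
  have h6 : ∀ w : G, P.s * (P.s * w) = w := fun w => by rw [← mul_assoc, R.ss, one_mul]
  have h5 : ∀ w : G, P.a₀ * (P.s * w) = P.s * (P.a₀ * w) := fun w => by rw [← mul_assoc, ← R.sa₀, mul_assoc]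
  have h8 : ∀ w : G, P.a₁ * (P.s * w) = P.s * (P.a₁ * w) := fun w => by rw [← mul_assoc, ← R.sa₁, mul_assoc]
  have h9 : ∀ w : G, P.a₀ * (P.a₀ * w) = w := fun w => by rw [← mul_assoc, R.a₀₀, one_mul]
  have h10 : ∀ w : G, P.a₁ * (P.a₁ * w) = w := fun w => by rw [← mul_assoc, R.a₁₁, one_mul]
  have h11 : ∀ w : G, P.a₁ * (P.a₀ * w) = P.a₀ * (P.a₁ * w) := fun w => by rw [← mul_assoc, R.a₀₁, mul_assoc]
  cases δ
  · simp
  · cases e <;> cases p <;> cases q <;> cases m <;> cases n <;> simp [h5, h6, h8, h9, h10, h11]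

theorem x_mul_A (p q : Bool) (w : G) :
    P.x * (cond p P.a₀ 1 * cond q P.a₁ 1 * w) = cond q P.a₀ 1 * cond (xor p q) P.a₁ 1 * (P.x * w) := by
  have h1 : ∀ w : G, P.x * (P.a₀ * w) = P.a₁ * (P.x * w) := fun w => by rw [← mul_assoc, R.xa₀, mul_assoc]
  have h2 : ∀ w : G, P.x * (P.a₁ * w) = P.a₀ * (P.a₁ * (P.x * w)) := fun w => by
    rw [← mul_assoc, R.xa₁, mul_assoc, mul_assoc]
  have h3 : ∀ w : G, P.a₁ * (P.a₀ * (P.a₁ * w)) = P.a₀ * w := fun w => by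
    rw [← mul_assoc, ← mul_assoc, R.a₀₁, mul_assoc P.a₀, R.a₁₁, mul_one]
  cases p <;> cases q <;> simp [mul_assoc, h1, h2, h3]

theorem x_mul_B (p q : Bool) (w : G) :
    P.x * (cond p P.b₀ 1 * cond q P.b₁ 1 * w) = cond q P.b₀ 1 * cond (xor p q) P.b₁ 1 * (P.x * w) := by
  have h1 : ∀ w : G, P.x * (P.b₀ * w) = P.b₁ * (P.x * w) := fun w => by rw [← mul_assoc, R.xb₀, mul_assoc]
  have h2 : ∀ w : G, P.x * (P.b₁ * w) = P.b₀ * (P.b₁ * (P.x * w)) := fun w => by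
    rw [← mul_assoc, R.xb₁, mul_assoc, mul_assoc]
  have h3 : ∀ w : G, P.b₁ * (P.b₀ * (P.b₁ * w)) = P.b₀ * w := fun w => by
    rw [← mul_assoc, ← mul_assoc, R.b₀₁, mul_assoc P.b₀, R.b₁₁, mul_one]
  cases p <;> cases q <;> simp [mul_assoc, h1, h2, h3]

theorem pow_x (k : ℕ) : P.x ^ (k % 3) = P.x ^ k := by
  conv_rhs => rw [← Nat.div_add_mod k 3]
  rw [pow_add, pow_mul, pow_three', R.xxx, one_pow, one_mul]

theorem x_W (v : Exps) : P.x * P.W v = P.W (fx v) := by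
  obtain ⟨e, p, q, m, n, l, k⟩ := v
  have h1 : ∀ w : G, P.x * (cond e P.s 1 * w) = cond e P.s 1 * (P.x * w) := fun w => by
    rw [← mul_assoc, R.aux _ _ R.sx.symm, mul_assoc]
  simp only [Gens.W, fx, mul_assoc]
  rw [h1]
  have e1 := R.x_mul_A p q (cond m P.b₀ 1 * (cond n P.b₁ 1 * (cond l P.u 1 * P.x ^ k)))
  simp only [mul_assoc] at e1
  rw [e1]
  have e2 := R.x_mul_B m n (cond l P.u 1 * P.x ^ k)
  simp only [mul_assoc] at e2
  rw [e2, R.pow_x]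
  cases l
  · simp [bn, pow_succ']
  · simp only [cond_true, bn]
    rw [← mul_assoc P.x P.u, R.xu, pow_succ', pow_succ']
    simp only [mul_assoc]

theorem el_zero : P.el 0 = 1 := by
  show P.W (false, false, false, false, false, false, 0) = 1
  simp [Gens.W]

theorem el_mul {i j : ℕ} (hj : j < 192) : P.el i * P.el j = P.el (T δ i j) ∧ T δ i j < 192 := by
  have step : ∀ (g : G) (f : ℕ → ℕ), (∀ a < 192, g * P.el a = P.el (f a) ∧ f a < 192) → ∀ (c : Bool) (a : ℕ),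
      a < 192 → cond c g 1 * P.el a = P.el (cond c (f a) a) ∧ cond c (f a) a < 192 := by
    intro g f h c a ha
    cases c
    · exact ⟨one_mul _, ha⟩
    · exact h a ha
  have hx : ∀ k, P.x ^ k * P.el j = P.el (Nat.rec j (fun _ v => Lx v) k) ∧
      Nat.rec (motive := fun _ => ℕ) j (fun _ v => Lx v) k < 192 := by
    intro k
    induction k with
    | zero => exact ⟨by simp, hj⟩
    | succ k ih =>
      have hd := (dec_L δ _ ih.2).2.2.2.2.2.2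
      refine ⟨?_, hd.1⟩
      rw [pow_succ', mul_assoc, ih.1]
      show P.x * P.W _ = P.W (dec (Lx _))
      rw [R.x_W, hd.2]
  have h0 := hx (i / 64)
  have h1 := step P.u (Lu δ) (fun a ha => ⟨by
    show P.u * P.W _ = P.W (dec _); rw [R.u_W, (dec_L δ a ha).2.2.2.2.2.1.2], (dec_L δ a ha).2.2.2.2.2.1.1⟩)
    (bitB i 5) _ h0.2
  have h2 := step P.b₁ Lb₁ (fun a ha => ⟨by
    show P.b₁ * P.W _ = P.W (dec _); rw [R.b₁_W, (dec_L δ a ha).2.2.2.2.1.2], (dec_L δ a ha).2.2.2.2.1.1⟩)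
    (bitB i 4) _ h1.2
  have h3 := step P.b₀ Lb₀ (fun a ha => ⟨by
    show P.b₀ * P.W _ = P.W (dec _); rw [R.b₀_W, (dec_L δ a ha).2.2.2.1.2], (dec_L δ a ha).2.2.2.1.1⟩)
    (bitB i 3) _ h2.2
  have h4 := step P.a₁ La₁ (fun a ha => ⟨by
    show P.a₁ * P.W _ = P.W (dec _); rw [R.a₁_W, (dec_L δ a ha).2.2.1.2], (dec_L δ a ha).2.2.1.1⟩)
    (bitB i 2) _ h3.2
  have h5 := step P.a₀ La₀ (fun a ha => ⟨by
    show P.a₀ * P.W _ = P.W (dec _); rw [R.a₀_W, (dec_L δ a ha).2.1.2], (dec_L δ a ha).2.1.1⟩)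
    (bitB i 1) _ h4.2
  have h6 := step P.s Ls (fun a ha => ⟨by
    show P.s * P.W _ = P.W (dec _); rw [R.s_W, (dec_L δ a ha).1.2], (dec_L δ a ha).1.1⟩)
    (bitB i 0) _ h5.2
  refine ⟨?_, h6.2⟩
  show P.W (dec i) * P.el j = _
  simp only [Gens.W, dec, mul_assoc]
  rw [h0.1, h1.1, h2.1, h3.1, h4.1, h5.1, h6.1]
  rfl

end Rels

end Cfsg.Agent.S3Extra
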