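import Mathlib.GroupTheory.GroupAction.Jordan
import Mathlib.GroupTheory.SpecificGroups.Alternating
import Mathlib.GroupTheory.Perm.Centralizer
import Mathlib.GroupTheory.Perm.Cycle.Type
import Mathlib.Tactic

/-!
Facts on permutations of eight letters around a product of two transpositions.
-/

set_option autoImplicit false
set_option maxRecDepth 10000
set_option linter.style.haveILetI false

namespace Cfsg.Agent.S3Extra.Eight

open Equiv Equiv.Perm

-- membership in a list is checked along the list, not over all permutations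
attribute [local instance 10000] List.decidableBAll List.decidableBEx

/-- The first four group element. -/
def v₀ : Perm (Fin 8) := swap 0 1 * swap 2 3
/-- The second one. -/
def p₂ : Perm (Fin 8) := swap 0 2 * swap 1 3
/-- The overlapping product of two transpositions. -/
def c₀ : Perm (Fin 8) := swap 0 1 * swap 4 5
/-- An element exchanging the two. -/
def σ₀ : Perm (Fin 8) := swap 2 4 * swap 3 5
/-- A three-cycle. -/
def z₆ : Perm (Fin 8) := swap 4 5 * swap 5 6
/-- A three-cycle. -/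
def z₇ : Perm (Fin 8) := swap 4 5 * swap 5 7

/-- The four group. -/
def V4 : List (Perm (Fin 8)) := [1, v₀, p₂, v₀ * p₂]

/-- The permutations of the first four letters commuting with `v₀`. -/
def L8 : List (Perm (Fin 8)) :=
  [1, swap 0 1, swap 2 3, v₀, p₂, v₀ * p₂, swap 0 1 * p₂, swap 0 1 * (v₀ * p₂)]

/-- The permutations of the last four letters. -/
def H24 : List (Perm (Fin 8)) :=
  ([4, 5, 6, 7] : List (Fin 8)).flatMap fun a => ([5, 6, 7] : List (Fin 8)).flatMap fun b =>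
    ([6, 7] : List (Fin 8)).map fun c => swap 4 a * swap 5 b * swap 6 c

/-- The three-cycles on the last four letters, and the identity. -/
def X4 : List (Perm (Fin 8)) :=
  [1, z₆, z₆ * z₆, z₇, z₇ * z₇, swap 4 6 * swap 6 7, swap 4 7 * swap 6 7, swap 5 6 * swap 6 7,
    swap 5 7 * swap 6 7]

/-- The embedding of the first four letters. -/
def lo (a : Fin 4) : Fin 8 := ⟨a.1, by omega⟩
/-- The embedding of the last four letters. -/
def hi (a : Fin 4) : Fin 8 := ⟨a.1 + 4, by omega⟩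

theorem low_cases : ∀ a b c d : Fin 4,
    ([a, b, c, d] : List (Fin 4)).Nodup → [a, b, c, d].map (fun i => v₀ (lo i)) =
      [lo b, lo a, lo d, lo c] →
    ∃ l ∈ L8, l 0 = lo a ∧ l 1 = lo b ∧ l 2 = lo c ∧ l 3 = lo d := by
  decide +kernel

theorem high_cases : ∀ a b c d : Fin 4,
    ([a, b, c, d] : List (Fin 4)).Nodup →
    ∃ h ∈ H24, h 4 = hi a ∧ h 5 = hi b ∧ h 6 = hi c ∧ h 7 = hi d := by
  decide +kernel

theorem lo_hi_cases : (∀ i : Fin 8, v₀ i ≠ i ↔ i.1 < 4) ∧
    (∀ l ∈ L8, ∀ i : Fin 8, 4 ≤ i.1 → l i = i) ∧ (∀ h ∈ H24, ∀ i : Fin 8, i.1 < 4 → h i = i) ∧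
    (∀ h ∈ H24, ∀ i : Fin 8, 4 ≤ i.1 → 4 ≤ (h i).1) := by
  refine ⟨?_, ?_, ?_, ?_⟩ <;> decide +kernel

/-- The centraliser of `v₀` is a product of the two lists. -/
theorem mem_cent {σ : Perm (Fin 8)} (h : σ * v₀ = v₀ * σ) : ∃ l ∈ L8, ∃ k ∈ H24, σ = l * k := by
  obtain ⟨hv, hL, hH, hH'⟩ := lo_hi_cases
  have hc : ∀ i, v₀ (σ i) = σ (v₀ i) := fun i => (congrArg (fun π : Perm (Fin 8) => π i) h).symm
  have hlt : ∀ i, (σ i).1 < 4 ↔ i.1 < 4 := fun i => by
    rw [← hv, ← hv, hc, not_iff_not]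
    exact σ.injective.eq_iff
  have hl : ∀ a : Fin 4, ∃ b : Fin 4, σ (lo a) = lo b := fun a =>
    ⟨⟨(σ (lo a)).1, (hlt _).2 a.2⟩, Fin.ext rfl⟩
  have hh : ∀ a : Fin 4, ∃ b : Fin 4, σ (hi a) = hi b := fun a => by
    have : ¬ (σ (hi a)).1 < 4 := fun h => by
      have := (hlt _).1 h
      simp [hi] at this
    exact ⟨⟨(σ (hi a)).1 - 4, by omega⟩, Fin.ext (by show (σ (hi a)).1 = (σ (hi a)).1 - 4 + 4; omega)⟩
  choose f hf using hl
  choose g hg using hh
  have finj : Function.Injective f := fun a b e => by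
    have := σ.injective ((hf a).trans ((congrArg lo e).trans (hf b).symm))
    simpa [lo, Fin.ext_iff] using this
  have ginj : Function.Injective g := fun a b e => by
    have := σ.injective ((hg a).trans ((congrArg hi e).trans (hg b).symm))
    simpa [hi, Fin.ext_iff] using this
  obtain ⟨l, hlm, l0, l1, l2, l3⟩ := low_cases (f 0) (f 1) (f 2) (f 3) (by
    rw [show [f 0, f 1, f 2, f 3] = (List.finRange 4).map f from rfl]
    exact List.Nodup.map finj (List.nodup_finRange 4)) (by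
    simp only [List.map_cons, List.map_nil, ← hf, hc]
    rfl)
  obtain ⟨k, hkm, k4, k5, k6, k7⟩ := high_cases (g 0) (g 1) (g 2) (g 3) (by
    rw [show [g 0, g 1, g 2, g 3] = (List.finRange 4).map g from rfl]
    exact List.Nodup.map ginj (List.nodup_finRange 4))
  refine ⟨l, hlm, k, hkm, Equiv.ext fun i => ?_⟩
  rw [Perm.mul_apply]
  fin_cases i
  · rw [hH k hkm _ (by decide)]; exact (hf 0).trans l0.symm
  · rw [hH k hkm _ (by decide)]; exact (hf 1).trans l1.symm
  · rw [hH k hkm _ (by decide)]; exact (hf 2).trans l2.symm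
  · rw [hH k hkm _ (by decide)]; exact (hf 3).trans l3.symm
  · rw [hL l hlm _ (hH' k hkm _ (by decide))]; exact (hg 0).trans k4.symm
  · rw [hL l hlm _ (hH' k hkm _ (by decide))]; exact (hg 1).trans k5.symm
  · rw [hL l hlm _ (hH' k hkm _ (by decide))]; exact (hg 2).trans k6.symm
  · rw [hL l hlm _ (hH' k hkm _ (by decide))]; exact (hg 3).trans k7.symm

theorem chk_four : ∀ l ∈ L8, ∀ k ∈ H24, sign (l * k) = 1 → (∀ x ∈ X4, x * (l * k) = l * k * x) →
    l * k ∈ V4 := by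
  decide +kernel

/-- An even permutation commuting with `v₀` and the three-cycles beside it lies in the four group. -/
theorem four {σ : Perm (Fin 8)} (hs : sign σ = 1) (h : σ * v₀ = v₀ * σ) (hX : ∀ x ∈ X4, x * σ = σ * x) :
    σ ∈ V4 := by
  obtain ⟨l, hl, k, hk, rfl⟩ := mem_cent h
  exact chk_four l hl k hk hs hX

theorem X4_spec : ∀ x ∈ X4, x * v₀ = v₀ * x ∧ x * x * x = 1 ∧ sign x = 1 := by decide +kernel

theorem chk_split : ∀ l ∈ L8, ∀ k ∈ H24, sign (l * k) = 1 → l * k * (l * k) ∈ V4 →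
    (∃ p ∈ V4, ∃ y ∈ X4, ∃ z ∈ X4, l * k = p * y * z) ∨
    ∃ p ∈ V4, ∃ l' ∈ L8, ∃ k' ∈ H24, l' * k' * (p * (l * k)) = c₀ * (l' * k') := by
  decide +kernel

theorem chk_L8 : (∀ l ∈ L8, l * v₀ = v₀ * l) ∧ (∀ k ∈ H24, k * v₀ = v₀ * k) := by decide +kernel

/-- An element squaring into the four group is inside, or can be moved to `c₀`. -/
theorem split {σ : Perm (Fin 8)} (hs : sign σ = 1) (h : σ * v₀ = v₀ * σ) (h2 : σ * σ ∈ V4) :
    (∃ p ∈ V4, ∃ y ∈ X4, ∃ z ∈ X4, σ = p * y * z) ∨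
    ∃ p ∈ V4, ∃ τ : Perm (Fin 8), τ * v₀ = v₀ * τ ∧ τ * (p * σ) * τ⁻¹ = c₀ := by
  obtain ⟨l, hl, k, hk, rfl⟩ := mem_cent h
  rcases chk_split l hl k hk hs h2 with h | ⟨p, hp, l', hl', k', hk', he⟩
  · exact Or.inl h
  · refine Or.inr ⟨p, hp, l' * k', ?_, mul_inv_eq_iff_eq_mul.2 he⟩
    rw [mul_assoc, chk_L8.2 k' hk', ← mul_assoc, chk_L8.1 l' hl', mul_assoc]

theorem chk_three : ∀ l ∈ L8, ∀ k ∈ H24, l * k ≠ 1 → l * k * (l * k) * (l * k) = 1 →
    ∃ y ∈ [1, l * k, l * k * (l * k)],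
      ∃ z ∈ [1, c₀ * (l * k) * c₀, c₀ * (l * k * (l * k)) * c₀],
        ∃ u ∈ [1, l * k, l * k * (l * k)], y * z * u = z₆ ∨ y * z * u = z₇ := by
  decide +kernel

/-- From an element of order three and `c₀`, one of two given three-cycles. -/
theorem three {σ : Perm (Fin 8)} (h : σ * v₀ = v₀ * σ) (h1 : σ ≠ 1) (h3 : σ * σ * σ = 1)
    {H : Subgroup (Perm (Fin 8))} (hσ : σ ∈ H) (hc : c₀ ∈ H) : z₆ ∈ H ∨ z₇ ∈ H := by
  obtain ⟨l, hl, k, hk, rfl⟩ := mem_cent h
  obtain ⟨y, hy, z, hz, u, hu, he⟩ := chk_three l hl k hk h1 h3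
  have hy' : ∀ y, y ∈ [1, l * k, l * k * (l * k)] → y ∈ H := by
    intro y hy
    simp only [List.mem_cons, List.not_mem_nil, or_false] at hy
    rcases hy with rfl | rfl | rfl
    exacts [one_mem _, hσ, mul_mem hσ hσ]
  have hyH := hy' y hy
  have hzH : z ∈ H := by
    simp only [List.mem_cons, List.not_mem_nil, or_false] at hz
    rcases hz with rfl | rfl | rfl
    exacts [one_mem _, mul_mem (mul_mem hc hσ) hc, mul_mem (mul_mem hc (mul_mem hσ hσ)) hc]
  rcases he with e | e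
  · exact Or.inl (e ▸ mul_mem (mul_mem hyH hzH) (hy' u hu))
  · exact Or.inr (e ▸ mul_mem (mul_mem hyH hzH) (hy' u hu))

theorem chk_basic : σ₀ * v₀ * σ₀⁻¹ = c₀ ∧ sign σ₀ = 1 ∧ sign v₀ = 1 ∧ v₀ ≠ 1 := by decide +kernel

/-- A subgroup containing the two four groups and a three-cycle contains the stabiliser of a letter among the even
permutations. -/
theorem stab_le {H : Subgroup (Perm (Fin 8))} (h1 : v₀ ∈ H) (h2 : p₂ ∈ H) (h3 : σ₀ * p₂ * σ₀⁻¹ ∈ H)
    (hz : z₆ ∈ H ∨ z₇ ∈ H) : ∃ j : Fin 8, ∀ σ : Perm (Fin 8), sign σ = 1 → σ j = j → σ ∈ H := by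
  classical
  have key : ∀ (j : Fin 8) (x : Perm (Fin 8)), x ∈ H →
      (∀ g ∈ [1, v₀, p₂, v₀ * p₂, σ₀ * p₂ * σ₀⁻¹, x * (σ₀ * p₂ * σ₀⁻¹), x * x * (σ₀ * p₂ * σ₀⁻¹)],
        g j = j) →
      (0 : Fin 8) ≠ j → x j = j →
      (∀ i : Fin 8, i ≠ j → ∃ g ∈ [1, v₀, p₂, v₀ * p₂, σ₀ * p₂ * σ₀⁻¹, x * (σ₀ * p₂ * σ₀⁻¹),
        x * x * (σ₀ * p₂ * σ₀⁻¹)], g 0 = i) →
      x.IsThreeCycle → ∀ σ : Perm (Fin 8), sign σ = 1 → σ j = j → σ ∈ H := by
    intro j x hx hfix hj0 hxj hreach hx3 σ hσ hσj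
    set p : Fin 8 → Prop := fun i => i ≠ j with hp
    have hgH : ∀ g ∈ [1, v₀, p₂, v₀ * p₂, σ₀ * p₂ * σ₀⁻¹, x * (σ₀ * p₂ * σ₀⁻¹),
        x * x * (σ₀ * p₂ * σ₀⁻¹)], g ∈ H := by
      intro g hg
      simp only [List.mem_cons, List.not_mem_nil, or_false] at hg
      rcases hg with rfl | rfl | rfl | rfl | rfl | rfl | rfl
      exacts [one_mem _, h1, h2, mul_mem h1 h2, h3, mul_mem hx h3, mul_mem (mul_mem hx hx) h3]
    have hiff : ∀ {g : Perm (Fin 8)}, g j = j → ∀ i, p i ↔ p (g i) := fun {g} hg i =>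
      ⟨fun h e => h (g.injective (e.trans hg.symm)), fun h e => h (by rw [e]; exact hg)⟩
    have hsupp : ∀ {g : Perm (Fin 8)}, g j = j → ∀ i, g i ≠ i → p i := fun {g} hg i h e => h (by rw [e, hg])
    let K : Subgroup (Perm (Subtype p)) := H.comap (Perm.ofSubtype)
    have hK : ∀ {g : Perm (Fin 8)} (hg : g j = j), g ∈ H → g.subtypePerm (fun i => (hiff hg i).symm) ∈ K := by
      intro g hg hgm
      show Perm.ofSubtype _ ∈ H
      rwa [Perm.ofSubtype_subtypePerm]
      exact hsupp hg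
    haveI : MulAction.IsPretransitive K (Subtype p) := by
      have h0 : ∀ i : Subtype p, ∃ g : K, g • (⟨0, hj0⟩ : Subtype p) = i := fun i => by
        obtain ⟨g, hg, hge⟩ := hreach i.1 i.2
        exact ⟨⟨_, hK (hfix g hg) (hgH g hg)⟩, Subtype.ext hge⟩
      exact ⟨fun a b => by
        obtain ⟨g, hg⟩ := h0 a
        obtain ⟨g', hg'⟩ := h0 b
        exact ⟨g' * g⁻¹, by rw [mul_smul, inv_smul_eq_iff.2 hg.symm, hg']⟩⟩
    have h7 : Nat.card (Subtype p) = 7 := by
      rw [Nat.card_eq_fintype_card]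
      show Fintype.card {i // ¬ i = j} = 7
      rw [Fintype.card_subtype_compl, Fintype.card_subtype_eq, Fintype.card_fin]
    haveI := MulAction.IsPreprimitive.of_prime_card (G := K) (X := Subtype p) (by rw [h7]; norm_num)
    have hx' : (x.subtypePerm (fun i => (hiff hxj i).symm) : Perm (Subtype p)).IsThreeCycle := by
      rw [Perm.IsThreeCycle, ← Perm.cycleType_ofSubtype, Perm.ofSubtype_subtypePerm]
      · exact hx3
      · exact hsupp hxj
    have hA := Perm.alternatingGroup_le_of_isPreprimitive_of_isThreeCycle_mem ‹_› hx' (hK hxj hx)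
    have hmem := hA (x := σ.subtypePerm (fun i => (hiff hσj i).symm)) (by
      rw [Perm.mem_alternatingGroup, ← Perm.sign_ofSubtype, Perm.ofSubtype_subtypePerm]
      · exact hσ
      · exact hsupp hσj)
    rw [Subgroup.mem_comap, Perm.ofSubtype_subtypePerm] at hmem
    · exact hmem
    · exact hsupp hσj
  rcases hz with hz | hz
  · exact ⟨7, key 7 z₆ hz (by decide +kernel) (by decide) (by decide +kernel) (by decide +kernel)
      (Perm.isThreeCycle_swap_mul_swap_same (a := (5 : Fin 8)) (b := 4) (c := 6) (by decide) (by decide)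
        (by decide) |> fun h => by
          rwa [z₆, Equiv.swap_comm 4 5])⟩
  · exact ⟨6, key 6 z₇ hz (by decide +kernel) (by decide) (by decide +kernel) (by decide +kernel)
      (Perm.isThreeCycle_swap_mul_swap_same (a := (5 : Fin 8)) (b := 4) (c := 7) (by decide) (by decide)
        (by decide) |> fun h => by
          rwa [z₇, Equiv.swap_comm 4 5])⟩

/-- An even permutation fixing a letter and moving one given letter to another. -/
theorem move (j a b : Fin 8) (ha : a ≠ j) (hb : b ≠ j) :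
    ∃ σ : Perm (Fin 8), sign σ = 1 ∧ σ j = j ∧ σ a = b := by
  have hd : ∀ j a b : Fin 8, a ≠ j → b ≠ j →
      ∃ c d : Fin 8, (c = d ↔ a = b) ∧ (swap a b * swap c d) j = j ∧ (swap a b * swap c d) a = b := by
    decide +kernel
  obtain ⟨c, d, hcd, h1, h2⟩ := hd j a b ha hb
  refine ⟨_, ?_, h1, h2⟩
  rw [map_mul, sign_swap', sign_swap']
  by_cases h : a = b <;> simp [h, hcd]

/-- A subgroup containing the even stabiliser of a letter and moving it contains the even permutations. -/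
theorem eq_of_move {H : Subgroup (Perm (Fin 8))} {j : Fin 8}
    (hj : ∀ σ : Perm (Fin 8), sign σ = 1 → σ j = j → σ ∈ H) {h : Perm (Fin 8)} (hh : h ∈ H)
    (hhs : sign h = 1) (hne : h j ≠ j) {σ : Perm (Fin 8)} (hσ : sign σ = 1) : σ ∈ H := by
  by_cases he : σ j = j
  · exact hj σ hσ he
  obtain ⟨ν, hν, hνj, hνh⟩ := move j (h j) (σ j) hne he
  have h' : (ν * h)⁻¹ * σ ∈ H := hj _ (by rw [map_mul, map_inv, map_mul, hν, hhs, hσ]; simp) (by
    rw [Perm.mul_apply, Perm.inv_eq_iff_eq, Perm.mul_apply, hνh])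
  have := mul_mem (mul_mem (hj ν hν hνj) hh) h'
  rwa [mul_inv_cancel_left] at this

/-- An involution with four moved letters, or with eight. -/
theorem cycleType_invol {σ : Perm (Fin 8)} (h : orderOf σ = 2) (hs : sign σ = 1) :
    σ.cycleType = Multiset.replicate 2 2 ∨ σ.cycleType = Multiset.replicate 4 2 := by
  obtain ⟨n, hn⟩ := Perm.cycleType_prime_order (σ := σ) (h ▸ Nat.prime_two)
  rw [h] at hn
  have hle : σ.cycleType.sum ≤ 8 := by
    rw [Perm.sum_cycleType]
    exact (Finset.card_le_univ _).trans (by simp)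
  rw [Perm.sign_of_cycleType, hn] at hs
  rw [hn, Multiset.sum_replicate, smul_eq_mul] at hle
  rw [hn]
  rcases (show n = 0 ∨ n = 1 ∨ n = 2 ∨ n = 3 by omega) with rfl | rfl | rfl | rfl
  · simp [Multiset.sum_replicate] at hs
    exact absurd hs (by decide)
  · exact Or.inl rfl
  · simp [Multiset.sum_replicate] at hs
    exact absurd hs (by decide)
  · exact Or.inr rfl

/-- An odd permutation commuting with an involution. -/
theorem exists_odd {σ : Perm (Fin 8)} (h : orderOf σ = 2) : ∃ τ : Perm (Fin 8), τ * σ = σ * τ ∧ sign τ = -1 := by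
  obtain ⟨a, ha⟩ : ∃ a, σ a ≠ a := by
    by_contra hne
    push Not at hne
    rw [show σ = 1 from Equiv.ext hne, orderOf_one] at h
    omega
  refine ⟨swap a (σ a), ?_, Perm.sign_swap (Ne.symm ha)⟩
  have hsq : σ (σ a) = a := by
    have := pow_orderOf_eq_one σ
    rw [h, sq] at this
    exact congrArg (fun π : Perm (Fin 8) => π a) this
  rw [Equiv.mul_swap_eq_swap_mul, hsq, Equiv.swap_comm]

/-- The centraliser in the alternating group. -/
theorem card_cent {σ : Perm (Fin 8)} (h : orderOf σ = 2) :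
    2 * Nat.card {τ : Perm (Fin 8) // sign τ = 1 ∧ τ * σ = σ * τ} =
      Nat.card (Subgroup.centralizer ({σ} : Set (Perm (Fin 8)))) := by
  classical
  set C := Subgroup.centralizer ({σ} : Set (Perm (Fin 8))) with hC
  let φ : C →* ℤˣ := (sign : Perm (Fin 8) →* ℤˣ).comp C.subtype
  have hsurj : Function.Surjective φ := by
    intro u
    rcases Int.units_eq_one_or u with rfl | rfl
    · exact ⟨1, map_one _⟩
    · obtain ⟨τ, hτ, hτs⟩ := exists_odd h
      exact ⟨⟨τ, Subgroup.mem_centralizer_singleton_iff.2 hτ⟩, hτs⟩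
  rw [← φ.ker.card_mul_index, Subgroup.index_ker, MonoidHom.range_eq_top.2 hsurj, Subgroup.card_top,
    Nat.card_eq_fintype_card (α := ℤˣ), Fintype.card_units_int, mul_comm]
  congr 1
  exact Nat.card_congr
    { toFun := fun τ => ⟨⟨τ.1, Subgroup.mem_centralizer_singleton_iff.2 τ.2.2⟩, τ.2.1⟩
      invFun := fun τ => ⟨τ.1.1, τ.2, Subgroup.mem_centralizer_singleton_iff.1 τ.1.2⟩
      left_inv := fun τ => rfl
      right_inv := fun τ => rfl }

theorem card_cent_two {σ : Perm (Fin 8)} (h : orderOf σ = 2) :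
    (σ.cycleType = Multiset.replicate 2 2 → Nat.card {τ : Perm (Fin 8) // sign τ = 1 ∧ τ * σ = σ * τ} = 96) ∧
    (σ.cycleType = Multiset.replicate 4 2 → Nat.card {τ : Perm (Fin 8) // sign τ = 1 ∧ τ * σ = σ * τ} = 192) := by
  have h0 := card_cent h
  rw [Perm.nat_card_centralizer, Fintype.card_fin] at h0
  constructor <;> intro e <;> rw [e] at h0
  · replace h0 : 2 * Nat.card {τ : Perm (Fin 8) // sign τ = 1 ∧ τ * σ = σ * τ} = 192 := h0
    omega
  · replace h0 : 2 * Nat.card {τ : Perm (Fin 8) // sign τ = 1 ∧ τ * σ = σ * τ} = 384 := h0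
    omega

theorem chk_V4 : ∀ q ∈ V4, q * q = 1 := by decide +kernel

theorem cycleType_v₀ : orderOf v₀ = 2 ∧ v₀.cycleType = Multiset.replicate 2 2 := by
  have h2 : orderOf v₀ = 2 := orderOf_eq_prime (by rw [sq]; decide +kernel) chk_basic.2.2.2
  refine ⟨h2, (cycleType_invol h2 chk_basic.2.2.1).resolve_right fun h => ?_⟩
  have hc : v₀.support.card = 4 := by decide +kernel
  rw [← Perm.sum_cycleType, h, Multiset.sum_replicate] at hc
  norm_num at hc

/-- Conjugate involutions are conjugate by an even permutation. -/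
theorem exists_even_conj {σ σ' : Perm (Fin 8)} (h : orderOf σ = 2) (he : σ.cycleType = σ'.cycleType) :
    ∃ τ : Perm (Fin 8), sign τ = 1 ∧ τ * σ * τ⁻¹ = σ' := by
  obtain ⟨τ, hτ⟩ := isConj_iff.1 (Perm.isConj_iff_cycleType_eq.2 he)
  rcases Int.units_eq_one_or (sign τ) with h1 | h1
  · exact ⟨τ, h1, hτ⟩
  · obtain ⟨ρ, hρ, hρs⟩ := exists_odd h
    refine ⟨τ * ρ, by rw [map_mul, h1, hρs]; rfl, ?_⟩
    rw [← hτ, show τ * ρ * σ * (τ * ρ)⁻¹ = τ * (ρ * σ) * ρ⁻¹ * τ⁻¹ by group, hρ]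
    group

end Cfsg.Agent.S3Extra.Eight
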