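import Cfsg.Agent.Lib.S3Extra.CaseOneBase
import Cfsg.Agent.Lib.S3344Id.Main

/-!
The alternating subgroup generated by the root elements contains the two local subgroups.
-/

set_option autoImplicit false
set_option synthInstance.maxSize 100000

namespace Cfsg.Agent.S3Extra

open Subgroup

variable {G : Type*} [Group G]

namespace CType

variable {Q : Subgroup G} {P : Gens G} (C : CType Q P)
include C

/-- A subgroup containing the centraliser and an element of the normaliser moving the involution contains the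
normaliser. -/
theorem norm_le [Finite G] {H : Subgroup G} (hL : centralizer ({P.s} : Set G) ≤ H) {y : G} (hy : y ∈ H)
    (hyN : y ∈ normalizer (E8 P : Set G)) (hys : y * P.s * y⁻¹ ≠ P.s) : normalizer (E8 P : Set G) ≤ H := by
  have hLel : ∀ {i}, i < 192 → P.el i ∈ H := fun hi => hL (mem_centralizer_singleton_iff.2 (C.el_comm hi))
  have hsE : P.s ∈ E8 P := C.mem_E.2 ⟨1, by norm_num, el_one P⟩
  have hval : ∀ m ∈ normalizer (E8 P : Set G), ∃ k, 1 ≤ k ∧ k < 8 ∧ m * P.s * m⁻¹ = P.el k := by
    intro m hm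
    obtain ⟨k, hk, hke⟩ := C.mem_E.1 ((mem_normalizer_iff.1 hm _).1 hsE)
    refine ⟨k, Nat.one_le_iff_ne_zero.2 fun e => ?_, hk, hke.symm⟩
    rw [e, C.rels.el_zero] at hke
    exact C.hyp.s_ne (conj_eq_one_iff.1 hke.symm)
  intro m hm
  obtain ⟨k, hk1, hk, hke⟩ := hval m hm
  obtain ⟨h, hh, hhe⟩ : ∃ h ∈ H, h * P.s * h⁻¹ = P.el k := by
    rcases eq_or_lt_of_le hk1 with rfl | hk2
    · exact ⟨1, one_mem _, by rw [el_one]; group⟩
    obtain ⟨j, hj1, hj, hje⟩ := hval y hyN
    have hj2 : 2 ≤ j := by
      by_contra hlt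
      rw [show j = 1 by omega, el_one] at hje
      exact hys hje
    obtain ⟨z, hz, hze⟩ := C.trans_L hj2 hj hk2 hk
    exact ⟨P.el z * y, mul_mem (hLel hz) hy, by rw [CType.conj_mul', hje, hze]⟩
  have hc : h⁻¹ * m * P.s = P.s * (h⁻¹ * m) := by
    calc h⁻¹ * m * P.s = h⁻¹ * (m * P.s * m⁻¹) * m := by group
      _ = h⁻¹ * (h * P.s * h⁻¹) * m := by rw [hke, hhe]
      _ = _ := by group
  exact (mul_mem_cancel_left (inv_mem hh)).1 (hL (mem_centralizer_singleton_iff.2 hc))

end CType

namespace One

variable {Q : Subgroup G} {P : Gens G} (O : One Q P)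
include O

theorem exists_big [Finite G] : ∃ G₀ : Subgroup G, Big P G₀ ∧ Nonempty (alternatingGroup (Fin 8) ≃* G₀) := by
  have hkey : ∀ (C : S3344Id.RootConfig G P.s), C.r = S3344Id.ofGens P →
      ∃ G₀ : Subgroup G, Big P G₀ ∧ Nonempty (alternatingGroup (Fin 8) ≃* G₀) := by
    intro C hr
    obtain ⟨y, hy, hy7⟩ := C.exists_roots
    obtain ⟨f, hf, hfr⟩ := S3344Id.exists_alt8 hy ⟨0, 3, by decide, by rw [hy7 0 3 rfl]; exact C.ne_one⟩
    have hL : centralizer ({P.s} : Set G) ≤ f.range := C.gen.trans ((closure_le _).2 (by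
      rintro x ⟨i, j, hij, rfl⟩
      rw [← hy7 i j hij]
      exact hfr i j (of_decide_eq_true hij).1))
    have hinv : ∀ i j, i ≠ j → (y i j)⁻¹ = y i j := fun i j h => inv_eq_of_mul_eq_one_right (hy.sq i j h)
    have h03 : y 0 3 = P.s := by rw [hy7 0 3 rfl, C.r_eq]
    have v : ∀ i j, S3344Id.root7 i j = true → y i j = S3344Id.ofGens P i j := fun i j h => by rw [hy7 i j h, hr]
    have v01 : y 0 1 = P.a₀ := v 0 1 rfl
    have v02 : y 0 2 = P.a₁ := v 0 2 rfl
    have v13 : y 1 3 = P.b₁ := v 1 3 rfl
    have v23 : y 2 3 = P.b₀ := v 2 3 rfl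
    have hM : normalizer (E8 P : Set G) ≤ f.range := by
      have c1 := hy.com 3 2 0 1 (by decide) (by decide) (by decide) (by decide)
      have c2 := hy.com 3 2 0 2 (by decide) (by decide) (by decide) (by decide)
      have c3 := hy.brac 0 3 2 (by decide) (by decide) (by decide)
      rw [v01] at c1; rw [v02] at c2
      have e3 := S3344Id.conj_brac (hy.sq 0 3 (by decide)) (hy.sq 3 2 (by decide)) c3
      rw [h03, v02] at e3
      refine O.C.norm_le hL (hfr 3 2 (by decide)) ?_ ?_
      · have hgen : ∀ x ∈ ({P.a₀, P.a₁, P.s} : Set G), y 3 2 * x * (y 3 2)⁻¹ ∈ E8 P := by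
          rintro x (rfl | rfl | rfl)
          · rw [c1, mul_inv_cancel_right]; exact subset_closure (by simp)
          · rw [c2, mul_inv_cancel_right]; exact subset_closure (by simp)
          · rw [e3]; exact mul_mem (subset_closure (by simp)) (subset_closure (by simp))
        refine mem_normalizer_fintype fun x hx => ?_
        exact (closure_le ((E8 P).comap (MulAut.conj (y 3 2)).toMonoidHom)).2 hgen hx
      · rw [e3]
        intro h
        have : P.a₁ = 1 := mul_eq_left.1 h
        rw [← CType.el_four (P := P), ← O.C.rels.el_zero, O.C.eq_iff (by norm_num) (by norm_num)] at this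
        exact absurd this (by norm_num)
    have hM' : normalizer (E8 (P.change flipAB) : Set G) ≤ f.range := by
      obtain ⟨C', -⟩ := O.C.change flipAB ok_flips.2.2 O.fused_eight
      have hs' : (P.change flipAB).s = P.s := el_one P
      have c1 := hy.com 1 0 1 3 (by decide) (by decide) (by decide) (by decide)
      have c2 := hy.com 1 0 2 3 (by decide) (by decide) (by decide) (by decide)
      have c3 := hy.brac 1 0 3 (by decide) (by decide) (by decide)
      rw [v13] at c1; rw [v23] at c2
      have e3 : y 1 0 * P.s * (y 1 0)⁻¹ = P.b₁ * P.s := by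
        rw [h03, v13] at c3
        rw [hinv 1 0 (by decide), ← c3]
        simp only [mul_assoc]
        rw [O.C.hyp.s_sq, mul_one]
      refine C'.norm_le (hs'.symm ▸ hL) (hfr 1 0 (by decide)) ?_ ?_
      · rw [O.E8_change]
        have hgen : ∀ x ∈ ({P.b₀, P.b₁, P.s} : Set G),
            y 1 0 * x * (y 1 0)⁻¹ ∈ closure ({P.b₀, P.b₁, P.s} : Set G) := by
          rintro x (rfl | rfl | rfl)
          · rw [c2, mul_inv_cancel_right]; exact subset_closure (by simp)
          · rw [c1, mul_inv_cancel_right]; exact subset_closure (by simp)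
          · rw [e3]; exact mul_mem (subset_closure (by simp)) (subset_closure (by simp))
        refine mem_normalizer_fintype fun x hx => ?_
        exact (closure_le ((closure ({P.b₀, P.b₁, P.s} : Set G)).comap (MulAut.conj (y 1 0)).toMonoidHom)).2 hgen hx
      · rw [hs', e3]
        intro h
        have e16 : P.el 16 = P.b₁ := by
          show P.W (false, false, false, false, true, false, 0) = _
          simp [Gens.W]
        have : P.b₁ = 1 := mul_eq_right.1 h
        rw [← e16, ← O.C.rels.el_zero, O.C.eq_iff (by norm_num) (by norm_num)] at this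
        exact absurd this (by norm_num)
    refine ⟨f.range, ⟨hL, hM, hM', ?_⟩, ⟨MonoidHom.ofInjective hf⟩⟩
    rw [← Nat.card_congr (MonoidHom.ofInjective hf).toEquiv]
    exact C.card_alt8
  obtain ⟨C', -⟩ := O.C.change flipAB ok_flips.2.2 O.fused_eight
  have c3 := C'.cent_E
  have n3 := C'.card_norm
  rw [O.E8_change] at c3 n3
  obtain ⟨nc1, nc2⟩ := O.not_conj
  exact hkey (S3344Id.RootConfig.ofGens O.C.rels (fun y hy => (O.C.mem y).1 hy) O.C.cent_E c3 O.C.card_norm n3
    nc1 nc2) rfl

end One

end Cfsg.Agent.S3Extra
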