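import Cfsg.Agent.Lib.S3Extra.Frame

/-!
The centraliser of the first type: dictionary with the table, change of generators, a conjugate of the fused
involution.
-/

set_option autoImplicit false

namespace Cfsg.Agent.S3Extra

open Subgroup

variable {G : Type*} [Group G]

/-- The product in the first type. -/
abbrev Tc (i j : ℕ) : ℕ := T false i j

/-- Two indices commute. -/
def cm (i j : ℕ) : Bool := Nat.beq (Tc i j) (Tc j i)

/-- The index of a conjugate. -/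
def cj (i j : ℕ) : ℕ := Tc (Tc i j) (iv false i)

/-- The index is an involution. -/
def isInv (i : ℕ) : Bool := !(Nat.beq i 0) && Nat.beq (Tc i i) 0

/-- The data of the first type. -/
structure CType (Q : Subgroup G) (P : Gens G) : Prop where
  hyp : Hyp P.s Q
  rels : Rels P false
  mem : ∀ y, y * P.s = P.s * y ↔ ∃ i < 192, P.el i = y
  inj : ∀ i < 192, ∀ j < 192, P.el i = P.el j → i = j
  hQ : ∀ y, y ∈ Q ↔ ∃ i < 32, P.el i = y
  fused : IsConj P.s (P.el 2)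

theorem el_one (P : Gens G) : P.el 1 = P.s := by
  show P.W (true, false, false, false, false, false, 0) = P.s
  simp [Gens.W]

theorem el_two (P : Gens G) : P.el 2 = P.a₀ := by
  show P.W (false, true, false, false, false, false, 0) = P.a₀
  simp [Gens.W]

theorem ctype_of_frame {Q : Subgroup G} {P : Gens G} (H : Hyp P.s Q) (F : Frame P false)
    (hQ : ∀ y, y ∈ Q ↔ ∃ i < 32, P.el i = y) : CType Q P :=
  ⟨H, F.rels, F.mem, F.inj, hQ, (el_two P).symm ▸ F.fused⟩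

set_option synthInstance.maxSize 4000 in
theorem chk_basic : ∀ i < 192, iv false i < 192 ∧ Tc i (iv false i) = 0 ∧ Tc (iv false i) i = 0 := by
  decide +kernel

namespace CType

variable {Q : Subgroup G} {P : Gens G} (C : CType Q P)
include C

theorem mul {i j : ℕ} (hj : j < 192) : P.el i * P.el j = P.el (Tc i j) := (C.rels.el_mul hj).1

theorem lt {i j : ℕ} (hj : j < 192) : Tc i j < 192 := (C.rels.el_mul hj).2

theorem el_comm {i : ℕ} (hi : i < 192) : P.el i * P.s = P.s * P.el i := (C.mem _).2 ⟨i, hi, rfl⟩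

theorem eq_iff {i j : ℕ} (hi : i < 192) (hj : j < 192) : P.el i = P.el j ↔ i = j :=
  ⟨C.inj i hi j hj, congrArg P.el⟩

theorem comm_iff {i j : ℕ} (hi : i < 192) (hj : j < 192) :
    P.el i * P.el j = P.el j * P.el i ↔ cm i j = true := by
  rw [C.mul hj, C.mul hi, C.eq_iff (C.lt hj) (C.lt hi), cm, Nat.beq_eq]

theorem sq_iff {i : ℕ} (hi : i < 192) : P.el i * P.el i = 1 ↔ Tc i i = 0 := by
  rw [C.mul hi, ← C.rels.el_zero, C.eq_iff (C.lt hi) (by norm_num)]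

theorem el_inv {i : ℕ} (hi : i < 192) : (P.el i)⁻¹ = P.el (iv false i) :=
  inv_eq_of_mul_eq_one_right (by rw [C.mul (chk_basic i hi).1, (chk_basic i hi).2.1, C.rels.el_zero])

theorem el_conj {i j : ℕ} (hi : i < 192) (hj : j < 192) :
    P.el i * P.el j * (P.el i)⁻¹ = P.el (cj i j) ∧ cj i j < 192 := by
  rw [C.el_inv hi, C.mul hj, C.mul (chk_basic i hi).1]
  exact ⟨rfl, C.lt (chk_basic i hi).1⟩

theorem isInv_iff {i : ℕ} (hi : i < 192) : isInv i = true ↔ P.el i ≠ 1 ∧ P.el i * P.el i = 1 := by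
  rw [C.sq_iff hi, ← C.rels.el_zero, Ne, C.eq_iff hi (by norm_num), isInv, Bool.and_eq_true,
    Bool.not_eq_true', Nat.beq_eq, Bool.eq_false_iff]
  simp only [ne_eq, Nat.beq_eq]

theorem conj_of_wit {i j w : ℕ} (hi : i < 192) (hw : w < 192) (h : cj w i = j) : IsConj (P.el i) (P.el j) :=
  isConj_iff.2 ⟨P.el w, by rw [(C.el_conj hw hi).1, h]⟩

theorem card_cent : Nat.card (centralizer ({P.s} : Set G)) = 192 := C.hyp.card_cent

end CType

/-! ### Change of generators -/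

/-- Seven indices for new generators. -/
abbrev Seven : Type := ℕ × ℕ × ℕ × ℕ × ℕ × ℕ × ℕ

/-- The index of the normal form in new generators. -/
def sg (v : Seven) (i : ℕ) : ℕ :=
  let (gs, ga₀, ga₁, gb₀, gb₁, gu, gx) := v
  let j : ℕ := Nat.rec 0 (fun _ z => Tc gx z) (i / 64)
  let j := cond (bitB i 5) (Tc gu j) j
  let j := cond (bitB i 4) (Tc gb₁ j) j
  let j := cond (bitB i 3) (Tc gb₀ j) j
  let j := cond (bitB i 2) (Tc ga₁ j) j
  let j := cond (bitB i 1) (Tc ga₀ j) j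
  cond (bitB i 0) (Tc gs j) j

/-- The new generators form an involutory automorphism of the table. -/
def okSeven (v : Seven) : Bool :=
  let (s, a₀, a₁, b₀, b₁, u, x) := v
  Nat.beq s 1 && Nat.beq (Tc a₀ a₀) 0 && Nat.beq (Tc a₁ a₁) 0 && Nat.beq (Tc b₀ b₀) 0 && Nat.beq (Tc b₁ b₁) 0 &&
  Nat.beq (Tc u u) 0 && Nat.beq (Tc (Tc x x) x) 0 && cm s a₀ && cm s a₁ && cm s b₀ && cm s b₁ && cm s u && cm s x &&
  Nat.beq (Tc a₁ a₀) (Tc a₀ a₁) && Nat.beq (Tc b₁ b₀) (Tc b₀ b₁) && Nat.beq (Tc b₀ a₀) (Tc a₀ b₀) &&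
  Nat.beq (Tc b₁ a₁) (Tc a₁ b₁) && Nat.beq (Tc b₀ a₁) (Tc (Tc s a₁) b₀) && Nat.beq (Tc b₁ a₀) (Tc (Tc s a₀) b₁) &&
  Nat.beq (Tc x a₀) (Tc a₁ x) && Nat.beq (Tc x a₁) (Tc (Tc a₀ a₁) x) && Nat.beq (Tc x b₀) (Tc b₁ x) &&
  Nat.beq (Tc x b₁) (Tc (Tc b₀ b₁) x) && Nat.beq (Tc x u) (Tc u (Tc x x)) && Nat.beq (Tc u a₀) (Tc a₀ u) &&
  Nat.beq (Tc u a₁) (Tc (Tc a₀ a₁) u) && Nat.beq (Tc u b₀) (Tc b₀ u) && Nat.beq (Tc u b₁) (Tc (Tc b₀ b₁) u) &&
  Nat.blt s 192 && Nat.blt a₀ 192 && Nat.blt a₁ 192 && Nat.blt b₀ 192 && Nat.blt b₁ 192 && Nat.blt u 192 &&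
  Nat.blt x 192 && (List.range 192).all fun i =>
    Nat.blt (sg v i) 192 && Nat.beq (sg v (sg v i)) i && (Nat.blt (sg v i) 32 == Nat.blt i 32)

/-- The new generators. -/
def Gens.change (P : Gens G) (v : Seven) : Gens G :=
  let (s, a₀, a₁, b₀, b₁, u, x) := v
  ⟨P.el s, P.el a₀, P.el a₁, P.el b₀, P.el b₁, P.el u, P.el x⟩

theorem CType.change {Q : Subgroup G} {P : Gens G} (C : CType Q P) (v : Seven) (hv : okSeven v = true)
    (hf : IsConj P.s (P.el (sg v 2))) :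
    CType Q (P.change v) ∧ ∀ i, (P.change v).el i = P.el (sg v i) := by
  obtain ⟨s, a₀, a₁, b₀, b₁, u, x⟩ := v
  simp only [okSeven, Bool.and_eq_true, Nat.beq_eq, Nat.blt_eq, cm, List.all_eq_true, List.mem_range,
    beq_iff_eq] at hv
  obtain ⟨hv, hall⟩ := hv
  obtain ⟨⟨⟨⟨⟨⟨⟨hv, ls⟩, la₀⟩, la₁⟩, lb₀⟩, lb₁⟩, lu⟩, lx⟩ := hv
  obtain ⟨⟨⟨⟨⟨⟨⟨⟨⟨⟨⟨⟨⟨⟨hv, q₁₄⟩, q₁₅⟩, q₁₆⟩, q₁₇⟩, q₁₈⟩, q₁₉⟩, q₂₀⟩, q₂₁⟩, q₂₂⟩, q₂₃⟩, q₂₄⟩, q₂₅⟩, q₂₆⟩, q₂₇⟩ :=
    hv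
  obtain ⟨⟨⟨⟨⟨⟨⟨⟨⟨⟨⟨⟨⟨q₁, q₂⟩, q₃⟩, q₄⟩, q₅⟩, q₆⟩, q₇⟩, q₈⟩, q₉⟩, q₁₀⟩, q₁₁⟩, q₁₂⟩, q₁₃⟩, q₀⟩ := hv
  subst q₁
  set v : Seven := (1, a₀, a₁, b₀, b₁, u, x) with hv'
  have e1 : P.el 1 = P.s := el_one P
  have hel : ∀ i, (P.change v).el i = P.el (sg v i) := by
    intro i
    have step : ∀ (g : ℕ) (c : Bool) (j : ℕ), j < 192 →
        cond c (P.el g) 1 * P.el j = P.el (cond c (Tc g j) j) ∧ cond c (Tc g j) j < 192 := by
      intro g c j hj
      cases c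
      · exact ⟨one_mul _, hj⟩
      · exact ⟨C.mul hj, C.lt hj⟩
    have hx : ∀ k, P.el x ^ k = P.el (Nat.rec 0 (fun _ z => Tc x z) k) ∧
        Nat.rec (motive := fun _ => ℕ) 0 (fun _ z => Tc x z) k < 192 := by
      intro k
      induction k with
      | zero => exact ⟨by simp [C.rels.el_zero], by norm_num⟩
      | succ k ih => exact ⟨by rw [pow_succ', ih.1]; exact C.mul ih.2, C.lt ih.2⟩
    have h0 := hx (i / 64)
    have h1 := step u (bitB i 5) _ h0.2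
    have h2 := step b₁ (bitB i 4) _ h1.2
    have h3 := step b₀ (bitB i 3) _ h2.2
    have h4 := step a₁ (bitB i 2) _ h3.2
    have h5 := step a₀ (bitB i 1) _ h4.2
    have h6 := step 1 (bitB i 0) _ h5.2
    show (P.change v).W (dec i) = _
    simp only [Gens.change, hv', Gens.W, dec, mul_assoc]
    rw [h0.1, h1.1, h2.1, h3.1, h4.1, h5.1, h6.1]
    rfl
  have m : ∀ {a b : ℕ}, b < 192 → P.el a * P.el b = P.el (Tc a b) := fun h => C.mul h
  have hR : Rels (P.change v) false := by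
    have cm1 : ∀ {a : ℕ}, a < 192 → P.el 1 * P.el a = P.el a * P.el 1 := fun h => by
      rw [e1]; exact (C.el_comm h).symm
    refine
      { ss := by show P.el 1 * P.el 1 = 1; rw [e1]; exact C.hyp.s_sq
        sa₀ := cm1 la₀, sa₁ := cm1 la₁, sb₀ := cm1 lb₀, sb₁ := cm1 lb₁, su := cm1 lu, sx := cm1 lx
        a₀₀ := (C.sq_iff la₀).2 (by assumption), a₁₁ := (C.sq_iff la₁).2 (by assumption)
        b₀₀ := (C.sq_iff lb₀).2 (by assumption), b₁₁ := (C.sq_iff lb₁).2 (by assumption)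
        uu := (C.sq_iff lu).2 (by assumption)
        a₀₁ := ?_, b₀₁ := ?_, b₀a₀ := ?_, b₁a₁ := ?_, b₀a₁ := ?_, b₁a₀ := ?_, xa₀ := ?_, xa₁ := ?_, xb₀ := ?_
        xb₁ := ?_, xxx := ?_, xu := ?_, ua₀ := ?_, ua₁ := ?_, ub₀ := ?_, ub₁ := ?_ }
    all_goals
      simp only [Gens.change, hv', cond_false, one_mul]
      simp only [m la₀, m la₁, m lb₀, m lb₁, m lu, m lx, m (C.lt lb₁), m (C.lt lx), m (C.lt la₁)]
      try rw [← C.rels.el_zero]
      congr 1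
  have hs : (P.change v).s = P.s := e1
  refine ⟨⟨hs.symm ▸ C.hyp, hR, fun y => ?_, fun i hi j hj h => ?_, fun y => ?_, ?_⟩, hel⟩
  · rw [hs, C.mem]
    constructor
    · rintro ⟨i, hi, rfl⟩
      exact ⟨sg v i, (hall i hi).1.1, by rw [hel, (hall i hi).1.2]⟩
    · rintro ⟨i, hi, rfl⟩
      exact ⟨sg v i, (hall i hi).1.1, (hel i).symm⟩
  · rw [hel, hel] at h
    rw [← (hall i hi).1.2, ← (hall j hj).1.2, C.inj _ (hall i hi).1.1 _ (hall j hj).1.1 h]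
  · rw [C.hQ]
    constructor
    · rintro ⟨i, hi, rfl⟩
      have h := hall i (by omega)
      refine ⟨sg v i, ?_, by rw [hel, h.1.2]⟩
      exact Nat.blt_eq.mp (h.2.trans (Nat.blt_eq.mpr hi))
    · rintro ⟨i, hi, rfl⟩
      have h := hall i (by omega)
      refine ⟨sg v i, ?_, (hel i).symm⟩
      exact Nat.blt_eq.mp (h.2.trans (Nat.blt_eq.mpr hi))
  · rw [hs, hel]; exact hf

end Cfsg.Agent.S3Extra
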