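import Cfsg.Agent.Lib.S3Extra.CaseTwo
import Cfsg.Agent.Lib.S3344Id.OfGens

/-!
The alternating case: exactly one of the two further classes is fused with the central involution. The classes of
the centraliser, the root configuration, and a subgroup containing the local subgroups.
-/

set_option autoImplicit false
set_option synthInstance.maxSize 100000
set_option maxRecDepth 4000

namespace Cfsg.Agent.S3Extra

open Subgroup

variable {G : Type*} [Group G]

/-- The indices of the conjugates of the involution in its centraliser. -/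
def isS (i : ℕ) : Bool := Nat.testBit 3163070891344801030160489294420962693601709081208811619326 i

theorem chk_isS :
    (∀ i < 192, isS i = true → isInv i = true ∧
      ∃ y < 192, cj y i = 1 ∨ cj y i = 2 ∨ cj y i = 8 ∨ cj y i = 32) ∧
    (∀ i < 192, isInv i = true → isS i = false → ∃ y < 192, cj y i = 11 ∨ cj y i = 33) ∧
    isS 0 = false ∧ isS 1 = true ∧ isS 96 = true ∧ isS 32 = true ∧ isS 20 = false ∧ isS 11 = false ∧
    (List.range 192).countP (fun i => inA i && !(Nat.beq i 0) && isS i) = 9 ∧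
    (∃ y < 192, cj y 34 = 32) ∧ Tc 4 16 = 20 ∧ Tc 32 64 = 96 := by
  decide +kernel

/-- The alternating case, with the pairing of the outer classes fixed. -/
structure One (Q : Subgroup G) (P : Gens G) : Prop where
  C : CType Q P
  h8 : IsConj P.s (P.el 8)
  h11 : ¬ IsConj P.s (P.el 11)
  h32 : IsConj (P.el 8) (P.el 32)
  h33 : IsConj (P.el 11) (P.el 33)

theorem exists_one [Finite G] {Q : Subgroup G} {P : Gens G} (C : CType Q P) (h8 : IsConj P.s (P.el 8))
    (h11 : ¬ IsConj P.s (P.el 11)) : ∃ P' : Gens G, P'.s = P.s ∧ One Q P' := by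
  rcases C.pairing with ⟨a, b⟩ | ⟨a, b⟩
  · exact ⟨P, rfl, C, h8, h11, a, b⟩
  · obtain ⟨C', hel⟩ := C.change flipU ok_flips.1 (sg_flips.1.1.symm ▸ C.fused)
    have hs : (P.change flipU).s = P.s := el_one P
    obtain ⟨-, e8, e11, e32, e33⟩ := sg_flips.1
    exact ⟨_, hs, C', by rwa [hs, hel, e8], by rwa [hs, hel, e11], by rwa [hel, hel, e8, e32],
      by rwa [hel, hel, e11, e33]⟩

namespace One

variable {Q : Subgroup G} {P : Gens G} (O : One Q P)
include O

theorem conj_s_iff [Finite G] {i : ℕ} (hi : i < 192) : IsConj P.s (P.el i) ↔ isS i = true := by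
  have hinv : IsConj P.s (P.el i) → isInv i = true := fun h => (O.C.orderOf_el hi).1 (by
    obtain ⟨g, hg⟩ := isConj_iff.1 h
    rw [← hg, ← MulAut.conj_apply, MulEquiv.orderOf_eq, O.C.hyp.s_two])
  constructor
  · intro h
    by_contra hne
    obtain ⟨y, hy, hc⟩ := chk_isS.2.1 i hi (hinv h) (Bool.eq_false_iff.2 hne)
    have hw := h.trans (O.C.conj_of_wit hi hy rfl)
    rcases hc with e | e <;> rw [e] at hw
    · exact O.h11 hw
    · exact O.h11 (hw.trans O.h33.symm)
  · intro h
    obtain ⟨-, y, hy, hc⟩ := chk_isS.1 i hi h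
    have hw := O.C.conj_of_wit hi hy rfl
    rcases hc with e | e | e | e <;> rw [e] at hw
    · rw [el_one] at hw; exact hw.symm
    · exact O.C.fused.trans hw.symm
    · exact O.h8.trans hw.symm
    · exact (O.h8.trans O.h32).trans hw.symm

theorem conj_w [Finite G] {i : ℕ} (hi : i < 192) (hinv : isInv i = true) (h : isS i = false) :
    IsConj (P.el 11) (P.el i) := by
  obtain ⟨y, hy, hc⟩ := chk_isS.2.1 i hi hinv h
  have hw := O.C.conj_of_wit hi hy rfl
  rcases hc with e | e <;> rw [e] at hw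
  · exact hw.symm
  · exact O.h33.trans hw.symm

theorem card_NA [Finite G] : Nat.card (normalizer (A16 P : Set G)) = 576 := by
  rw [O.C.card_normA O.h8 isS fun i hi _ _ => O.conj_s_iff (by omega), chk_isS.2.2.2.2.2.2.2.2.1]

theorem fused_eight : IsConj P.s (P.el (sg flipAB 2)) := by rw [sg_flips.2.2.1.1]; exact O.h8

/-- The second subgroup of order eight. -/
theorem E8_change : E8 (P.change flipAB) = closure {P.b₀, P.b₁, P.s} := by
  have e8 : P.el 8 = P.b₀ := by
    show P.W (false, false, false, true, false, false, 0) = _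
    simp [Gens.W]
  have e16 : P.el 16 = P.b₁ := by
    show P.W (false, false, false, false, true, false, 0) = _
    simp [Gens.W]
  show closure {P.el 8, P.el 16, P.el 1} = _
  rw [e8, e16, el_one]

theorem not_conj [Finite G] :
    ¬ IsConj (P.a₁ * P.b₁) (P.u * P.x) ∧ ¬ IsConj (P.a₁ * P.b₁) P.u := by
  have hnc : ∀ {i}, i < 192 → isS i = true → ¬ IsConj (P.a₁ * P.b₁) (P.el i) := fun {i} hi h hc => by
    have e20 : P.el 20 = P.a₁ * P.b₁ := by
      rw [← chk_isS.2.2.2.2.2.2.2.2.2.2.1, ← O.C.mul (by norm_num), CType.el_four]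
      congr 1
      show P.W (false, false, false, false, true, false, 0) = _
      simp [Gens.W]
    rw [← e20] at hc
    have := (O.conj_s_iff (show 20 < 192 by norm_num)).1 (((O.conj_s_iff hi).2 h).trans hc.symm)
    rw [chk_isS.2.2.2.2.2.2.1] at this
    exact Bool.false_ne_true this
  have e32 : P.el 32 = P.u := by
    show P.W (false, false, false, false, false, true, 0) = _
    simp [Gens.W]
  refine ⟨?_, ?_⟩
  · have e : P.el 96 = P.u * P.x := by
      rw [← chk_isS.2.2.2.2.2.2.2.2.2.2.2, ← O.C.mul (by norm_num), e32]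
      congr 1
      show P.W (false, false, false, false, false, false, 1) = _
      simp [Gens.W]
    rw [← e]; exact hnc (by norm_num) chk_isS.2.2.2.2.1
  · rw [← e32]; exact hnc (by norm_num) chk_isS.2.2.2.2.2.1

end One

/-- A subgroup of order `20160` containing the centraliser and the two local subgroups. -/
structure Big (P : Gens G) (G₀ : Subgroup G) : Prop where
  hL : centralizer ({P.s} : Set G) ≤ G₀
  hM : normalizer (E8 P : Set G) ≤ G₀
  hM' : normalizer (E8 (P.change flipAB) : Set G) ≤ G₀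
  card : Nat.card G₀ = 20160

namespace One

variable {Q : Subgroup G} {P : Gens G} (O : One Q P) {G₀ : Subgroup G} (B : Big P G₀)
include O B

theorem el_mem {i : ℕ} (hi : i < 192) : P.el i ∈ G₀ :=
  B.hL (mem_centralizer_singleton_iff.2 (O.C.el_comm hi))

/-- Every conjugate of the involution in its centraliser is conjugate to it within the subgroup. -/
theorem class_in [Finite G] {i : ℕ} (hi : i < 192) (h : IsConj P.s (P.el i)) :
    ∃ m ∈ G₀, m * P.s * m⁻¹ = P.el i := by
  obtain ⟨-, y, hy, hc⟩ := chk_isS.1 i hi ((O.conj_s_iff hi).1 h)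
  have key : ∀ m ∈ G₀, m * P.s * m⁻¹ = P.el (cj y i) → ∃ m ∈ G₀, m * P.s * m⁻¹ = P.el i := fun m hm he => by
    refine ⟨(P.el y)⁻¹ * m, mul_mem (inv_mem (O.el_mem B hy)) hm, ?_⟩
    rw [CType.conj_mul', he, ← (O.C.el_conj hy hi).1]; group
  obtain ⟨C', hel⟩ := O.C.change flipAB ok_flips.2.2 O.fused_eight
  obtain ⟨w8, hw8, he8⟩ := C'.exists_to (i := 2) (by norm_num) (by norm_num)
  rw [hel, sg_flips.2.2.1.1, show (P.change flipAB).s = P.s from el_one P] at he8
  rcases hc with e | e | e | e <;> rw [e] at key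
  · exact key 1 (one_mem _) (by rw [el_one]; group)
  · obtain ⟨w, hw, he⟩ := O.C.exists_to (i := 2) (by norm_num) (by norm_num)
    exact key w (B.hM hw) he
  · exact key w8 (B.hM' hw8) he8
  · obtain ⟨w, hw, -, -, j, hj, h3⟩ := O.C.exists_swap
    have hwj : w * w8 * P.s * (w * w8)⁻¹ = P.el j := by rw [CType.conj_mul', he8, h3]
    have hjS : isS j = true :=
      (O.conj_s_iff (by rcases hj with rfl | rfl | rfl | rfl <;> norm_num)).1 (isConj_iff.2 ⟨_, hwj⟩)
    rcases hj with rfl | rfl | rfl | rfl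
    · exact key _ (mul_mem (B.hM hw) (B.hM' hw8)) hwj
    · exact absurd hjS (by decide +kernel)
    · obtain ⟨z, hz, hze⟩ := chk_isS.2.2.2.2.2.2.2.2.2.1
      refine key (P.el z * (w * w8)) (mul_mem (O.el_mem B hz) (mul_mem (B.hM hw) (B.hM' hw8))) ?_
      rw [CType.conj_mul', hwj, (O.C.el_conj hz (by norm_num)).1, hze]
    · exact absurd hjS (by decide +kernel)

theorem syl_sub [Finite G] : ∃ U : Subgroup G, Nat.card U = 2 ^ 6 ∧ U ≤ G₀ ∧
    ∀ {y}, y ∈ U ↔ ∃ i < 64, P.el i = y := by
  have hT : ∀ i < 64, ∀ j < 64, Tc i j < 64 := by decide +kernel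
  let U : Subgroup G := M12Cent.ofClosed {x | ∃ i < 64, P.el i = x} ⟨0, by norm_num, O.C.rels.el_zero⟩
    (by rintro _ ⟨i, hi, rfl⟩ _ ⟨j, hj, rfl⟩; exact ⟨Tc i j, hT i hi j hj, (O.C.mul (by omega)).symm⟩)
  refine ⟨U, ?_, ?_, Iff.rfl⟩
  · rw [← Nat.card_congr (Equiv.ofBijective (fun i : Fin 64 => (⟨P.el i, i, i.2, rfl⟩ : U))
      ⟨fun a b h => Fin.ext (O.C.inj _ (by omega) _ (by omega) (congrArg Subtype.val h)),
        fun ⟨x, i, hi, hx⟩ => ⟨⟨i, hi⟩, Subtype.ext hx⟩⟩), Nat.card_fin]
    norm_num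
  · rintro _ ⟨i, hi, rfl⟩; exact O.el_mem B (by omega)

/-- The involution lies in no other conjugate of the subgroup. -/
theorem mem_of_conj [Finite G] {g : G} (hg : g * P.s * g⁻¹ ∈ G₀) : g ∈ G₀ := by
  obtain ⟨U, hUc, hUle, hU⟩ := O.syl_sub B
  obtain ⟨m, hm, hmU⟩ := M12Cent.exists_conj_into hUle hUc (by rw [B.card]; norm_num) hg
    (by rw [← MulAut.conj_apply, MulEquiv.orderOf_eq, O.C.hyp.s_two])
  rw [← CType.conj_mul'] at hmU
  obtain ⟨i, hi, hie⟩ := hU.1 hmU
  obtain ⟨k, hk, hke⟩ := O.class_in B (show i < 192 by omega) (isConj_iff.2 ⟨m * g, hie.symm⟩)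
  have hc : k⁻¹ * (m * g) * P.s = P.s * (k⁻¹ * (m * g)) := by
    calc k⁻¹ * (m * g) * P.s = k⁻¹ * (m * g * P.s * (m * g)⁻¹) * (m * g) := by group
      _ = k⁻¹ * (k * P.s * k⁻¹) * (m * g) := by rw [hke, hie]
      _ = _ := by group
  have h := B.hL (mem_centralizer_singleton_iff.2 hc)
  exact (mul_mem_cancel_left hm).1 ((mul_mem_cancel_left (inv_mem hk)).1 h)

theorem cent_class_le [Finite G] {v : G} (hv : v ∈ G₀) (hc : IsConj P.s v) : centralizer ({v} : Set G) ≤ G₀ := by
  obtain ⟨g, rfl⟩ := isConj_iff.1 hc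
  have hgG := O.mem_of_conj B hv
  intro y hy
  have h := mem_centralizer_singleton_iff.1 hy
  have : g⁻¹ * y * g ∈ G₀ := B.hL (mem_centralizer_singleton_iff.2 (by
    calc g⁻¹ * y * g * P.s = g⁻¹ * (y * (g * P.s * g⁻¹)) * g := by group
      _ = _ := by rw [h]; group))
  exact (mul_mem_cancel_left (inv_mem hgG)).1 ((mul_mem_cancel_right hgG).1 this)

theorem normA_le [Finite G] : normalizer (A16 P : Set G) ≤ G₀ := fun g hg => by
  refine O.mem_of_conj B ?_
  obtain ⟨i, hi, -, hie⟩ := O.C.mem_A.1 ((mem_normalizer_iff.1 hg _).1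
    (O.C.mem_A.2 ⟨1, by norm_num, rfl, el_one P⟩))
  exact hie ▸ O.el_mem B (by omega)

end One

end Cfsg.Agent.S3Extra
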