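import Cfsg.Agent.Lib.S3Extra.Setting

/-!
The action of an element of order three on the extraspecial group, a conjugate of the involution inside it, and an
involution outside commuting with both.
-/

set_option autoImplicit false

namespace Cfsg.Agent.S3Extra

open Subgroup

variable {G : Type*} [Group G]

theorem cube {x : G} (h3 : orderOf x = 3) : x * x * x = 1 := by
  rw [← pow_three' x, ← h3, pow_orderOf_eq_one]

namespace Hyp

variable {s : G} {Q : Subgroup G} (H : Hyp s Q)
include H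

theorem mem_one_s {m : G} (h : m = 1 ∨ m = s) : m ∈ Q ∧ m * m = 1 := by
  rcases h with rfl | rfl
  · exact ⟨one_mem _, one_mul _⟩
  · exact ⟨H.s_mem, H.s_sq⟩

theorem comm_one_s {m y : G} (h : m = 1 ∨ m = s) (hy : y * s = s * y) : y * m = m * y := by
  rcases h with rfl | rfl
  · simp
  · exact hy

/-- An element of order three moves everything outside the centre modulo the centre. -/
theorem fix {x : G} (hx : x * s = s * x) (h3 : orderOf x = 3) {q : G} (hq : q ∈ Q)
    (h : x * q * x⁻¹ = q ∨ x * q * x⁻¹ = q * s) : q = 1 ∨ q = s := by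
  rcases h with h | h
  · exact H.fpf x hx h3 q hq (mul_inv_eq_iff_eq_mul.1 h)
  · have hx2 : orderOf (x * x) = 3 := by
      rw [← pow_two, orderOf_pow' x (by norm_num), h3]; norm_num
    refine H.fpf _ (by rw [mul_assoc, hx, ← mul_assoc, hx, mul_assoc]) hx2 q hq ?_
    have h' : x * q = q * (s * x) := by
      rw [← mul_assoc, ← h]; simp [mul_assoc]
    calc x * x * q = x * (x * q) := mul_assoc _ _ _
      _ = x * q * (s * x) := by rw [h', ← mul_assoc x q, h']
      _ = q * (s * x) * (s * x) := by rw [h']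
      _ = q * (s * (x * s) * x) := by group
      _ = q * (x * x) := by rw [hx, ← mul_assoc s s, H.s_sq, one_mul]

/-- The product of an orbit of an element of order three is central. -/
theorem orbit_prod {x : G} (hx : x * s = s * x) (h3 : orderOf x = 3) {q : G} (hq : q ∈ Q) :
    q * (x * q * x⁻¹) * (x * (x * q * x⁻¹) * x⁻¹) = 1 ∨ q * (x * q * x⁻¹) * (x * (x * q * x⁻¹) * x⁻¹) = s := by
  have h1 := H.norm x hx q hq
  have h2 := H.norm x hx _ h1
  have hm := Q.mul_mem (Q.mul_mem hq h1) h2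
  have hxi : x⁻¹ = x * x := inv_eq_of_mul_eq_one_right (by rw [← mul_assoc, cube h3])
  set m := q * (x * q * x⁻¹) * (x * (x * q * x⁻¹) * x⁻¹) with hmd
  have hrot : x * m * x⁻¹ = x * q * x⁻¹ * (x * (x * q * x⁻¹) * x⁻¹) * q := by
    have e : x * (x * (x * q * x⁻¹) * x⁻¹) * x⁻¹ = q := by
      calc x * (x * (x * q * x⁻¹) * x⁻¹) * x⁻¹ = x * x * x * q * (x * x * x)⁻¹ := by group
        _ = q := by rw [cube h3, inv_one, mul_one, one_mul]
    rw [hmd]
    conv_rhs => arg 2; rw [← e]
    group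
  refine H.fix hx h3 hm ?_
  rw [hrot, hmd]
  rcases H.comm _ (Q.mul_mem h1 h2) q hq with e | e
  · exact Or.inl (by rw [e, mul_assoc q])
  · exact Or.inr (by rw [e]; simp only [mul_assoc])

theorem comm_orbit {x : G} (hx : x * s = s * x) (h3 : orderOf x = 3) {q : G} (hq : q ∈ Q) (hq2 : q * q = 1) :
    q * (x * q * x⁻¹) = x * q * x⁻¹ * q := by
  have hm := H.orbit_prod hx h3 hq
  set t := x * q * x⁻¹ with ht
  set w := x * t * x⁻¹ with hw
  have ht2 : t * t = 1 := by
    rw [ht, show x * q * x⁻¹ * (x * q * x⁻¹) = x * (q * q) * x⁻¹ by group, hq2]; group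
  have hw2 : w * w = 1 := by
    rw [hw, show x * t * x⁻¹ * (x * t * x⁻¹) = x * (t * t) * x⁻¹ by group, ht2]; group
  have h4 : q * t * (q * t) = 1 := by
    have e : q * t = q * t * w * w := by rw [mul_assoc (q * t), hw2, mul_one]
    rw [e]
    have hwm := H.comm_one_s hm (H.comm_s w (H.norm x hx _ (H.norm x hx q hq)))
    calc q * t * w * w * (q * t * w * w) = (q * t * w) * (w * (q * t * w)) * w := by group
      _ = (q * t * w) * ((q * t * w) * w) * w := by rw [hwm]
      _ = 1 := by
        rw [← mul_assoc (q * t * w) (q * t * w), (H.mem_one_s hm).2, one_mul, hw2]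
  calc q * t = (q * t)⁻¹ := (inv_eq_of_mul_eq_one_right h4).symm
    _ = t * q := by rw [mul_inv_rev, inv_eq_of_mul_eq_one_right hq2, inv_eq_of_mul_eq_one_right ht2]

/-- An involution commuting with a given one but not with its image under an element of order three. -/
theorem exists_partner {x : G} (hx : x * s = s * x) (h3 : orderOf x = 3) {r : G} (hr : r ∈ Q) (hr2 : r * r = 1)
    (hr1 : r ≠ 1) (hrs : r ≠ s) : ∃ b ∈ Q, b * b = 1 ∧ b * r = r * b ∧
      b * (x * r * x⁻¹) = x * r * x⁻¹ * b * s := by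
  set t := x * r * x⁻¹ with ht
  have htQ : t ∈ Q := H.norm x hx r hr
  have ht2 : t * t = 1 := by
    rw [ht, show x * r * x⁻¹ * (x * r * x⁻¹) = x * (r * r) * x⁻¹ by group, hr2]; group
  have hrt : r * t = t * r := H.comm_orbit hx h3 hr hr2
  obtain ⟨b, hb, hbr, hbt⟩ : ∃ b ∈ Q, b * r = r * b ∧ b * t = t * b * s := by
    by_contra hall
    push Not at hall
    have hK : ∀ b ∈ Q, b * r = r * b → b * t = t * b := fun b hb hbr =>
      (H.comm b hb t htQ).resolve_right (hall b hb hbr)
    obtain ⟨q0, hq0, hq0r⟩ : ∃ q0 ∈ Q, q0 * r = r * q0 * s := by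
      by_contra h
      push Not at h
      exact (H.center r hr fun q hq => (H.comm q hq r hr).resolve_right (h q hq)).elim hr1 hrs
    obtain ⟨z, hz, hz0, hzK, hzc⟩ : ∃ z ∈ Q, q0 * z = z * q0 ∧ (∀ b ∈ Q, b * r = r * b → b * z = z * b) ∧
        (z = t ∨ z = r * t) := by
      rcases H.comm q0 hq0 t htQ with h | h
      · exact ⟨t, htQ, h, hK, Or.inl rfl⟩
      · refine ⟨r * t, Q.mul_mem hr htQ, ?_, fun b hb hbr => ?_, Or.inr rfl⟩
        · calc q0 * (r * t) = r * q0 * (s * t) := by rw [← mul_assoc, hq0r]; group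
            _ = r * (q0 * t) * s := by rw [← H.comm_s t htQ]; group
            _ = r * t * q0 := by rw [h]; simp only [mul_assoc, H.s_sq, mul_one]
        · rw [← mul_assoc, hbr, mul_assoc, hK b hb hbr, ← mul_assoc]
    have hzcent : ∀ q ∈ Q, q * z = z * q := fun q hq => by
      rcases H.comm q hq r hr with h | h
      · exact hzK q hq h
      · have hqq : q * q0 * r = r * (q * q0) := by
          calc q * q0 * r = q * r * (q0 * s) := by rw [mul_assoc, hq0r]; group
            _ = r * q * (s * q0) * s := by rw [h]; group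
            _ = r * (q * q0) := by rw [← H.comm_s q0 hq0]; simp only [mul_assoc, H.s_sq, mul_one]
        have := hzK _ (Q.mul_mem hq hq0) hqq
        rw [mul_assoc, hz0, ← mul_assoc, ← mul_assoc] at this
        exact mul_right_cancel this
    have hzs := H.center z hz hzcent
    rcases hzc with rfl | rfl
    · have : r = x⁻¹ * t * x := by rw [ht]; group
      rcases hzs with e | e
      · exact hr1 (by rw [this, e]; group)
      · exact hrs (by rw [this, e, mul_assoc, ← hx]; group)
    · have hri : r⁻¹ = r := inv_eq_of_mul_eq_one_right hr2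
      have e' : t = r ∨ t = r * s := by
        rcases hzs with e | e
        · left; rw [← hri, ← mul_right_inj r, e, mul_inv_cancel]
        · right; rw [← mul_right_inj r, e, ← mul_assoc, hr2, one_mul]
      exact (H.fix hx h3 hr e').elim hr1 hrs
  rcases H.sq b hb with h | h
  · exact ⟨b, hb, h, hbr, hbt⟩
  · have htb : t * b = b * t * s := by rw [hbt]; simp only [mul_assoc, H.s_sq, mul_one]
    refine ⟨b * t, Q.mul_mem hb htQ, ?_, ?_, ?_⟩
    · calc b * t * (b * t) = b * (t * b) * t := by group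
        _ = b * b * t * (s * t) := by rw [htb]; group
        _ = s * s := by rw [h, mul_assoc, ← mul_assoc t s t, H.comm_s t htQ, mul_assoc s t t, ht2, mul_one]
        _ = 1 := H.s_sq
    · rw [mul_assoc, ← hrt, ← mul_assoc, hbr, mul_assoc]
    · calc b * t * t = b := by rw [mul_assoc, ht2, mul_one]
        _ = t * (t * b) := by rw [← mul_assoc, ht2, one_mul]
        _ = t * (b * t) * s := by rw [htb, mul_assoc t]

theorem exists_order_three [Finite G] : ∃ x : G, x * s = s * x ∧ orderOf x = 3 := by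
  haveI : Fact (Nat.Prime 3) := ⟨Nat.prime_three⟩
  obtain ⟨⟨x, hx⟩, hx3⟩ := exists_prime_orderOf_dvd_card' (G := centralizer ({s} : Set G)) 3
    (by rw [H.card_cent]; norm_num)
  exact ⟨x, mem_centralizer_singleton_iff.1 hx, by rw [← hx3, ← Subgroup.orderOf_coe]⟩

theorem conj_mem_Q (g : G) : s ∈ Q.map (MulAut.conj g).toMonoidHom ↔ g⁻¹ * s * g ∈ Q := by
  rw [mem_map_equiv]; simp

/-- An involution outside the extraspecial group, inside that of the conjugate. -/
theorem exists_outer [Finite G] {g r : G} (hgr : g * s * g⁻¹ = r) (hr : r ∈ Q) (hrs : r ≠ s) :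
    g⁻¹ * s * g ∈ Q ∧ ∃ u, u * u = 1 ∧ u * s = s * u ∧ u * r = r * u ∧ u ∉ Q ∧ g⁻¹ * u * g ∈ Q := by
  subst hgr
  have H' := H.conj g
  set Q' := Q.map (MulAut.conj g).toMonoidHom with hQ'
  set r := g * s * g⁻¹ with hrd
  have hr2 : r * r = 1 := H'.s_sq
  have hr1 : r ≠ 1 := H'.s_ne
  have hrsc : r * s = s * r := H.comm_s r hr
  obtain ⟨x, hx, hx3⟩ := H.exists_order_three
  have hsQ' : s ∈ Q' := by
    by_contra hn
    obtain ⟨b, hb, -, hbr, hbt⟩ := H.exists_partner hx hx3 hr hr2 hr1 hrs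
    set t := x * r * x⁻¹ with ht
    have htQ : t ∈ Q := H.norm x hx r hr
    have key : ∀ y ∈ Q, y * r = r * y → ∃ e, (e = 1 ∨ e = s) ∧ y * e ∈ Q' := fun y hy hyr => by
      rcases H'.outer s y hrsc.symm hyr hn (by rw [H.s_sq]; exact one_mem _)
        (by rw [H.comm_s y hy]; simp) with h | h
      · exact ⟨1, Or.inl rfl, by rwa [mul_one]⟩
      · exact ⟨s, Or.inr rfl, h⟩
    obtain ⟨e1, he1, hb'⟩ := key b hb hbr
    obtain ⟨e2, he2, ht'⟩ := key t htQ (H.comm_orbit hx hx3 hr hr2).symm
    have hc1 : ∀ y ∈ Q, y * e1 = e1 * y := fun y hy => H.comm_one_s he1 (H.comm_s y hy)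
    have hc2 : ∀ y ∈ Q, y * e2 = e2 * y := fun y hy => H.comm_one_s he2 (H.comm_s y hy)
    have hswap : b * e1 * (t * e2) = t * e2 * (b * e1) * s := by
      calc b * e1 * (t * e2) = b * t * (e1 * e2) := by rw [mul_assoc b, ← mul_assoc e1, ← hc1 t htQ]; group
        _ = t * b * (s * (e2 * e1)) := by
          rw [hbt, hc1 e2 (H.mem_one_s he2).1]; group
        _ = t * b * (e2 * e1) * s := by
          rw [← H.comm_s (e2 * e1) (Q.mul_mem (H.mem_one_s he2).1 (H.mem_one_s he1).1)]; group
        _ = _ := by rw [mul_assoc t b, ← mul_assoc b e2, hc2 b hb]; group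
    rcases H'.comm _ hb' _ ht' with h | h
    · rw [hswap] at h; exact H.s_ne (mul_eq_left.1 h)
    · rw [hswap] at h; exact hrs (mul_left_cancel h).symm
  refine ⟨(H.conj_mem_Q g).1 hsQ', ?_⟩
  have hx' : g * x * g⁻¹ * r = r * (g * x * g⁻¹) := by
    calc g * x * g⁻¹ * r = g * (x * s) * g⁻¹ := by rw [hrd]; group
      _ = _ := by rw [hx, hrd]; group
  have hx'3 : orderOf (g * x * g⁻¹) = 3 := by rw [← MulAut.conj_apply, MulEquiv.orderOf_eq, hx3]
  obtain ⟨b, hb, hb2, hbs, hbt⟩ := H'.exists_partner hx' hx'3 hsQ' H.s_sq H.s_ne hrs.symm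
  set t := g * x * g⁻¹ * s * (g * x * g⁻¹)⁻¹ with ht
  have htQ' : t ∈ Q' := H'.norm _ hx' s hsQ'
  have ht2 : t * t = 1 := by
    rw [ht, show g * x * g⁻¹ * s * (g * x * g⁻¹)⁻¹ * (g * x * g⁻¹ * s * (g * x * g⁻¹)⁻¹) =
      g * x * g⁻¹ * (s * s) * (g * x * g⁻¹)⁻¹ by group, H.s_sq]
    group
  have hts : t * s = s * t := (H'.comm_orbit hx' hx'3 hsQ' H.s_sq).symm
  have hgQ : ∀ y ∈ Q', g⁻¹ * y * g ∈ Q := fun y hy => by rw [hQ', mem_map_equiv] at hy; simpa using hy
  by_cases hbQ : b ∈ Q
  · by_cases htQ : t ∈ Q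
    · exfalso
      rcases H.comm b hbQ t htQ with h | h
      · rw [hbt] at h; exact hr1 (mul_eq_left.1 h)
      · rw [hbt] at h; exact hrs (mul_left_cancel h)
    · exact ⟨t, ht2, hts, H'.comm_s t htQ', htQ, hgQ t htQ'⟩
  · exact ⟨b, hb2, hbs, H'.comm_s b hb, hbQ, hgQ b hb⟩

/-- An element of order three inverted by a given outer involution. -/
theorem exists_inverted [Finite G] {u : G} (hu : u * u = 1) (hus : u * s = s * u) (huQ : u ∉ Q) :
    ∃ x, x * s = s * x ∧ orderOf x = 3 ∧ u * x * u = x⁻¹ := by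
  haveI : Fact (Nat.Prime 3) := ⟨Nat.prime_three⟩
  obtain ⟨x, hx, hx3⟩ := H.exists_order_three
  have hui : u⁻¹ = u := inv_eq_of_mul_eq_one_right hu
  have hxi : x⁻¹ = x * x := inv_eq_of_mul_eq_one_right (by rw [← mul_assoc, cube hx3])
  set y := u * x * u * x⁻¹ with hy
  set q := u * x * u * x with hq
  have hqQ : q ∈ Q := by
    have h := H.invert u x hus hx huQ (by rw [hu]; exact one_mem _) (by rw [cube hx3]; exact one_mem _)
    rwa [hui] at h
  have hyq : y = q * x := by rw [hy, hq, hxi, ← mul_assoc]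
  have hqs := H.comm_s q hqQ
  have hys : y * s = s * y := by rw [hyq, mul_assoc, hx, ← mul_assoc, hqs, mul_assoc]
  have hm := H.orbit_prod hx hx3 hqQ
  set m := q * (x * q * x⁻¹) * (x * (x * q * x⁻¹) * x⁻¹) with hmd
  have hy3 : y * y * y = m := by
    rw [hyq, hmd]
    calc q * x * (q * x) * (q * x) = q * (x * q * x⁻¹) * (x * (x * q * x⁻¹) * x⁻¹) * (x * x * x) := by group
      _ = _ := by rw [cube hx3, mul_one]
  have hmy : y * m = m * y := H.comm_one_s hm hys
  have hm2 := (H.mem_one_s hm).2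
  have hms : m * s = s * m := H.comm_s m (H.mem_one_s hm).1
  refine ⟨m * y, by rw [mul_assoc, hys, ← mul_assoc, hms, mul_assoc], ?_, ?_⟩
  · refine orderOf_eq_prime ?_ ?_
    · rw [(Commute.mul_pow (show Commute m y from hmy.symm) 3), pow_three', pow_three', hy3, hm2, one_mul, hm2]
    · intro h
      have hyQ : q * x ∈ Q := by
        rw [← hyq, ← inv_eq_of_mul_eq_one_right h]; exact Q.inv_mem (H.mem_one_s hm).1
      have hxQ : x ∈ Q := (Q.mul_mem_cancel_left hqQ).1 hyQ
      rcases H.sq x hxQ with e | e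
      · rw [← pow_two] at e; have := orderOf_dvd_of_pow_eq_one e; rw [hx3] at this; norm_num at this
      · have hx4 : x ^ 4 = 1 := by
          rw [pow_succ, pow_three, mul_assoc, mul_assoc, ← mul_assoc x x (x * x), e, H.s_sq]
        have := orderOf_dvd_of_pow_eq_one hx4; rw [hx3] at this; norm_num at this
  · have huy : u * y * u = y⁻¹ := by
      rw [hy]
      calc u * (u * x * u * x⁻¹) * u = u * u * x * u * x⁻¹ * u := by group
        _ = x * u * x⁻¹ * u := by rw [hu, one_mul]
        _ = (u * x * u * x⁻¹)⁻¹ := by simp only [mul_inv_rev, inv_inv, hui, mul_assoc]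
    have hum : u * m = m * u := H.comm_one_s hm hus
    rw [mul_inv_rev, inv_eq_of_mul_eq_one_right hm2, ← huy]
    calc u * (m * y) * u = m * (u * y * u) := by rw [← mul_assoc u m, hum]; group
      _ = u * y * u * m := by
        rw [huy]; exact ((show Commute y m from hmy).inv_left).symm

end Hyp

end Cfsg.Agent.S3Extra
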