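import Cfsg.Agent.Lib.S3Extra.Elements
import Cfsg.Agent.Lib.S3Extra.Table

/-!
The centraliser of the involution is one of two explicit groups of order 192.
-/

set_option autoImplicit false

namespace Cfsg.Agent.S3Extra

open Subgroup

variable {G : Type*} [Group G]

/-- The centraliser of `P.s`, enumerated compatibly with the table, and the fused involution. -/
structure Frame (P : Gens G) (δ : Bool) : Prop where
  rels : Rels P δ
  mem : ∀ y, y * P.s = P.s * y ↔ ∃ i < 192, P.el i = y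
  inj : ∀ i < 192, ∀ j < 192, P.el i = P.el j → i = j
  fused : IsConj P.s P.a₀
  twin : ∃ g, (g * P.s * g⁻¹ = P.a₀ ∨ g * P.s * g⁻¹ = P.s * P.a₀) ∧ (∃ i < 32, P.el i = g⁻¹ * P.s * g) ∧
    ∃ i < 32, P.el i = g⁻¹ * P.u * g

/-- The inverse of an index. -/
def iv (δ : Bool) (i : ℕ) : ℕ :=
  T δ (64 * ((3 - i / 64) % 3)) (T δ (32 * bn (bitB i 5)) (T δ (16 * bn (bitB i 4)) (T δ (8 * bn (bitB i 3))
    (T δ (4 * bn (bitB i 2)) (T δ (2 * bn (bitB i 1)) (bn (bitB i 0)))))))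

set_option synthInstance.maxSize 4000 in
theorem chk_iv (δ : Bool) :
    (∀ i < 192, iv δ i < 192 ∧ T δ (iv δ i) i = 0 ∧ T δ 1 i = T δ i 1) ∧
      (∀ i < 192, ∀ j < 192, T δ (iv δ i) j = 0 → i = j) := by
  revert δ
  decide +kernel

/-- The part of the relations inside the extraspecial group. -/
structure QRels (P : Gens G) : Prop where
  ss : P.s * P.s = 1
  ne : P.s ≠ 1
  sa₀ : P.s * P.a₀ = P.a₀ * P.s
  sa₁ : P.s * P.a₁ = P.a₁ * P.s
  sb₀ : P.s * P.b₀ = P.b₀ * P.s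
  sb₁ : P.s * P.b₁ = P.b₁ * P.s
  a₀₀ : P.a₀ * P.a₀ = 1
  a₁₁ : P.a₁ * P.a₁ = 1
  a₀₁ : P.a₁ * P.a₀ = P.a₀ * P.a₁
  b₀₀ : P.b₀ * P.b₀ = 1
  b₁₁ : P.b₁ * P.b₁ = 1
  b₀₁ : P.b₁ * P.b₀ = P.b₀ * P.b₁
  b₀a₀ : P.b₀ * P.a₀ = P.a₀ * P.b₀
  b₁a₁ : P.b₁ * P.a₁ = P.a₁ * P.b₁
  b₀a₁ : P.b₀ * P.a₁ = P.s * P.a₁ * P.b₀
  b₁a₀ : P.b₁ * P.a₀ = P.s * P.a₀ * P.b₁

/-- The normal forms inside the extraspecial group. -/
def qw (P : Gens G) (v : Bool × Bool × Bool × Bool × Bool) : G :=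
  cond v.1 P.s 1 * (cond v.2.1 P.a₀ 1 * cond v.2.2.1 P.a₁ 1) * (cond v.2.2.2.1 P.b₀ 1 * cond v.2.2.2.2 P.b₁ 1)

namespace QRels

variable {P : Gens G} (R : QRels P)
include R

theorem signs (e p q m n : Bool) :
    (P.a₀ * qw P (e, p, q, m, n) = cond n P.s 1 * (qw P (e, p, q, m, n) * P.a₀)) ∧
    (P.a₁ * qw P (e, p, q, m, n) = cond m P.s 1 * (qw P (e, p, q, m, n) * P.a₁)) ∧
    (P.b₀ * qw P (e, p, q, m, n) = cond q P.s 1 * (qw P (e, p, q, m, n) * P.b₀)) ∧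
    (P.b₁ * qw P (e, p, q, m, n) = cond p P.s 1 * (qw P (e, p, q, m, n) * P.b₁)) := by
  have hss : ∀ w : G, P.s * (P.s * w) = w := fun w => by rw [← mul_assoc, R.ss, one_mul]
  have A1 : ∀ w : G, P.a₁ * (P.a₀ * w) = P.a₀ * (P.a₁ * w) := fun w => by rw [← mul_assoc, R.a₀₁, mul_assoc]
  have B1 : ∀ w : G, P.b₁ * (P.b₀ * w) = P.b₀ * (P.b₁ * w) := fun w => by rw [← mul_assoc, R.b₀₁, mul_assoc]
  have C1 : ∀ w : G, P.b₀ * (P.a₀ * w) = P.a₀ * (P.b₀ * w) := fun w => by rw [← mul_assoc, R.b₀a₀, mul_assoc]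
  have C2 : ∀ w : G, P.b₁ * (P.a₁ * w) = P.a₁ * (P.b₁ * w) := fun w => by rw [← mul_assoc, R.b₁a₁, mul_assoc]
  have C3 : ∀ w : G, P.b₀ * (P.a₁ * w) = P.s * (P.a₁ * (P.b₀ * w)) := fun w => by
    rw [← mul_assoc, R.b₀a₁, mul_assoc, mul_assoc]
  have C4 : ∀ w : G, P.b₁ * (P.a₀ * w) = P.s * (P.a₀ * (P.b₁ * w)) := fun w => by
    rw [← mul_assoc, R.b₁a₀, mul_assoc, mul_assoc]
  have S1 : ∀ w : G, P.a₀ * (P.s * w) = P.s * (P.a₀ * w) := fun w => by rw [← mul_assoc, ← R.sa₀, mul_assoc]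
  have S2 : ∀ w : G, P.a₁ * (P.s * w) = P.s * (P.a₁ * w) := fun w => by rw [← mul_assoc, ← R.sa₁, mul_assoc]
  have S3 : ∀ w : G, P.b₀ * (P.s * w) = P.s * (P.b₀ * w) := fun w => by rw [← mul_assoc, ← R.sb₀, mul_assoc]
  have S4 : ∀ w : G, P.b₁ * (P.s * w) = P.s * (P.b₁ * w) := fun w => by rw [← mul_assoc, ← R.sb₁, mul_assoc]
  have C1' : P.b₀ * P.a₀ = P.a₀ * P.b₀ := R.b₀a₀
  have C3' : P.b₀ * P.a₁ = P.s * (P.a₁ * P.b₀) := by rw [R.b₀a₁, mul_assoc]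
  have C4' : P.b₁ * P.a₀ = P.s * (P.a₀ * P.b₁) := by rw [R.b₁a₀, mul_assoc]
  have A2 : ∀ w : G, P.a₀ * (P.a₀ * w) = w := fun w => by rw [← mul_assoc, R.a₀₀, one_mul]
  have A3 : ∀ w : G, P.a₁ * (P.a₁ * w) = w := fun w => by rw [← mul_assoc, R.a₁₁, one_mul]
  have B2 : ∀ w : G, P.b₀ * (P.b₀ * w) = w := fun w => by rw [← mul_assoc, R.b₀₀, one_mul]
  have B3 : ∀ w : G, P.b₁ * (P.b₁ * w) = w := fun w => by rw [← mul_assoc, R.b₁₁, one_mul]
  refine ⟨?_, ?_, ?_, ?_⟩ <;> cases e <;> cases p <;> cases q <;> cases m <;> cases n <;>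
    simp [qw, mul_assoc, hss, A1, B1, C1, C2, C3, C4, S1, S2, S3, S4, C1', C3', C4', R.a₀₁, R.b₀₁, R.b₁a₁,
      R.a₀₀, R.a₁₁, R.b₀₀, R.b₁₁, R.ss, A2, A3, B2, B3, R.sa₀.symm, R.sa₁.symm, R.sb₀.symm, R.sb₁.symm]

theorem sign_inj {y : G} {a b : Bool} (h : cond a P.s 1 * y = cond b P.s 1 * y) : a = b := by
  have := mul_right_cancel h
  cases a <;> cases b <;> first | rfl | exact absurd this R.ne | exact absurd this.symm R.ne

theorem qw_inj : Function.Injective (qw P) := by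
  rintro ⟨e, p, q, m, n⟩ ⟨e', p', q', m', n'⟩ h
  have h1 := R.signs e p q m n
  have h2 := R.signs e' p' q' m' n'
  rw [h] at h1
  have hn := R.sign_inj (h1.1.symm.trans h2.1)
  have hm := R.sign_inj (h1.2.1.symm.trans h2.2.1)
  have hq := R.sign_inj (h1.2.2.1.symm.trans h2.2.2.1)
  have hp := R.sign_inj (h1.2.2.2.symm.trans h2.2.2.2)
  subst hn; subst hm; subst hq; subst hp
  simp only [qw, mul_assoc] at h
  have := R.sign_inj h
  subst this; rfl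

theorem qw_surj {Q : Subgroup G} (hQ : Nat.card Q = 32) (hs : P.s ∈ Q) (ha₀ : P.a₀ ∈ Q) (ha₁ : P.a₁ ∈ Q)
    (hb₀ : P.b₀ ∈ Q) (hb₁ : P.b₁ ∈ Q) (y : G) : y ∈ Q ↔ ∃ v, qw P v = y := by
  have hc : ∀ (g : G) (b : Bool), g ∈ Q → cond b g 1 ∈ Q := fun g b hg => by cases b <;> simp [hg]
  have hmem : ∀ v, qw P v ∈ Q := fun v => Q.mul_mem (Q.mul_mem (hc _ _ hs)
    (Q.mul_mem (hc _ _ ha₀) (hc _ _ ha₁))) (Q.mul_mem (hc _ _ hb₀) (hc _ _ hb₁))
  haveI : Finite Q := Nat.finite_of_card_ne_zero (by rw [hQ]; norm_num)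
  have hb : Function.Bijective (fun v => (⟨qw P v, hmem v⟩ : Q)) :=
    (Nat.bijective_iff_injective_and_card _).2 ⟨fun a b h => R.qw_inj (congrArg Subtype.val h), by
      rw [hQ]; simp [Nat.card_prod]⟩
  exact ⟨fun hy => (hb.2 ⟨y, hy⟩).imp fun v h => congrArg Subtype.val h, fun ⟨v, hv⟩ => hv ▸ hmem v⟩

end QRels

theorem el_of_bits (P : Gens G) (v : Bool × Bool × Bool × Bool × Bool) : ∃ i < 32, P.el i = qw P v := by
  obtain ⟨e, p, q, m, n⟩ := v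
  refine ⟨bn e + 2 * bn p + 4 * bn q + 8 * bn m + 16 * bn n, by
    cases e <;> cases p <;> cases q <;> cases m <;> cases n <;> decide, ?_⟩
  have : dec (bn e + 2 * bn p + 4 * bn q + 8 * bn m + 16 * bn n) = (e, p, q, m, n, false, 0) := by
    cases e <;> cases p <;> cases q <;> cases m <;> cases n <;> rfl
  rw [Gens.el, this]
  simp [Gens.W, qw]

namespace Hyp

variable {s : G} {Q : Subgroup G} (H : Hyp s Q)
include H

theorem exists_normalised {x : G} (hx : x * s = s * x) (h3 : orderOf x = 3) {q : G} (hq : q ∈ Q) :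
    ∃ z, (z = 1 ∨ z = s) ∧ (q * z) * (x * (q * z) * x⁻¹) * (x * (x * (q * z) * x⁻¹) * x⁻¹) = 1 := by
  have hm := H.orbit_prod hx h3 hq
  have htQ := H.norm x hx q hq
  obtain ⟨t, htd⟩ : ∃ y, y = x * q * x⁻¹ := ⟨_, rfl⟩
  rw [← htd] at hm htQ
  obtain ⟨w, hwd⟩ : ∃ y, y = x * t * x⁻¹ := ⟨_, rfl⟩
  rw [← hwd] at hm
  obtain ⟨m, hmd⟩ : ∃ y, q * t * w = y := ⟨_, rfl⟩
  rw [hmd] at hm
  refine ⟨m, hm, ?_⟩
  have ht := H.comm_one_s hm (H.comm_s _ htQ)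
  have hxm := H.comm_one_s hm hx
  have hm2 := (H.mem_one_s hm).2
  have e1 : x * (q * m) * x⁻¹ = t * m := by
    calc x * (q * m) * x⁻¹ = x * q * x⁻¹ * (x * m * x⁻¹) := by group
      _ = t * m := by rw [hxm, mul_inv_cancel_right, htd]
  have e2 : x * (t * m) * x⁻¹ = w * m := by
    calc x * (t * m) * x⁻¹ = x * t * x⁻¹ * (x * m * x⁻¹) := by group
      _ = w * m := by rw [hxm, mul_inv_cancel_right, hwd]
  rw [e1, e2]
  calc q * m * (t * m) * (w * m) = q * (m * t) * m * w * m := by group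
    _ = q * t * (m * m) * w * m := by rw [← ht]; group
    _ = q * t * w * m := by rw [hm2, mul_one]
    _ = 1 := by rw [hmd]; exact hm2

/-- The centraliser is one of the two groups given by the table. -/
theorem exists_frame [Finite G] {g : G} (hgr : g * s * g⁻¹ ∈ Q) (hgs : g * s * g⁻¹ ≠ s) :
    ∃ (P : Gens G) (δ : Bool), P.s = s ∧ Frame P δ ∧ ∀ y, y ∈ Q ↔ ∃ i < 32, P.el i = y := by
  obtain ⟨r, hr⟩ : ∃ y, y = g * s * g⁻¹ := ⟨_, rfl⟩
  rw [← hr] at hgr hgs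
  obtain ⟨hsg, u, hu2, hus, hur, huQ, hug⟩ := H.exists_outer hr.symm hgr hgs
  have hr2 : r * r = 1 := hr ▸ (H.conj g).s_sq
  have hr1 : r ≠ 1 := hr ▸ (H.conj g).s_ne
  have hui : u⁻¹ = u := inv_eq_of_mul_eq_one_right hu2
  obtain ⟨x, hx, hx3, hux⟩ := H.exists_inverted hu2 hus huQ
  have hxi : x⁻¹ = x * x := inv_eq_of_mul_eq_one_right (by rw [← mul_assoc, cube hx3])
  have huxi : u * x⁻¹ * u = x := by
    rw [← hux, show u * (u * x * u) * u = (u * u) * x * (u * u) by group, hu2, one_mul, mul_one]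
  obtain ⟨z, hz, hza⟩ := H.exists_normalised hx hx3 hgr
  have hrz : r * z = z * r := H.comm_one_s hz (H.comm_s r hgr)
  have hz2 := (H.mem_one_s hz).2
  obtain ⟨a₀, ha₀d⟩ : ∃ y, y = r * z := ⟨_, rfl⟩
  rw [← ha₀d] at hza
  have ha₀ : a₀ ∈ Q := ha₀d ▸ Q.mul_mem hgr (H.mem_one_s hz).1
  have hza' : a₀ = r ∨ a₀ = s * r := by
    rcases hz with rfl | rfl
    · exact Or.inl (ha₀d.trans (mul_one _))
    · exact Or.inr (ha₀d.trans (H.comm_s r hgr))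
  have ha₀₀ : a₀ * a₀ = 1 := by
    rw [ha₀d]; nth_rw 2 [hrz]; rw [mul_assoc, ← mul_assoc z z, hz2, one_mul, hr2]
  have ha₀1 : a₀ ≠ 1 ∧ a₀ ≠ s := by
    rcases hza' with e | e <;> rw [e]
    · exact ⟨hr1, hgs⟩
    · exact ⟨fun h => hgs (by rw [← mul_right_inj s, h, H.s_sq]), fun h => hr1 (mul_eq_left.1 h)⟩
  have hua₀ : u * a₀ = a₀ * u := by
    rw [ha₀d, ← mul_assoc, hur, mul_assoc, H.comm_one_s hz hus, mul_assoc]
  obtain ⟨a₁, ha₁d⟩ : ∃ y, y = x * a₀ * x⁻¹ := ⟨_, rfl⟩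
  rw [← ha₁d] at hza
  have ha₁ : a₁ ∈ Q := ha₁d ▸ H.norm x hx _ ha₀
  have ha₁₁ : a₁ * a₁ = 1 := by
    rw [ha₁d, show x * a₀ * x⁻¹ * (x * a₀ * x⁻¹) = x * (a₀ * a₀) * x⁻¹ by group, ha₀₀]; group
  have ha₀₁ : a₁ * a₀ = a₀ * a₁ := ha₁d ▸ (H.comm_orbit hx hx3 ha₀ ha₀₀).symm
  have hσa₁ : x * a₁ * x⁻¹ = a₀ * a₁ := by
    have h := eq_inv_of_mul_eq_one_right hza
    rw [h, mul_inv_rev, inv_eq_of_mul_eq_one_right ha₀₀, inv_eq_of_mul_eq_one_right ha₁₁, ha₀₁]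
  have hua₁ : u * a₁ * u = a₀ * a₁ := by
    rw [← hσa₁]
    calc u * a₁ * u = u * x * u * (u * a₀ * u) * (u * x⁻¹ * u) := by
          rw [ha₁d]; simp only [mul_assoc]; rw [← mul_assoc u u, hu2, one_mul, ← mul_assoc u u, hu2, one_mul]
      _ = x⁻¹ * (a₀ * (u * u)) * x := by rw [hux, huxi, hua₀]; group
      _ = x * x * a₀ * (x * x)⁻¹ := by rw [hu2, mul_one, ← hxi, inv_inv]
      _ = x * a₁ * x⁻¹ := by rw [ha₁d]; group
  obtain ⟨b, hb, hb2, hba₀, hba₁⟩ := H.exists_partner hx hx3 ha₀ ha₀₀ ha₀1.1 ha₀1.2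
  rw [← ha₁d] at hba₁
  obtain ⟨w, hw, hwb⟩ := H.exists_normalised hx hx3 hb
  have hbw : b * w = w * b := H.comm_one_s hw (H.comm_s b hb)
  obtain ⟨b₀, hb₀d⟩ : ∃ y, y = b * w := ⟨_, rfl⟩
  rw [← hb₀d] at hwb
  have hb₀ : b₀ ∈ Q := hb₀d ▸ Q.mul_mem hb (H.mem_one_s hw).1
  have hb₀₀ : b₀ * b₀ = 1 := by
    rw [hb₀d]; nth_rw 2 [hbw]; rw [mul_assoc, ← mul_assoc w w, (H.mem_one_s hw).2, one_mul, hb2]
  have hwa : ∀ a ∈ Q, a * w = w * a := fun a ha => H.comm_one_s hw (H.comm_s a ha)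
  have hb₀a₀ : b₀ * a₀ = a₀ * b₀ := by
    rw [hb₀d, mul_assoc, ← hwa a₀ ha₀, ← mul_assoc, hba₀, mul_assoc]
  have hb₀a₁ : b₀ * a₁ = s * a₁ * b₀ := by
    rw [hb₀d, mul_assoc, ← hwa a₁ ha₁, ← mul_assoc b, hba₁, H.comm_s _ (Q.mul_mem ha₁ hb)]
    group
  obtain ⟨b₁, hb₁d⟩ : ∃ y, y = x * b₀ * x⁻¹ := ⟨_, rfl⟩
  rw [← hb₁d] at hwb
  have hb₁ : b₁ ∈ Q := hb₁d ▸ H.norm x hx _ hb₀
  have hb₁₁ : b₁ * b₁ = 1 := by
    rw [hb₁d, show x * b₀ * x⁻¹ * (x * b₀ * x⁻¹) = x * (b₀ * b₀) * x⁻¹ by group, hb₀₀]; group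
  have hb₀₁ : b₁ * b₀ = b₀ * b₁ := hb₁d ▸ (H.comm_orbit hx hx3 hb₀ hb₀₀).symm
  have hσb₁ : x * b₁ * x⁻¹ = b₀ * b₁ := by
    have h := eq_inv_of_mul_eq_one_right hwb
    rw [h, mul_inv_rev, inv_eq_of_mul_eq_one_right hb₀₀, inv_eq_of_mul_eq_one_right hb₁₁, hb₀₁]
  have hsa₀ : s * a₀ = a₀ * s := (H.comm_s _ ha₀).symm
  have hσs : x * s * x⁻¹ = s := by rw [hx, mul_inv_cancel_right]
  have hσσa₁ : x * (a₀ * a₁) * x⁻¹ = a₀ := by
    rw [← hσa₁, ha₁d, show x * (x * (x * a₀ * x⁻¹) * x⁻¹) * x⁻¹ = x * x * x * a₀ * (x * x * x)⁻¹ by group, cube hx3]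
    group
  have hb₁a₁ : b₁ * a₁ = a₁ * b₁ := by
    rw [hb₁d, ha₁d]
    calc x * b₀ * x⁻¹ * (x * a₀ * x⁻¹) = x * (b₀ * a₀) * x⁻¹ := by group
      _ = _ := by rw [hb₀a₀]; group
  have hb₁a₀ : b₁ * a₀ = s * a₀ * b₁ := by
    have e : b₀ * (a₀ * a₁) = s * (a₀ * a₁) * b₀ := by
      rw [← mul_assoc, hb₀a₀, mul_assoc, hb₀a₁, ← mul_assoc, ← mul_assoc, ← hsa₀, mul_assoc s]
    calc b₁ * a₀ = x * (b₀ * (a₀ * a₁)) * x⁻¹ := by conv_lhs => rw [← hσσa₁, hb₁d]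
                                                    group
      _ = x * s * x⁻¹ * (x * (a₀ * a₁) * x⁻¹) * (x * b₀ * x⁻¹) := by rw [e]; group
      _ = s * a₀ * b₁ := by rw [hσs, hσσa₁, hb₁d]
  have R : QRels (G := G) ⟨s, a₀, a₁, b₀, b₁, u, x⟩ :=
    ⟨H.s_sq, H.s_ne, hsa₀, (H.comm_s _ ha₁).symm, (H.comm_s _ hb₀).symm, (H.comm_s _ hb₁).symm, ha₀₀, ha₁₁, ha₀₁,
      hb₀₀, hb₁₁, hb₀₁, hb₀a₀, hb₁a₁, hb₀a₁, hb₁a₀⟩
  set P : Gens G := ⟨s, a₀, a₁, b₀, b₁, u, x⟩ with hP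
  have hQ : ∀ y, y ∈ Q ↔ ∃ v, qw P v = y := R.qw_surj H.card_Q H.s_mem ha₀ ha₁ hb₀ hb₁
  -- the image of `b₀` under the outer involution
  obtain ⟨c, hcd⟩ : ∃ y, y = u * b₀ * u := ⟨_, rfl⟩
  have huu : ∀ y : G, u * (u * y) = y := fun y => by rw [← mul_assoc, hu2, one_mul]
  have hcQ : c ∈ Q := by
    have := H.norm u hus _ hb₀
    rwa [hui, ← hcd] at this
  have hca₀ : a₀ * c = c * a₀ := by
    calc a₀ * c = a₀ * u * b₀ * u := by rw [hcd]; group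
      _ = u * (b₀ * a₀) * u := by rw [← hua₀, hb₀a₀]; group
      _ = u * b₀ * (u * a₀) := by rw [hua₀]; group
      _ = c * a₀ := by rw [hcd]; group
  have hca₁ : a₁ * c = s * (c * a₁) := by
    have e : a₁ = u * (a₀ * a₁) * u := by
      rw [← hua₁, show u * (u * a₁ * u) * u = u * u * a₁ * (u * u) by group, hu2, one_mul, mul_one]
    have e' : a₀ * a₁ * b₀ = s * (b₀ * (a₀ * a₁)) := by
      calc a₀ * a₁ * b₀ = s * (s * (a₀ * a₁) * b₀) := by simp only [← mul_assoc, H.s_sq, one_mul]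
        _ = _ := by rw [← mul_assoc b₀, hb₀a₀, mul_assoc a₀ b₀, hb₀a₁,
          show a₀ * (s * a₁ * b₀) = s * (a₀ * a₁) * b₀ by rw [← mul_assoc, ← mul_assoc, ← hsa₀]; group]
    conv_lhs => rw [e, hcd]
    conv_rhs => rw [e, hcd]
    simp only [mul_assoc, huu]
    simp only [← mul_assoc]
    rw [mul_assoc u a₀ a₁, mul_assoc u (a₀ * a₁) b₀, e', ← hus]
    group
  have hc2 : c * c = 1 := by
    simp only [hcd, mul_assoc, huu]
    rw [← mul_assoc b₀, hb₀₀, one_mul, hu2]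
  have hσc : x * c * x⁻¹ = u * (b₀ * b₁) * u := by
    rw [← hσb₁]
    calc x * c * x⁻¹ = u * (u * x * u) * b₀ * (u * x * u)⁻¹ * u := by
          rw [hcd, mul_inv_rev, mul_inv_rev, hui]; simp only [mul_assoc, huu, hu2, mul_one]
      _ = u * (x⁻¹ * b₀ * x) * u := by rw [hux, inv_inv]; group
      _ = _ := by
          rw [hb₁d, show x * (x * b₀ * x⁻¹) * x⁻¹ = x * x * b₀ * (x * x)⁻¹ by group, ← hxi, inv_inv]
  have hσσc : x * (x * c * x⁻¹) * x⁻¹ = u * b₁ * u := by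
    rw [hσc]
    calc x * (u * (b₀ * b₁) * u) * x⁻¹ = u * (u * x * u) * (b₀ * b₁) * (u * x * u)⁻¹ * u := by
          rw [mul_inv_rev, mul_inv_rev, hui]; simp only [mul_assoc, huu, hu2, mul_one]
      _ = u * (x⁻¹ * (x * b₁ * x⁻¹) * x) * u := by rw [hux, inv_inv, hσb₁]; group
      _ = u * b₁ * u := by group
  have hprod : c * (x * c * x⁻¹) * (x * (x * c * x⁻¹) * x⁻¹) = 1 := by
    rw [hσσc, hσc]
    simp only [hcd, mul_assoc, huu]
    rw [← mul_assoc b₀ b₀, hb₀₀, one_mul, ← mul_assoc b₁ b₁, hb₁₁, one_mul, hu2]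
  obtain ⟨⟨e, p, q, m, n⟩, hv⟩ := (hQ c).1 hcQ
  have hσ : ∀ (y : G), y * x = x * y → True := fun _ _ => trivial
  obtain ⟨δ, hδ⟩ : ∃ δ : Bool, c = cond δ (s * a₀) 1 * b₀ := by
    have h1 := R.signs e p q m n
    rw [hv] at h1
    have hn : n = false := R.sign_inj (y := c * a₀) (b := false) (by rw [cond_false, one_mul]; exact h1.1.symm.trans hca₀)
    have hm : m = true := R.sign_inj (y := c * a₁) (b := true) (h1.2.1.symm.trans hca₁)
    subst hn; subst hm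
    have hcv : c = cond e s 1 * (cond p a₀ 1 * cond q a₁ 1) * b₀ := by
      rw [← hv]; simp [qw, hP]
    have C1 : ∀ y : G, b₀ * (a₀ * y) = a₀ * (b₀ * y) := fun y => by rw [← mul_assoc, hb₀a₀, mul_assoc]
    have C2 : ∀ y : G, b₀ * (a₁ * y) = s * (a₁ * (b₀ * y)) := fun y => by
      rw [← mul_assoc, hb₀a₁, mul_assoc, mul_assoc]
    have S : ∀ g ∈ Q, ∀ y : G, g * (s * y) = s * (g * y) := fun g hg y => by
      rw [← mul_assoc, H.comm_s g hg, mul_assoc]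
    have A1 : ∀ y : G, a₁ * (a₀ * y) = a₀ * (a₁ * y) := fun y => by rw [← mul_assoc, ha₀₁, mul_assoc]
    have B1 : ∀ y : G, b₁ * (b₀ * y) = b₀ * (b₁ * y) := fun y => by rw [← mul_assoc, hb₀₁, mul_assoc]
    have C3 : ∀ y : G, b₁ * (a₁ * y) = a₁ * (b₁ * y) := fun y => by rw [← mul_assoc, hb₁a₁, mul_assoc]
    have C4 : ∀ y : G, b₁ * (a₀ * y) = s * (a₀ * (b₁ * y)) := fun y => by
      rw [← mul_assoc, hb₁a₀, mul_assoc, mul_assoc]
    have I : ∀ g : G, g * g = 1 → ∀ y, g * (g * y) = y := fun g hg y => by rw [← mul_assoc, hg, one_mul]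
    have hq : q = false := by
      cases q
      · rfl
      · exfalso
        rw [hcv] at hc2
        refine H.s_ne ?_
        rw [← hc2]
        cases e <;> cases p <;>
          simp [mul_assoc, C1, C2, S a₀ ha₀, S a₁ ha₁, S b₀ hb₀, A1, I _ ha₀₀, I _ ha₁₁, I _ H.s_sq, hb₀₀, ha₁₁, ha₀₀, H.s_sq]
    subst hq
    refine ⟨p, ?_⟩
    have hep : e = p := by
      rw [hcv] at hprod
      have hσa : ∀ y : G, x * (a₀ * y) = a₁ * (x * y) := fun y => by rw [ha₁d]; group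
      have hσa' : ∀ y : G, x * (a₁ * y) = a₀ * (a₁ * (x * y)) := fun y => by
        rw [← mul_assoc a₀, ← hσa₁]; group
      have hσb : ∀ y : G, x * (b₀ * y) = b₁ * (x * y) := fun y => by rw [hb₁d]; group
      have hσb' : ∀ y : G, x * (b₁ * y) = b₀ * (b₁ * (x * y)) := fun y => by
        rw [← mul_assoc b₀, ← hσb₁]; group
      have hσs' : ∀ y : G, x * (s * y) = s * (x * y) := fun y => by rw [← mul_assoc, hx, mul_assoc]
      cases e <;> cases p <;> try rfl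
      all_goals
        exfalso
        refine H.s_ne ?_
        rw [← hprod]
        simp [mul_assoc, C1, C2, C3, C4, S a₀ ha₀, S a₁ ha₁, S b₀ hb₀, S b₁ hb₁, A1, B1, I _ ha₀₀, I _ ha₁₁,
          I _ hb₀₀, I _ hb₁₁, I _ H.s_sq, ha₀₀, ha₁₁, hb₀₀, hb₁₁, hσa, hσa', hσb, hσb', hσs']
    rw [hcv, hep]
    cases p <;> simp
  have hub₀ : u * b₀ = cond δ (s * a₀) 1 * b₀ * u := by
    rw [← hδ, hcd, mul_assoc, hu2, mul_one]
  have hub₁ : u * b₁ = cond δ (s * (a₀ * a₁)) 1 * (b₀ * b₁) * u := by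
    have h := hσσc
    rw [hδ] at h
    have e : x * (x * (cond δ (s * a₀) 1 * b₀) * x⁻¹) * x⁻¹ = cond δ (s * (a₀ * a₁)) 1 * (b₀ * b₁) := by
      rw [← hσa₁, ← hσb₁, hb₁d, ha₁d]
      cases δ
      · simp
      · simp only [cond_true]
        calc x * (x * (s * a₀ * b₀) * x⁻¹) * x⁻¹
            = x * (x * s * x⁻¹) * x⁻¹ * (x * (x * a₀ * x⁻¹) * x⁻¹) * (x * (x * b₀ * x⁻¹) * x⁻¹) := by group
          _ = _ := by rw [hσs, hσs]
    rw [e] at h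
    rw [h, mul_assoc, hu2, mul_one]
  have hQR : Rels P δ :=
    { ss := H.s_sq, sa₀ := hsa₀, sa₁ := R.sa₁, sb₀ := R.sb₀, sb₁ := R.sb₁, su := hus.symm, sx := hx.symm,
      a₀₀ := ha₀₀, a₁₁ := ha₁₁, a₀₁ := ha₀₁, b₀₀ := hb₀₀, b₁₁ := hb₁₁, b₀₁ := hb₀₁, b₀a₀ := hb₀a₀,
      b₁a₁ := hb₁a₁, b₀a₁ := hb₀a₁, b₁a₀ := hb₁a₀,
      xa₀ := by show x * a₀ = a₁ * x; rw [ha₁d]; group
      xa₁ := by show x * a₁ = a₀ * a₁ * x; rw [← hσa₁]; group
      xb₀ := by show x * b₀ = b₁ * x; rw [hb₁d]; group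
      xb₁ := by show x * b₁ = b₀ * b₁ * x; rw [← hσb₁]; group
      uu := hu2, xxx := cube hx3
      xu := by
        show x * u = u * (x * x)
        rw [← hxi, ← hux]; simp only [mul_assoc, huu]
      ua₀ := hua₀
      ua₁ := by show u * a₁ = a₀ * a₁ * u; rw [← hua₁, mul_assoc, hu2, mul_one]
      ub₀ := hub₀, ub₁ := hub₁ }
  have hPs : P.s = s := rfl
  have hone : P.el 1 = s := by
    show P.W (true, false, false, false, false, false, 0) = s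
    simp [Gens.W, hP]
  have hzero : ∀ i < 192, P.el i = 1 → i = 0 := by
    intro i hi h
    rw [Gens.el] at h
    obtain ⟨e', p', q', m', n', l, k, hv'⟩ : ∃ e' p' q' m' n' l k, dec i = (e', p', q', m', n', l, k) :=
      ⟨_, _, _, _, _, _, _, rfl⟩
    have hk : k < 3 := by
      have : k = i / 64 := by rw [dec] at hv'; simp only [Prod.mk.injEq] at hv'; omega
      omega
    rw [hv'] at h
    have ht : cond l u 1 * x ^ k ∈ Q := by
      have hq : qw P (e', p', q', m', n') ∈ Q := (hQ _).2 ⟨_, rfl⟩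
      rw [show cond l u 1 * x ^ k = (qw P (e', p', q', m', n'))⁻¹ from eq_inv_of_mul_eq_one_right h]
      exact Q.inv_mem hq
    have hxQ : x ∉ Q := fun hxQ => by
      rcases H.sq x hxQ with e | e
      · rw [← pow_two] at e; have := orderOf_dvd_of_pow_eq_one e; rw [hx3] at this; norm_num at this
      · have hx4 : x ^ 4 = 1 := by
          rw [pow_succ, pow_three, mul_assoc, mul_assoc, ← mul_assoc x x (x * x), e, H.s_sq]
        have := orderOf_dvd_of_pow_eq_one hx4; rw [hx3] at this; norm_num at this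
    have hkl : l = false ∧ k = 0 := by
      have hxq : x * x ∈ Q → x ∈ Q := fun hh => by rw [← hxi] at hh; exact Q.inv_mem_iff.1 hh
      have hcn : ∀ y ∈ Q, u * y * u ∈ Q := fun y hy => by
        have := H.norm u hus y hy; rwa [hui] at this
      interval_cases k <;> cases l <;> simp only [cond_true, cond_false, pow_zero, pow_one, pow_two, one_mul,
        mul_one] at ht
      · exact ⟨rfl, rfl⟩
      · exact absurd ht huQ
      · exact absurd ht hxQ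
      · refine absurd (hxq ?_) hxQ
        have := Q.mul_mem (hcn _ ht) ht
        simpa only [mul_assoc, huu] using this
      · exact absurd (hxq ht) hxQ
      · refine absurd ?_ hxQ
        have := Q.mul_mem (hcn _ ht) ht
        simp only [mul_assoc, huu] at this
        rwa [show x * (x * (x * x)) = x * x * x * x by group, cube hx3, one_mul] at this
    obtain ⟨rfl, rfl⟩ := hkl
    have hz : qw P (e', p', q', m', n') = qw P (false, false, false, false, false) := by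
      simp only [Gens.W, pow_zero, cond_false, mul_one] at h
      rw [qw]; exact h.trans (by simp [qw])
    have hz' := R.qw_inj hz
    simp only [Prod.mk.injEq] at hz'
    obtain ⟨rfl, rfl, rfl, rfl, rfl⟩ := hz'
    have hd : ∀ i < 192, dec i = (false, false, false, false, false, false, 0) → i = 0 := by
      set_option synthInstance.maxSize 4000 in decide +kernel
    exact hd i hi hv'
  have hinj : ∀ i < 192, ∀ j < 192, P.el i = P.el j → i = j := by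
    intro i hi j hj h
    obtain ⟨hiv, hiv0, -⟩ := (chk_iv δ).1 i hi
    refine (chk_iv δ).2 i hi j hj ?_
    refine hzero _ (hQR.el_mul hj).2 ?_
    rw [← (hQR.el_mul hj).1, ← h, (hQR.el_mul hi).1, hiv0, hQR.el_zero]
  have hmem : ∀ i < 192, P.el i ∈ centralizer ({s} : Set G) := fun i hi => by
    rw [mem_centralizer_singleton_iff, ← hone, (hQR.el_mul (show 1 < 192 by norm_num)).1,
      (hQR.el_mul hi).1, ((chk_iv δ).1 i hi).2.2]
  have hQel : ∀ y, y ∈ Q ↔ ∃ i < 32, P.el i = y := by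
    have hd : ∀ i < 32, ∃ e p q m n : Bool, dec i = (e, p, q, m, n, false, 0) := by
      set_option synthInstance.maxSize 4000 in decide +kernel
    refine fun y => ⟨fun hy => ?_, ?_⟩
    · obtain ⟨v, hv⟩ := (hQ y).1 hy
      obtain ⟨i, hi, he⟩ := el_of_bits P v
      exact ⟨i, hi, he.trans hv⟩
    · rintro ⟨i, hi, rfl⟩
      obtain ⟨e', p', q', m', n', he⟩ := hd i hi
      refine (hQ _).2 ⟨(e', p', q', m', n'), ?_⟩
      rw [Gens.el, he]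
      simp [Gens.W, qw]
  refine ⟨P, δ, rfl, ⟨hQR, fun y => ⟨fun hy => ?_,
    fun ⟨i, hi, h⟩ => h ▸ mem_centralizer_singleton_iff.1 (hmem i hi)⟩, hinj, ?_, ?_⟩, hQel⟩
  · have hb : Function.Bijective (fun i : Fin 192 => (⟨P.el i, hmem i i.2⟩ : centralizer ({s} : Set G))) :=
      (Nat.bijective_iff_injective_and_card _).2 ⟨fun i j h => Fin.ext (hinj _ i.2 _ j.2 (congrArg Subtype.val h)),
        by rw [H.card_cent, Nat.card_fin]⟩
    obtain ⟨i, hi⟩ := hb.2 ⟨y, mem_centralizer_singleton_iff.2 hy⟩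
    exact ⟨i, i.2, congrArg Subtype.val hi⟩
  · rcases hza' with e | e
    · exact isConj_iff.2 ⟨g, by show g * s * g⁻¹ = a₀; rw [e, hr]⟩
    · refine isConj_iff.2 ⟨b₁ * g, ?_⟩
      show b₁ * g * s * (b₁ * g)⁻¹ = a₀
      calc b₁ * g * s * (b₁ * g)⁻¹ = b₁ * r * b₁⁻¹ := by rw [hr]; group
        _ = b₁ * (s * a₀) * b₁⁻¹ := by rw [e, ← mul_assoc s s, H.s_sq, one_mul]
        _ = s * (b₁ * a₀) * b₁⁻¹ := by rw [← mul_assoc b₁ s, H.comm_s b₁ hb₁]; group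
        _ = a₀ := by rw [hb₁a₀, ← mul_assoc, ← mul_assoc, H.s_sq, one_mul, mul_inv_cancel_right]
  · refine ⟨g, ?_, ?_, ?_⟩
    · rcases hza' with e | e
      · exact Or.inl (hr.symm.trans e.symm)
      · exact Or.inr (by show g * s * g⁻¹ = s * a₀; rw [← hr, e, ← mul_assoc, H.s_sq, one_mul])
    · obtain ⟨v, hv⟩ := (hQ _).1 hsg
      obtain ⟨i, hi, he⟩ := el_of_bits P v
      exact ⟨i, hi, he.trans hv⟩
    · obtain ⟨v, hv⟩ := (hQ _).1 hug
      obtain ⟨i, hi, he⟩ := el_of_bits P v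
      exact ⟨i, hi, he.trans hv⟩

end Hyp

end Cfsg.Agent.S3Extra
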