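import Cfsg.Agent.Lib.S3Extra.NormE
import Cfsg.Agent.Lib.Involutions.Basic

/-!
The classes of involutions for the first type: every involution of the centraliser is conjugate to the involution or
to one of two further representatives.
-/

set_option autoImplicit false
set_option synthInstance.maxSize 100000

namespace Cfsg.Agent.S3Extra

open Subgroup

variable {G : Type*} [Group G]

/-- The change of generators exchanging the two outer classes. -/
def flipU : Seven := (1, 2, 4, 8, 16, 33, 64)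
/-- The change of generators exchanging the two further classes in `Q`. -/
def flipB : Seven := (1, 2, 4, 11, 21, 32, 64)
/-- The change of generators exchanging the first two classes in `Q`. -/
def flipAB : Seven := (1, 8, 16, 2, 4, 32, 64)

theorem ok_flips : okSeven flipU = true ∧ okSeven flipB = true ∧ okSeven flipAB = true := by decide +kernel

theorem sg_flips :
    (sg flipU 2 = 2 ∧ sg flipU 8 = 8 ∧ sg flipU 11 = 11 ∧ sg flipU 32 = 33 ∧ sg flipU 33 = 32) ∧
    (sg flipB 2 = 2 ∧ sg flipB 8 = 11 ∧ sg flipB 11 = 8 ∧ sg flipB 32 = 32 ∧ sg flipB 33 = 33) ∧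
    (sg flipAB 2 = 8 ∧ sg flipAB 8 = 2 ∧ sg flipAB 11 = 11 ∧ sg flipAB 32 = 32 ∧ sg flipAB 33 = 33) ∧
    ∀ i < 192, i < 8 → sg flipB i < 8 := by decide +kernel

theorem chk_classes : ∀ i < 192, isInv i = true →
    ∃ y < 192, cj y i = 1 ∨ cj y i = 2 ∨ cj y i = 8 ∨ cj y i = 11 ∨ cj y i = 32 ∨ cj y i = 33 := by
  decide +kernel

theorem chk_outer : (∃ y < 192, cj y 34 = 32) ∧ (∃ y < 192, cj y 35 = 33) ∧
    Tc (Tc 1 2) 8 = 11 ∧ Tc (Tc 2 1) 32 = 35 ∧ Tc (Tc 2 1) 33 = 34 ∧ Tc (Tc 2 1) 34 = 33 ∧ Tc (Tc 2 1) 35 = 32 := by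
  decide +kernel

namespace CType

variable {Q : Subgroup G} {P : Gens G} (C : CType Q P)
include C

theorem orderOf_el {i : ℕ} (hi : i < 192) : orderOf (P.el i) = 2 ↔ isInv i = true := by
  haveI : Fact (Nat.Prime 2) := ⟨Nat.prime_two⟩
  rw [orderOf_eq_prime_iff, C.isInv_iff hi, pow_two, and_comm]

theorem el_wit {i j : ℕ} (hi : i < 192) (h : ∃ y < 192, cj y i = j) : IsConj (P.el i) (P.el j) :=
  let ⟨_, hy, e⟩ := h
  C.conj_of_wit hi hy e

/-- The two outer representatives are fused with the two further inner ones. -/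
theorem pairing [Finite G] : (IsConj (P.el 8) (P.el 32) ∧ IsConj (P.el 11) (P.el 33)) ∨
    (IsConj (P.el 8) (P.el 33) ∧ IsConj (P.el 11) (P.el 32)) := by
  obtain ⟨w, -, h1, h2, i, hi, h3⟩ := C.exists_swap
  have a8 : IsConj (P.el 8) (P.el i) := isConj_iff.2 ⟨w, h3⟩
  have a11 : IsConj (P.el 11) (P.el (Tc (Tc 2 1) i)) := by
    refine isConj_iff.2 ⟨w, ?_⟩
    have hi' : i < 192 := by rcases hi with rfl | rfl | rfl | rfl <;> norm_num
    rw [← chk_outer.2.2.1, ← C.mul (show 8 < 192 by norm_num), ← C.mul (show 2 < 192 by norm_num), el_one,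
      ← C.mul hi', ← C.mul (show 1 < 192 by norm_num), el_one]
    calc w * (P.s * P.el 2 * P.el 8) * w⁻¹ = w * P.s * w⁻¹ * (w * P.el 2 * w⁻¹) * (w * P.el 8 * w⁻¹) := by group
      _ = _ := by rw [h1, h2, h3]
  obtain ⟨c34, c35, -, t32, t33, t34, t35⟩ := chk_outer
  have e34 := C.el_wit (show 34 < 192 by norm_num) c34
  have e35 := C.el_wit (show 35 < 192 by norm_num) c35
  rcases hi with rfl | rfl | rfl | rfl
  · exact Or.inl ⟨a8, (t32 ▸ a11).trans e35⟩
  · exact Or.inr ⟨a8, (t33 ▸ a11).trans e34⟩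
  · exact Or.inl ⟨a8.trans e34, t34 ▸ a11⟩
  · exact Or.inr ⟨a8.trans e35, t35 ▸ a11⟩

theorem invol_L [Finite G] {i : ℕ} (hi : i < 192) (h : isInv i = true) :
    IsConj P.s (P.el i) ∨ IsConj (P.el 8) (P.el i) ∨ IsConj (P.el 11) (P.el i) := by
  obtain ⟨y, hy, hc⟩ := chk_classes i hi h
  have hw := C.conj_of_wit hi hy rfl
  rcases hc with e | e | e | e | e | e <;> rw [e] at hw
  · rw [el_one] at hw; exact Or.inl hw.symm
  · exact Or.inl (C.fused.trans hw.symm)
  · exact Or.inr (Or.inl hw.symm)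
  · exact Or.inr (Or.inr hw.symm)
  · rcases C.pairing with ⟨h1, -⟩ | ⟨-, h2⟩
    · exact Or.inr (Or.inl (h1.trans hw.symm))
    · exact Or.inr (Or.inr (h2.trans hw.symm))
  · rcases C.pairing with ⟨-, h2⟩ | ⟨h1, -⟩
    · exact Or.inr (Or.inr (h2.trans hw.symm))
    · exact Or.inr (Or.inl (h1.trans hw.symm))

/-- An involution commuting with the central one. -/
theorem invol_cases [Finite G] {z : G} (hz : orderOf z = 2) (hc : z * P.s = P.s * z) :
    IsConj P.s z ∨ IsConj (P.el 8) z ∨ IsConj (P.el 11) z := by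
  obtain ⟨i, hi, rfl⟩ := (C.mem z).1 hc
  exact C.invol_L hi ((C.orderOf_el hi).1 hz)

theorem two_el {i : ℕ} (hi : i < 192) (h : isInv i = true) : orderOf (P.el i) = 2 := (C.orderOf_el hi).2 h

end CType

end Cfsg.Agent.S3Extra
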