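import Cfsg.Agent.Lib.S3Extra.CaseZero

/-!
The elementary abelian subgroup of order sixteen in a Sylow 2-subgroup of the centraliser, and its normaliser.
-/

set_option autoImplicit false
set_option synthInstance.maxSize 100000
set_option linter.style.haveILetI false

namespace Cfsg.Agent.S3Extra

open Subgroup

variable {G : Type*} [Group G]

/-- The indices of the subgroup of order sixteen. -/
def inA (i : ℕ) : Bool := Nat.blt i 64 && Nat.beq (i / 4 % 2) 0 && Nat.beq (i / 16 % 2) 0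

theorem chk_A :
    (∀ i < 64, inA i = true → ∀ j < 64, inA j = true → inA (Tc i j) = true ∧ cm i j = true) ∧
    (∀ i < 64, inA i = true → Tc i i = 0) ∧
    (∀ i < 192, ((∀ j < 64, inA j = true → inA (cj i j) = true) ↔ i < 64)) ∧
    (∀ i < 192, cm i 1 = true → cm i 2 = true → Tc i i = 0 → inA i = false →
      (List.range 192).countP (fun j => cm j 1 && cm j 2 && cm j i) < 16) ∧
    (∀ i < 64, inA i = true → cm i 2 = true ∧ cm i 1 = true) ∧
    (List.range 192).countP inA = 16 ∧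
    (∀ i < 64, inA i = true → i ≠ 0 →
      ∃ y < 64, cj y i = 1 ∨ cj y i = 2 ∨ cj y i = 8 ∨ cj y i = 11 ∨ cj y i = 32 ∨ cj y i = 33) ∧
    (∀ i < 192, inA i = true → i < 64) ∧
    (∀ i < 64, sg flipAB i < 64 ∧ inA (sg flipAB i) = inA i) ∧ (∀ i < 64, sg flipB i < 64 ∧ inA (sg flipB i) = inA i) ∧
    (∀ i < 64, sg flipU i < 64 ∧ inA (sg flipU i) = inA i) ∧
    (∀ k < 8, 4 ≤ k → inA (Tc k 4) = true) ∧ sg flipAB 4 = 16 := by
  decide +kernel

/-- The elements with indices in the set. -/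
def aSet (P : Gens G) : Set G := {x | ∃ i < 64, inA i = true ∧ P.el i = x}

/-- The subgroup of order sixteen. -/
def A16 (P : Gens G) : Subgroup G := closure (aSet P)

namespace CType

variable {Q : Subgroup G} {P : Gens G} (C : CType Q P)
include C

theorem mem_A {x : G} : x ∈ A16 P ↔ ∃ i < 64, inA i = true ∧ P.el i = x := by
  refine ⟨fun hx => ?_, fun h => subset_closure h⟩
  induction hx using closure_induction with
  | mem x h => exact h
  | one => exact ⟨0, by norm_num, rfl, C.rels.el_zero⟩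
  | mul x y _ _ hx hy =>
    obtain ⟨i, hi, hi', rfl⟩ := hx
    obtain ⟨j, hj, hj', rfl⟩ := hy
    obtain ⟨h, -⟩ := chk_A.1 i hi hi' j hj hj'
    exact ⟨Tc i j, chk_A.2.2.2.2.2.2.2.1 _ (C.lt (by omega)) h, h, (C.mul (by omega)).symm⟩
  | inv x _ hx =>
    obtain ⟨i, hi, hi', rfl⟩ := hx
    exact ⟨i, hi, hi', (inv_eq_of_mul_eq_one_right ((C.sq_iff (by omega)).2 (chk_A.2.1 i hi hi'))).symm⟩

theorem A_change {v : Seven} (hv : okSeven v = true) (hf : IsConj P.s (P.el (sg v 2)))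
    (hA : ∀ i < 64, sg v i < 64 ∧ inA (sg v i) = inA i) : A16 (P.change v) = A16 P := by
  obtain ⟨C', hel⟩ := C.change v hv hf
  have hinv : ∀ i < 192, sg v (sg v i) = i := by
    intro i hi
    obtain ⟨s, a₀, a₁, b₀, b₁, u, x⟩ := v
    simp only [okSeven, Bool.and_eq_true, List.all_eq_true, List.mem_range, Nat.beq_eq] at hv
    exact (hv.2 i hi).1.2
  ext y
  rw [C'.mem_A, C.mem_A]
  constructor
  · rintro ⟨i, hi, hi', rfl⟩
    exact ⟨sg v i, (hA i hi).1, by rw [(hA i hi).2, hi'], (hel i).symm⟩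
  · rintro ⟨i, hi, hi', rfl⟩
    exact ⟨sg v i, (hA i hi).1, by rw [(hA i hi).2, hi'], by rw [hel, hinv i (by omega)]⟩

theorem el_mem_normA [Finite G] {i : ℕ} (hi : i < 192) :
    P.el i ∈ normalizer (A16 P : Set G) ↔ i < 64 := by
  rw [← chk_A.2.2.1 i hi]
  constructor
  · intro h j hj hj'
    obtain ⟨k, hk, hk', hke⟩ := C.mem_A.1 ((mem_normalizer_iff.1 h _).1 (C.mem_A.2 ⟨j, hj, hj', rfl⟩))
    rw [(C.el_conj hi (by omega)).1, C.eq_iff (by omega) (C.el_conj hi (show j < 192 by omega)).2] at hke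
    rwa [← hke]
  · intro h
    refine mem_normalizer_fintype fun x hx => ?_
    obtain ⟨j, hj, hj', rfl⟩ := C.mem_A.1 hx
    have hl := (C.el_conj hi (show j < 192 by omega))
    exact C.mem_A.2 ⟨cj i j, chk_A.2.2.2.2.2.2.2.1 _ hl.2 (h j hj hj'), h j hj hj', hl.1.symm⟩

/-- An element carrying the line of the fused pair to itself normalises the subgroup. -/
theorem mem_normA [Finite G] {w : G} {i j : ℕ} (hi : i = 1 ∨ i = 2 ∨ i = 3) (hj : j = 1 ∨ j = 2 ∨ j = 3)
    (hij : i ≠ j) (h1 : w * P.s * w⁻¹ = P.el i) (h2 : w * P.el 2 * w⁻¹ = P.el j) :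
    w ∈ normalizer (A16 P : Set G) := by
  let φ := MulAut.conj w
  have hbase : ∀ k < 64, inA k = true → φ (P.el k) * P.el 1 = P.el 1 * φ (P.el k) ∧
      φ (P.el k) * P.el 2 = P.el 2 * φ (P.el k) := by
    intro k hk hk'
    obtain ⟨c2, c1⟩ := chk_A.2.2.2.2.1 k hk hk'
    have d1 : φ (P.el k) * P.el i = P.el i * φ (P.el k) := by
      rw [← h1, ← el_one P]
      show φ _ * φ _ = φ _ * φ _
      rw [← map_mul, ← map_mul, (C.comm_iff (by omega) (by norm_num)).2 c1]
    have d2 : φ (P.el k) * P.el j = P.el j * φ (P.el k) := by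
      rw [← h2]
      show φ _ * φ _ = φ _ * φ _
      rw [← map_mul, ← map_mul, (C.comm_iff (by omega) (by norm_num)).2 c2]
    have d12 : φ (P.el k) * (P.el i * P.el j) = P.el i * P.el j * φ (P.el k) :=
      (Commute.mul_right (show Commute (φ (P.el k)) (P.el i) from d1) d2).eq
    have e12 : Tc 1 2 = 3 ∧ Tc 2 1 = 3 ∧ Tc 1 3 = 2 ∧ Tc 3 1 = 2 ∧ Tc 2 3 = 1 ∧ Tc 3 2 = 1 := by decide +kernel
    rw [C.mul (show j < 192 by omega)] at d12
    rcases hi with rfl | rfl | rfl <;> rcases hj with rfl | rfl | rfl <;>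
      (try simp only [e12.1, e12.2.1, e12.2.2.1, e12.2.2.2.1, e12.2.2.2.2.1, e12.2.2.2.2.2] at d12) <;>
      first | exact absurd rfl hij | exact ⟨d1, d2⟩ | exact ⟨d2, d1⟩ | exact ⟨d1, d12⟩ | exact ⟨d12, d1⟩ |
        exact ⟨d2, d12⟩ | exact ⟨d12, d2⟩
  refine mem_normalizer_fintype fun x hx => ?_
  obtain ⟨k, hk, hk', rfl⟩ := C.mem_A.1 hx
  show φ (P.el k) ∈ A16 P
  obtain ⟨c1, c2⟩ := hbase k hk hk'
  rw [el_one] at c1
  obtain ⟨m, hm, hme⟩ := (C.mem _).1 c1
  cases hA : inA m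
  swap
  · exact C.mem_A.2 ⟨m, chk_A.2.2.2.2.2.2.2.1 m hm hA, hA, hme⟩
  exfalso
  have hm1 : cm m 1 = true := (C.comm_iff hm (by norm_num)).1 (by rw [el_one]; exact C.el_comm hm)
  have hm2 : cm m 2 = true := (C.comm_iff hm (by norm_num)).1 (by rw [hme]; exact c2)
  have hmm : Tc m m = 0 := (C.sq_iff hm).1 (by
    rw [hme, ← map_mul, (C.sq_iff (by omega)).2 (chk_A.2.1 k hk hk'), map_one])
  have hlt := chk_A.2.2.2.1 m hm hm1 hm2 hmm hA
  have hex : ∀ l : {l : ℕ // l < 192 ∧ inA l = true}, ∃ n : {n : ℕ // n < 192 ∧ (cm n 1 && cm n 2 && cm n m) = true},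
      P.el n.1 = φ (P.el l.1) := by
    rintro ⟨l, hl, hl'⟩
    have hl64 := chk_A.2.2.2.2.2.2.2.1 l hl hl'
    obtain ⟨d1, d2⟩ := hbase l hl64 hl'
    rw [el_one] at d1
    obtain ⟨n, hn, hne⟩ := (C.mem _).1 d1
    refine ⟨⟨n, hn, ?_⟩, hne⟩
    simp only [Bool.and_eq_true]
    refine ⟨⟨(C.comm_iff hn (by norm_num)).1 (by rw [el_one]; exact C.el_comm hn),
      (C.comm_iff hn (by norm_num)).1 (by rw [hne]; exact d2)⟩, (C.comm_iff hn hm).1 ?_⟩
    rw [hne, hme, ← map_mul, ← map_mul, (C.comm_iff hl (by omega)).2 (chk_A.1 l hl64 hl' k hk hk').2]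
  choose f hf using hex
  have hinj : Function.Injective f := fun a b h => Subtype.ext (C.inj _ a.2.1 _ b.2.1 (φ.injective (by
    rw [← hf a, ← hf b, h])))
  haveI : Finite {n : ℕ // n < 192 ∧ (cm n 1 && cm n 2 && cm n m) = true} :=
    Finite.of_injective (fun n => (⟨n.1, n.2.1⟩ : Fin 192)) fun a b h => Subtype.ext (Fin.mk.inj_iff.1 h)
  have := Nat.card_le_card_of_injective f hinj
  rw [M12Cent.card_range_filter, M12Cent.card_range_filter, chk_A.2.2.2.2.2.1] at this
  omega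

/-- An element of the normaliser permuting three points cyclically. -/
theorem exists_three [Finite G] : ∃ w ∈ normalizer (A16 P : Set G),
    (∀ k : ℕ, w ^ k ∈ A16 P → 3 ∣ k) ∧ w * P.el 4 * w⁻¹ * P.el 4 ∈ A16 P := by
  obtain ⟨w, hw, h1, h2⟩ := C.exists_pair (i := 2) (j := 3) (by norm_num) (by norm_num) (by norm_num) (by norm_num)
    (by norm_num)
  have e3 : P.el 3 = P.s * P.el 2 := by
    rw [← el_one P, C.mul (by norm_num)]; exact congrArg P.el (show 3 = Tc 1 2 by decide +kernel)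
  let φ := MulAut.conj w
  have p1 : φ P.s = P.el 2 := h1
  have p2 : φ (P.el 2) = P.el 3 := h2
  have p3 : φ (P.el 3) = P.s := by
    rw [e3, map_mul, p1, p2, C.mul (by norm_num), show Tc 2 3 = 1 by decide +kernel, el_one]
  refine ⟨w, C.mem_normA (Or.inr (Or.inl rfl)) (Or.inr (Or.inr rfl)) (by norm_num) h1 h2, fun k hk => ?_, ?_⟩
  · have hfix : MulAut.conj (w ^ k) P.s = P.s := by
      obtain ⟨i, hi, hi', hie⟩ := C.mem_A.1 hk
      rw [← hie, MulAut.conj_apply, ← el_one P,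
        (C.comm_iff (by omega) (by norm_num)).2 (chk_A.2.2.2.2.1 i hi hi').2, mul_inv_cancel_right]
    have hmod : ∀ k : ℕ, MulAut.conj (w ^ (k + 3)) P.s = MulAut.conj (w ^ k) P.s := fun k => by
      rw [pow_add, map_mul, MulAut.mul_apply, show MulAut.conj (w ^ 3) = φ * (φ * φ) by
        rw [pow_three, map_mul, map_mul], MulAut.mul_apply, MulAut.mul_apply, p1, p2, p3]
    have hall : ∀ q r : ℕ, MulAut.conj (w ^ (r + 3 * q)) P.s = MulAut.conj (w ^ r) P.s := by
      intro q r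
      induction q with
      | zero => rfl
      | succ q ih => rw [show r + 3 * (q + 1) = r + 3 * q + 3 by ring, hmod, ih]
    rw [← Nat.mod_add_div k 3, hall] at hfix
    have hne : (2 : ℕ) ≠ 1 ∧ (3 : ℕ) ≠ 1 := by norm_num
    rcases (show k % 3 = 0 ∨ k % 3 = 1 ∨ k % 3 = 2 by omega) with e | e | e
    · exact Nat.dvd_of_mod_eq_zero e
    · rw [e, pow_one, show MulAut.conj w P.s = P.el 2 from p1, ← el_one P,
        C.eq_iff (by norm_num) (by norm_num)] at hfix
      exact absurd hfix hne.1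
    · rw [e, pow_two, map_mul, MulAut.mul_apply, show MulAut.conj w P.s = P.el 2 from p1,
        show MulAut.conj w (P.el 2) = P.el 3 from p2, ← el_one P, C.eq_iff (by norm_num) (by norm_num)] at hfix
      exact absurd hfix hne.2
  · obtain ⟨k, hk, hke⟩ := C.mem_E.1 ((mem_normalizer_iff.1 hw _).1 (C.mem_E.2 ⟨4, by norm_num, rfl⟩))
    have hk4 : 4 ≤ k := by
      by_contra hlt
      have e0 : φ (P.el 4) = P.el k := hke.symm
      have e : ∃ j < 4, φ (P.el j) = P.el k := by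
        interval_cases k
        · exact ⟨0, by norm_num, by rw [C.rels.el_zero, map_one]⟩
        · exact ⟨3, by norm_num, by rw [el_one]; exact p3⟩
        · exact ⟨1, by norm_num, by rw [el_one]; exact p1⟩
        · exact ⟨2, by norm_num, p2⟩
      obtain ⟨j, hj, hje⟩ := e
      have := (C.eq_iff (show j < 192 by omega) (by norm_num)).1 (φ.injective (hje.trans e0.symm))
      omega
    rw [← hke, C.mul (by norm_num)]
    have h' := chk_A.2.2.2.2.2.2.2.2.2.2.2.1 k hk hk4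
    exact C.mem_A.2 ⟨_, chk_A.2.2.2.2.2.2.2.1 _ (C.lt (by norm_num)) h', h', rfl⟩

omit C in
theorem conj_mul' (m n g : G) : m * n * g * (m * n)⁻¹ = m * (n * g * n⁻¹) * m⁻¹ := by group

/-- From the involution to `el 2` inside the normaliser. -/
theorem exists_to_two [Finite G] : ∃ n ∈ normalizer (A16 P : Set G), n * P.s * n⁻¹ = P.el 2 := by
  obtain ⟨w, -, h1, h2⟩ := C.exists_pair (i := 2) (j := 1) (by norm_num) (by norm_num) le_rfl (by norm_num)
    (by norm_num)
  exact ⟨w, C.mem_normA (Or.inr (Or.inl rfl)) (Or.inl rfl) (by norm_num) h1 h2, h1⟩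

theorem exists_to_eight [Finite G] (h8 : IsConj P.s (P.el 8)) :
    ∃ n ∈ normalizer (A16 P : Set G), n * P.s * n⁻¹ = P.el 8 := by
  have hf : IsConj P.s (P.el (sg flipAB 2)) := by rwa [sg_flips.2.2.1.1]
  obtain ⟨C', hel⟩ := C.change flipAB ok_flips.2.2 hf
  obtain ⟨n, hn, he⟩ := C'.exists_to_two
  rw [C.A_change ok_flips.2.2 hf chk_A.2.2.2.2.2.2.2.2.1] at hn
  rw [hel, sg_flips.2.2.1.1, show (P.change flipAB).s = P.s from el_one P] at he
  exact ⟨n, hn, he⟩

theorem exists_to_eleven [Finite G] (h11 : IsConj P.s (P.el 11)) :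
    ∃ n ∈ normalizer (A16 P : Set G), n * P.s * n⁻¹ = P.el 11 := by
  have hf : IsConj P.s (P.el (sg flipB 2)) := by rw [sg_flips.2.1.1]; exact C.fused
  obtain ⟨C', hel⟩ := C.change flipB ok_flips.2.1 hf
  have hs : (P.change flipB).s = P.s := el_one P
  obtain ⟨n, hn, he⟩ := C'.exists_to_eight (by rwa [hel, sg_flips.2.1.2.1, hs])
  rw [C.A_change ok_flips.2.1 hf chk_A.2.2.2.2.2.2.2.2.2.1] at hn
  rw [hel, sg_flips.2.1.2.1, hs] at he
  exact ⟨n, hn, he⟩

/-- The normaliser moves the involution to every conjugate in the subgroup. -/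
theorem orbit_A [Finite G] (hnot : IsConj P.s (P.el 8)) {i : ℕ} (hi : i < 64) (hiA : inA i = true) (hi0 : i ≠ 0)
    (hc : IsConj P.s (P.el i)) : ∃ n ∈ normalizer (A16 P : Set G), n * P.s * n⁻¹ = P.el i := by
  obtain ⟨y, hy, hyc⟩ := chk_A.2.2.2.2.2.2.1 i hi hiA hi0
  have hy192 : y < 192 := by omega
  have hyN := (C.el_mem_normA hy192).2 hy
  obtain ⟨hce, hcl⟩ := C.el_conj hy192 (show i < 192 by omega)
  have hr : IsConj P.s (P.el (cj y i)) := hc.trans (isConj_iff.2 ⟨P.el y, hce⟩)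
  have back : ∀ n ∈ normalizer (A16 P : Set G), n * P.s * n⁻¹ = P.el (cj y i) →
      ∃ n ∈ normalizer (A16 P : Set G), n * P.s * n⁻¹ = P.el i := fun n hn he => by
    refine ⟨(P.el y)⁻¹ * n, mul_mem (inv_mem hyN) hn, ?_⟩
    rw [conj_mul', he, ← hce]; group
  obtain ⟨w, -, h1, h2, j, hj, h3⟩ := C.exists_swap
  have hwN := C.mem_normA (Or.inr (Or.inl rfl)) (Or.inl rfl) (by norm_num) h1 (by rw [el_one]; exact h2)
  obtain ⟨c34, c35, e11, t32, t33, t34, t35⟩ := chk_outer
  have y34 : ∃ y < 64, cj y 34 = 32 := by decide +kernel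
  have y35 : ∃ y < 64, cj y 35 = 33 := by decide +kernel
  have shift : ∀ {a b : ℕ}, a < 192 → (∃ y < 64, cj y a = b) → ∀ n ∈ normalizer (A16 P : Set G),
      n * P.s * n⁻¹ = P.el a → ∃ n ∈ normalizer (A16 P : Set G), n * P.s * n⁻¹ = P.el b := by
    rintro a b ha ⟨z, hz, rfl⟩ n hn he
    exact ⟨P.el z * n, mul_mem ((C.el_mem_normA (by omega)).2 hz) hn,
      by rw [conj_mul', he, (C.el_conj (by omega) ha).1]⟩
  obtain ⟨n8, hn8, he8⟩ := C.exists_to_eight hnot
  have via8 : ∃ n ∈ normalizer (A16 P : Set G), n * P.s * n⁻¹ = P.el j :=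
    ⟨w * n8, mul_mem hwN hn8, by rw [conj_mul', he8, h3]⟩
  have via11 : IsConj P.s (P.el 11) → ∃ n ∈ normalizer (A16 P : Set G), n * P.s * n⁻¹ = P.el (Tc (Tc 2 1) j) := by
    intro h
    obtain ⟨n, hn, he⟩ := C.exists_to_eleven h
    refine ⟨w * n, mul_mem hwN hn, ?_⟩
    have hj192 : j < 192 := by rcases hj with rfl | rfl | rfl | rfl <;> norm_num
    rw [conj_mul', he, ← e11, ← C.mul (show 8 < 192 by norm_num), ← C.mul (show 2 < 192 by norm_num), el_one,
      ← C.mul hj192, ← C.mul (show 1 < 192 by norm_num), el_one]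
    calc w * (P.s * P.el 2 * P.el 8) * w⁻¹ = w * P.s * w⁻¹ * (w * P.el 2 * w⁻¹) * (w * P.el 8 * w⁻¹) := by group
      _ = _ := by rw [h1, h2, h3]
  have a11 : IsConj (P.el 11) (P.el (Tc (Tc 2 1) j)) := by
    refine isConj_iff.2 ⟨w, ?_⟩
    have hj192 : j < 192 := by rcases hj with rfl | rfl | rfl | rfl <;> norm_num
    rw [← e11, ← C.mul (show 8 < 192 by norm_num), ← C.mul (show 2 < 192 by norm_num), el_one,
      ← C.mul hj192, ← C.mul (show 1 < 192 by norm_num), el_one]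
    calc w * (P.s * P.el 2 * P.el 8) * w⁻¹ = w * P.s * w⁻¹ * (w * P.el 2 * w⁻¹) * (w * P.el 8 * w⁻¹) := by group
      _ = _ := by rw [h1, h2, h3]
  rcases hyc with e | e | e | e | e | e <;> rw [e] at hr back
  · exact back 1 (one_mem _) (by rw [el_one]; group)
  · obtain ⟨n, hn, he⟩ := C.exists_to_two; exact back n hn he
  · exact back n8 hn8 he8
  · obtain ⟨n, hn, he⟩ := C.exists_to_eleven hr; exact back n hn he
  · rcases hj with rfl | rfl | rfl | rfl
    · obtain ⟨n, hn, he⟩ := via8; exact back n hn he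
    · rw [t33] at via11 a11
      obtain ⟨n, hn, he⟩ := via11 ((hr.trans (C.el_wit (by norm_num) c34).symm).trans a11.symm)
      obtain ⟨m, hm, hme⟩ := shift (by norm_num) y34 n hn he
      exact back m hm hme
    · obtain ⟨n, hn, he⟩ := via8
      obtain ⟨m, hm, hme⟩ := shift (by norm_num) y34 n hn he
      exact back m hm hme
    · rw [t35] at via11 a11
      obtain ⟨n, hn, he⟩ := via11 (hr.trans a11.symm); exact back n hn he
  · rcases hj with rfl | rfl | rfl | rfl
    · rw [t32] at via11 a11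
      obtain ⟨n, hn, he⟩ := via11 ((hr.trans (C.el_wit (by norm_num) c35).symm).trans a11.symm)
      obtain ⟨m, hm, hme⟩ := shift (by norm_num) y35 n hn he
      exact back m hm hme
    · obtain ⟨n, hn, he⟩ := via8; exact back n hn he
    · rw [t34] at via11 a11
      obtain ⟨n, hn, he⟩ := via11 (hr.trans a11.symm); exact back n hn he
    · obtain ⟨n, hn, he⟩ := via8
      obtain ⟨m, hm, hme⟩ := shift (by norm_num) y35 n hn he
      exact back m hm hme

end CType

end Cfsg.Agent.S3Extra
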