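import Cfsg.Agent.Lib.S3Extra.CType

/-!
The normaliser of the elementary abelian subgroup of order eight spanned by the column of the fused involution:
it is transitive on the seven involutions and has order 1344.
-/

set_option autoImplicit false
set_option synthInstance.maxSize 100000

namespace Cfsg.Agent.S3Extra

open Subgroup

variable {G : Type*} [Group G]

/-- The index of a product of powers of `1`, `p`, `q`. -/
def word3 (p q : ℕ) (a b c : Bool) : ℕ := Tc (Tc (cond a 1 0) (cond b p 0)) (cond c q 0)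

/-- Membership in the group spanned by `1`, `p`, `q`. -/
def inH (p q i : ℕ) : Bool :=
  Nat.beq i 0 || Nat.beq i 1 || Nat.beq i p || Nat.beq i (Tc 1 p) || Nat.beq i q || Nat.beq i (Tc 1 q) ||
    Nat.beq i (Tc p q) || Nat.beq i (Tc 1 (Tc p q))

theorem inH_word3 {p q i : ℕ} (hp : p < 32) (hq : q < 32) (h : inH p q i = true) :
    ∃ a b c, i = word3 p q a b c := by
  have key : ∀ p < 32, ∀ q < 32, word3 p q false false false = 0 ∧ word3 p q true false false = 1 ∧
      word3 p q false true false = p ∧ word3 p q true true false = Tc 1 p ∧ word3 p q false false true = q ∧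
      word3 p q true false true = Tc 1 q ∧ word3 p q false true true = Tc p q ∧
      word3 p q true true true = Tc 1 (Tc p q) := by decide +kernel
  obtain ⟨k0, k1, k2, k3, k4, k5, k6, k7⟩ := key p hp q hq
  simp only [inH, Bool.or_eq_true, Nat.beq_eq] at h
  rcases h with ((((((h | h) | h) | h) | h) | h) | h) | h <;> subst h
  exacts [⟨_, _, _, k0.symm⟩, ⟨_, _, _, k1.symm⟩, ⟨_, _, _, k2.symm⟩, ⟨_, _, _, k3.symm⟩, ⟨_, _, _, k4.symm⟩,
    ⟨_, _, _, k5.symm⟩, ⟨_, _, _, k6.symm⟩, ⟨_, _, _, k7.symm⟩]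

theorem chk_line :
    (∀ z < 8, 4 ≤ z → ∀ i < 8, ∃ a b c, i = Tc (Tc (cond a 2 0) (cond b 1 0)) (cond c z 0)) ∧
    (∀ i < 192, ∀ z < 8, 4 ≤ z → cm i 1 = true → cm i 2 = true → cm i z = true → i < 8) ∧
    (∀ i < 192, ∀ j < 8, cj i j < 8) ∧
    (∀ z < 8, Tc z z = 0 ∧ cm z 2 = true ∧ cm z 1 = true) ∧
    (∀ i < 8, 2 ≤ i → ∀ j < 8, 2 ≤ j → ∃ y < 192, cj y i = j) := by decide +kernel

theorem chk_twin : ∀ i < 192, ∀ j < 192, cm i 2 = true → cm j 2 = true → Tc i i = 0 → Tc j j = 0 →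
    Tc i j = Tc (Tc j i) 2 → (4 ≤ i ∧ i < 8) ∨ (4 ≤ j ∧ j < 8) := by decide +kernel

theorem chk_good : ∀ p < 32, ∀ q < 32, 2 ≤ p → 2 ≤ q → q ≠ p → q ≠ Tc 1 p → Tc p p = 0 → Tc q q = 0 →
    cm p q = true → (∀ d < 192, cm d p = true → cm d q = true → inH p q d = true) →
    inH p q (cj 64 p) = true ∧ inH p q (cj 64 q) = true ∧ cj 64 p ≠ p := by decide +kernel

theorem chk_swap : ∀ i < 192, cm i 1 = true → cm i 2 = true → Tc i i = 0 → Tc i 4 = Tc (Tc 2 4) i →
    i = 32 ∨ i = 33 ∨ i = 34 ∨ i = 35 := by decide +kernel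

/-- The subgroup of order eight. -/
def E8 (P : Gens G) : Subgroup G := closure {P.a₀, P.a₁, P.s}

namespace CType

variable {Q : Subgroup G} {P : Gens G} (C : CType Q P)
include C

omit C in
theorem el_four : P.el 4 = P.a₁ := by
  show P.W (false, false, true, false, false, false, 0) = P.a₁
  simp [Gens.W]

theorem mem_E {x : G} : x ∈ E8 P ↔ ∃ i < 8, P.el i = x := by
  constructor
  · intro hx
    induction hx using closure_induction with
    | mem x h =>
      rcases h with rfl | rfl | rfl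
      exacts [⟨2, by norm_num, el_two P⟩, ⟨4, by norm_num, el_four⟩, ⟨1, by norm_num, el_one P⟩]
    | one => exact ⟨0, by norm_num, C.rels.el_zero⟩
    | mul x y _ _ hx hy =>
      obtain ⟨i, hi, rfl⟩ := hx; obtain ⟨j, hj, rfl⟩ := hy
      have h : ∀ i < 8, ∀ j < 8, Tc i j < 8 := by decide +kernel
      exact ⟨Tc i j, h i hi j hj, (C.mul (by omega)).symm⟩
    | inv x _ hx =>
      obtain ⟨i, hi, rfl⟩ := hx
      have h : ∀ i < 8, iv false i < 8 := by decide +kernel
      exact ⟨iv false i, h i hi, (C.el_inv (by omega)).symm⟩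
  · rintro ⟨i, hi, rfl⟩
    have hm : ∀ g ∈ ({P.a₀, P.a₁, P.s} : Set G), g ∈ E8 P := fun g hg => subset_closure hg
    interval_cases i
    · rw [C.rels.el_zero]; exact one_mem _
    · rw [el_one]; exact hm _ (by simp)
    · rw [el_two]; exact hm _ (by simp)
    · rw [show 3 = Tc 1 2 by decide +kernel, ← C.mul (by norm_num), el_one, el_two]
      exact mul_mem (hm _ (by simp)) (hm _ (by simp))
    · rw [el_four]; exact hm _ (by simp)
    · rw [show 5 = Tc 1 4 by decide +kernel, ← C.mul (by norm_num), el_one, el_four]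
      exact mul_mem (hm _ (by simp)) (hm _ (by simp))
    · rw [show 6 = Tc 2 4 by decide +kernel, ← C.mul (by norm_num), el_two, el_four]
      exact mul_mem (hm _ (by simp)) (hm _ (by simp))
    · rw [show 7 = Tc 1 (Tc 2 4) by decide +kernel, ← C.mul (C.lt (by norm_num)), ← C.mul (by norm_num), el_one,
        el_two, el_four]
      exact mul_mem (hm _ (by simp)) (mul_mem (hm _ (by simp)) (hm _ (by simp)))

theorem cent_E : centralizer (E8 P : Set G) ≤ E8 P := fun y hy => by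
  have h : ∀ i < 8, y * P.el i = P.el i * y := fun i hi =>
    (mem_centralizer_iff.1 hy _ (C.mem_E.2 ⟨i, hi, rfl⟩)).symm
  obtain ⟨i, hi, rfl⟩ := (C.mem y).1 (by rw [← el_one P]; exact h 1 (by norm_num))
  refine C.mem_E.2 ⟨i, chk_line.2.1 i hi 4 (by norm_num) le_rfl ?_ ?_ ?_, rfl⟩ <;>
    exact (C.comm_iff hi (by norm_num)).1 (h _ (by norm_num))

theorem el_mem_norm [Finite G] {i : ℕ} (hi : i < 192) : P.el i ∈ normalizer (E8 P : Set G) :=
  mem_normalizer_fintype fun x hx => by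
    obtain ⟨j, hj, rfl⟩ := C.mem_E.1 hx
    exact C.mem_E.2 ⟨cj i j, chk_line.2.2.1 i hi j hj, ((C.el_conj hi (by omega)).1).symm⟩

theorem cent_le_norm [Finite G] : centralizer ({P.s} : Set G) ≤ normalizer (E8 P : Set G) := fun y hy => by
  obtain ⟨i, hi, rfl⟩ := (C.mem y).1 (mem_centralizer_singleton_iff.1 hy)
  exact C.el_mem_norm hi

/-- A conjugating element pulling three generators of the subgroup back into `Q`. -/
theorem exists_pull [Finite G] : ∃ h, h * P.s * h⁻¹ = P.el 2 ∧ ∃ p < 32, h⁻¹ * P.s * h = P.el p ∧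
    ∃ z, 4 ≤ z ∧ z < 8 ∧ ∃ q < 32, h⁻¹ * P.el z * h = P.el q := by
  obtain ⟨h, hh⟩ := isConj_iff.1 C.fused
  have hrQ : P.el 2 ∈ Q := (C.hQ _).2 ⟨2, by norm_num, rfl⟩
  have hrs : P.el 2 ≠ P.s := fun e => by
    rw [← el_one P, C.eq_iff (by norm_num) (by norm_num)] at e; exact absurd e (by norm_num)
  obtain ⟨hsQ, -⟩ := C.hyp.exists_outer hh hrQ hrs
  have H' := C.hyp.conj h
  rw [hh] at H'
  set Q' := Q.map (MulAut.conj h).toMonoidHom with hQ'
  have hin : ∀ y ∈ Q', h⁻¹ * y * h ∈ Q := fun y hy => by rw [hQ', mem_map_equiv] at hy; simpa using hy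
  have hsQ' : P.s ∈ Q' := (C.hyp.conj_mem_Q h).2 hsQ
  obtain ⟨x, hx, hx3⟩ := H'.exists_order_three
  obtain ⟨b, hb, hb2, hbs, hbt⟩ := H'.exists_partner hx hx3 hsQ' C.hyp.s_sq C.hyp.s_ne hrs.symm
  set t := x * P.s * x⁻¹ with ht
  have htQ' : t ∈ Q' := H'.norm x hx _ hsQ'
  have ht2 : t * t = 1 := by
    rw [ht, show x * P.s * x⁻¹ * (x * P.s * x⁻¹) = x * (P.s * P.s) * x⁻¹ by group, C.hyp.s_sq]; group
  have hts : t * P.s = P.s * t := (H'.comm_orbit hx hx3 hsQ' C.hyp.s_sq).symm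
  have hbr := H'.comm_s b hb
  have htr := H'.comm_s t htQ'
  obtain ⟨p, hp, hpe⟩ := (C.hQ _).1 hsQ
  obtain ⟨i, hi, rfl⟩ := (C.mem b).1 hbs
  obtain ⟨j, hj, hje⟩ := (C.mem t).1 hts
  rw [← hje] at hbt ht2 htr htQ'
  have h2 : (2 : ℕ) < 192 := by norm_num
  rw [C.mul hj, C.mul hi, C.mul h2, C.eq_iff (C.lt hj) (C.lt h2)] at hbt
  refine ⟨h, hh, p, hp, hpe.symm, ?_⟩
  rcases chk_twin i hi j hj ((C.comm_iff hi h2).1 hbr) ((C.comm_iff hj h2).1 htr) ((C.sq_iff hi).1 hb2)
    ((C.sq_iff hj).1 ht2) hbt with hc | hc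
  · obtain ⟨q, hq, hqe⟩ := (C.hQ _).1 (hin _ hb)
    exact ⟨i, hc.1, hc.2, q, hq, hqe.symm⟩
  · obtain ⟨q, hq, hqe⟩ := (C.hQ _).1 (hin _ htQ')
    exact ⟨j, hc.1, hc.2, q, hq, hqe.symm⟩

/-- An element of the normaliser moving the involution. -/
theorem exists_move [Finite G] :
    ∃ w ∈ normalizer (E8 P : Set G), ∃ j, 2 ≤ j ∧ j < 8 ∧ w * P.s * w⁻¹ = P.el j := by
  obtain ⟨h, hh, p, hp, hpe, z, hz4, hz8, q, hq, hqe⟩ := C.exists_pull
  let φ := MulAut.conj h
  have e1 : φ (P.el 1) = P.el 2 := by rw [el_one]; exact hh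
  have ep : φ (P.el p) = P.el 1 := by rw [el_one, ← hpe]; simp [φ]; group
  have eq' : φ (P.el q) = P.el z := by rw [← hqe]; simp [φ]; group
  have hp192 : p < 192 := by omega
  have hq192 : q < 192 := by omega
  have hz192 : z < 192 := by omega
  obtain ⟨hl1, hl2, -, hl4, -⟩ := chk_line
  have hword : ∀ a b c, φ (P.el (word3 p q a b c)) = P.el (Tc (Tc (cond a 2 0) (cond b 1 0)) (cond c z 0)) := by
    intro a b c
    have hcb : ∀ (c : Bool) (k : ℕ), k < 192 → cond c k 0 < 192 := fun c k hk => by cases c <;> simp [hk]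
    rw [word3, ← C.mul (hcb c q hq192), ← C.mul (hcb b p hp192), map_mul, map_mul, ← C.mul (hcb c z hz192),
      ← C.mul (hcb b 1 (by norm_num))]
    cases a <;> cases b <;> cases c <;> simp [C.rels.el_zero, e1, ep, eq']
  have hinE : ∀ i, inH p q i = true → φ (P.el i) ∈ E8 P := fun i hi => by
    obtain ⟨a, b, c, rfl⟩ := inH_word3 hp hq hi
    rw [hword]
    have : ∀ a b c, Tc (Tc (cond a 2 0) (cond b 1 0)) (cond c z 0) < 8 := by
      have h : ∀ z < 8, ∀ a b c, Tc (Tc (cond a 2 0) (cond b 1 0)) (cond c z 0) < 8 := by decide +kernel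
      exact h z hz8
    exact C.mem_E.2 ⟨_, this a b c, rfl⟩
  have pinj : ∀ {i j : ℕ}, i < 192 → j < 192 → φ (P.el i) = φ (P.el j) → i = j := fun hi hj e =>
    C.inj _ hi _ hj (φ.injective e)
  have hp2 : 2 ≤ p := by
    by_contra hlt
    interval_cases p
    · rw [C.rels.el_zero, map_one] at ep
      exact C.hyp.s_ne (by rw [el_one] at ep; exact ep.symm)
    · rw [e1, C.eq_iff (by norm_num) (by norm_num)] at ep; exact absurd ep (by norm_num)
  have hq2 : 2 ≤ q := by
    by_contra hlt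
    interval_cases q
    · rw [C.rels.el_zero, map_one, ← C.rels.el_zero, C.eq_iff (by norm_num) hz192] at eq'
      omega
    · rw [e1, C.eq_iff (by norm_num) hz192] at eq'; omega
  have hqp : q ≠ p := fun e => by
    rw [e, ep, C.eq_iff (by norm_num) hz192] at eq'; omega
  have hq1p : q ≠ Tc 1 p := fun e => by
    rw [e, ← C.mul hp192, map_mul, e1, ep, C.mul (by norm_num), C.eq_iff (C.lt (by norm_num)) hz192] at eq'
    have : Tc 2 1 = 3 := by decide +kernel
    omega
  have hpp : Tc p p = 0 := (C.sq_iff hp192).1 (φ.injective (by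
    rw [map_mul, ep, map_one, el_one, C.hyp.s_sq]))
  have hqq : Tc q q = 0 := (C.sq_iff hq192).1 (φ.injective (by
    rw [map_mul, eq', map_one, (C.sq_iff hz192).2 (hl4 z hz8).1]))
  have hpq : cm p q = true := (C.comm_iff hp192 hq192).1 (φ.injective (by
    rw [map_mul, map_mul, ep, eq']; exact ((C.comm_iff hz192 (by norm_num)).2 (hl4 z hz8).2.2).symm))
  have hfull : ∀ d < 192, cm d p = true → cm d q = true → inH p q d = true := by
    intro d hd hdp hdq
    have c1 : φ (P.el d) * P.el 1 = P.el 1 * φ (P.el d) := by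
      rw [← ep, ← map_mul, ← map_mul, (C.comm_iff hd hp192).2 hdp]
    have c2 : φ (P.el d) * P.el 2 = P.el 2 * φ (P.el d) := by
      rw [← e1, ← map_mul, ← map_mul, el_one, C.el_comm hd]
    have c3 : φ (P.el d) * P.el z = P.el z * φ (P.el d) := by
      rw [← eq', ← map_mul, ← map_mul, (C.comm_iff hd hq192).2 hdq]
    rw [el_one] at c1
    obtain ⟨k, hk, hke⟩ := (C.mem _).1 c1
    rw [← hke] at c2 c3
    rw [← el_one P, ← hke] at c1
    have hk8 := hl2 k hk z hz8 hz4 ((C.comm_iff hk (by norm_num)).1 c1) ((C.comm_iff hk (by norm_num)).1 c2)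
      ((C.comm_iff hk hz192).1 c3)
    obtain ⟨a, b, c, rfl⟩ := hl1 z hz8 hz4 k hk8
    have h2 := hke.symm.trans (hword a b c).symm
    have hw192 : word3 p q a b c < 192 := C.lt (by cases c <;> simp [hq192])
    rw [pinj hd hw192 h2]
    have : ∀ a b c, ∀ p < 32, ∀ q < 32, inH p q (word3 p q a b c) = true := by decide +kernel
    exact this a b c p hp q hq
  obtain ⟨g1, g2, g3⟩ := chk_good p hp q hq hp2 hq2 hqp hq1p hpp hqq hpq hfull
  obtain ⟨i2, i2'⟩ := C.el_conj (show 64 < 192 by norm_num) hp192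
  obtain ⟨i3, i3'⟩ := C.el_conj (show 64 < 192 by norm_num) hq192
  set w := φ (P.el 64) with hw
  have hconj : ∀ i j, P.el 64 * P.el i * (P.el 64)⁻¹ = P.el j → w * φ (P.el i) * w⁻¹ = φ (P.el j) :=
    fun i j e => by rw [← e, map_mul, map_mul, map_inv]
  have hws : w * P.s * w⁻¹ = φ (P.el (cj 64 p)) := by rw [← el_one P, ← ep]; exact hconj _ _ i2
  have hwN : w ∈ normalizer (E8 P : Set G) := mem_normalizer_fintype fun x hx => by
    obtain ⟨k, hk, rfl⟩ := C.mem_E.1 hx
    obtain ⟨a, b, c, rfl⟩ := hl1 z hz8 hz4 k hk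
    have hwr : w * P.el 2 * w⁻¹ = P.el 2 := by
      rw [← e1]; exact hconj 1 1 (by rw [el_one, C.el_comm (by norm_num), mul_inv_cancel_right])
    have hwz : w * P.el z * w⁻¹ = φ (P.el (cj 64 q)) := by rw [← eq']; exact hconj _ _ i3
    have hcb : ∀ (c : Bool) (k : ℕ), k < 192 → cond c k 0 < 192 := fun c k hk => by cases c <;> simp [hk]
    rw [← C.mul (hcb c z hz192), ← C.mul (hcb b 1 (by norm_num))]
    show MulAut.conj w (P.el (cond a 2 0) * P.el (cond b 1 0) * P.el (cond c z 0)) ∈ E8 P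
    rw [map_mul, map_mul]
    refine mul_mem (mul_mem ?_ ?_) ?_
    · cases a
      · simp [C.rels.el_zero]
      · show w * P.el 2 * w⁻¹ ∈ _; rw [hwr]; exact C.mem_E.2 ⟨2, by norm_num, rfl⟩
    · cases b
      · simp [C.rels.el_zero]
      · show w * P.el 1 * w⁻¹ ∈ _; rw [el_one, hws]; exact hinE _ g1
    · cases c
      · simp [C.rels.el_zero]
      · show w * P.el z * w⁻¹ ∈ _; rw [hwz]; exact hinE _ g2
  obtain ⟨j, hj, hje⟩ := C.mem_E.1 (hinE _ g1)
  refine ⟨w, hwN, j, ?_, hj, by rw [hws, hje]⟩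
  by_contra hlt
  interval_cases j
  · rw [← hws, C.rels.el_zero] at hje
    exact C.hyp.s_ne (conj_eq_one_iff.1 hje.symm)
  · rw [el_one] at hje
    exact g3 (pinj i2' hp192 (by rw [← hje, ep, el_one]))

theorem trans_L {i j : ℕ} (hi : 2 ≤ i) (hi' : i < 8) (hj : 2 ≤ j) (hj' : j < 8) :
    ∃ y < 192, P.el y * P.el i * (P.el y)⁻¹ = P.el j := by
  obtain ⟨y, hy, he⟩ := chk_line.2.2.2.2 i hi' hi j hj' hj
  exact ⟨y, hy, by rw [(C.el_conj hy (by omega)).1, he]⟩

/-- Transitivity on the seven involutions. -/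
theorem exists_to [Finite G] {i : ℕ} (hi : 1 ≤ i) (hi' : i < 8) :
    ∃ w ∈ normalizer (E8 P : Set G), w * P.s * w⁻¹ = P.el i := by
  rcases eq_or_lt_of_le hi with rfl | h2
  · exact ⟨1, one_mem _, by rw [el_one]; group⟩
  obtain ⟨w, hw, j, hj, hj', hwe⟩ := C.exists_move
  obtain ⟨y, hy, hye⟩ := C.trans_L hj hj' h2 hi'
  refine ⟨P.el y * w, mul_mem (C.el_mem_norm hy) hw, ?_⟩
  rw [← hye, ← hwe]; group

/-- Transitivity on pairs. -/
theorem exists_pair [Finite G] {i j : ℕ} (hi : 1 ≤ i) (hi' : i < 8) (hj : 1 ≤ j) (hj' : j < 8) (hij : i ≠ j) :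
    ∃ w ∈ normalizer (E8 P : Set G), w * P.s * w⁻¹ = P.el i ∧ w * P.el 2 * w⁻¹ = P.el j := by
  obtain ⟨w, hw, hwe⟩ := C.exists_to hi hi'
  obtain ⟨k, hk, hke⟩ := C.mem_E.1 ((mem_normalizer_iff''.1 hw _).1 (C.mem_E.2 ⟨j, hj', rfl⟩))
  have hk2 : 2 ≤ k := by
    by_contra hlt
    interval_cases k
    · rw [C.rels.el_zero] at hke
      have e : P.el j = P.el 0 := by
        rw [C.rels.el_zero, show P.el j = w * (w⁻¹ * P.el j * w) * w⁻¹ by group, ← hke]; group
      rw [C.eq_iff (by omega) (by norm_num)] at e; omega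
    · have e : P.el j = P.el i := by
        rw [← hwe, ← el_one P, hke]; group
      rw [C.eq_iff (by omega) (by omega)] at e; exact hij e.symm
  obtain ⟨y, hy, hye⟩ := C.trans_L le_rfl (by norm_num) hk2 hk
  refine ⟨w * P.el y, mul_mem hw (C.el_mem_norm hy), ?_, ?_⟩
  · rw [← hwe]
    calc w * P.el y * P.s * (w * P.el y)⁻¹ = w * (P.el y * P.s) * (P.el y)⁻¹ * w⁻¹ := by group
      _ = w * P.s * w⁻¹ := by rw [C.el_comm hy]; group
  · rw [show w * P.el y * P.el 2 * (w * P.el y)⁻¹ = w * (P.el y * P.el 2 * (P.el y)⁻¹) * w⁻¹ by group, hye, hke]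
    group

theorem card_norm [Finite G] : Nat.card (normalizer (E8 P : Set G)) = 1344 := by
  have hex : ∀ i : Fin 7, ∃ w ∈ normalizer (E8 P : Set G), w * P.s * w⁻¹ = P.el (i.val + 1) := fun i =>
    C.exists_to (by omega) (by omega)
  choose f hf hfe using hex
  let F : Fin 7 × centralizer ({P.s} : Set G) → normalizer (E8 P : Set G) := fun p =>
    ⟨f p.1 * p.2.1, mul_mem (hf p.1) (C.cent_le_norm p.2.2)⟩
  have key : ∀ p : Fin 7 × centralizer ({P.s} : Set G),
      (F p : G) * P.s * (F p : G)⁻¹ = P.el (p.1.val + 1) := fun ⟨i, c, hc⟩ => by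
    show f i * c * P.s * (f i * c)⁻¹ = _
    rw [mul_assoc (f i) c, mem_centralizer_singleton_iff.1 hc, ← hfe i]; group
  have hb : Function.Bijective F := by
    constructor
    · intro p q h
      have e := key p
      rw [h, key q, C.eq_iff (by omega) (by omega)] at e
      obtain ⟨a, c⟩ := p; obtain ⟨b, d⟩ := q
      obtain rfl : a = b := Fin.ext (by simp at e; omega)
      exact Prod.ext rfl (Subtype.ext (mul_left_cancel (congrArg Subtype.val h :)))
    · rintro ⟨w, hw⟩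
      obtain ⟨k, hk, hke⟩ := C.mem_E.1
        ((mem_normalizer_iff.1 hw _).1 (C.mem_E.2 ⟨1, by norm_num, el_one P⟩))
      have hk1 : 1 ≤ k := Nat.one_le_iff_ne_zero.2 fun e => by
        rw [e, C.rels.el_zero] at hke; exact C.hyp.s_ne (conj_eq_one_iff.1 hke.symm)
      refine ⟨(⟨k - 1, by omega⟩, ⟨(f ⟨k - 1, by omega⟩)⁻¹ * w, mem_centralizer_singleton_iff.2 ?_⟩),
        Subtype.ext (mul_inv_cancel_left _ _)⟩
      have e1 := hfe ⟨k - 1, by omega⟩
      simp only [Nat.sub_add_cancel hk1] at e1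
      generalize f ⟨k - 1, by omega⟩ = v at e1 ⊢
      calc v⁻¹ * w * P.s = v⁻¹ * (w * P.s * w⁻¹) * w := by group
        _ = v⁻¹ * (v * P.s * v⁻¹) * w := by rw [← hke, e1]
        _ = P.s * (v⁻¹ * w) := by group
  rw [← Nat.card_congr (Equiv.ofBijective F hb), Nat.card_prod, Nat.card_fin, C.card_cent]

/-- An element exchanging `s` and its fused partner sends `b₀` outside `Q`. -/
theorem exists_swap [Finite G] : ∃ w ∈ normalizer (E8 P : Set G), w * P.s * w⁻¹ = P.el 2 ∧
    w * P.el 2 * w⁻¹ = P.s ∧ ∃ i, (i = 32 ∨ i = 33 ∨ i = 34 ∨ i = 35) ∧ w * P.el 8 * w⁻¹ = P.el i := by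
  obtain ⟨w, hw, h1, h2⟩ := C.exists_pair (i := 2) (j := 1) (by norm_num) (by norm_num) le_rfl (by norm_num)
    (by norm_num)
  rw [el_one] at h2
  have h8 : (8 : ℕ) < 192 := by norm_num
  have c1 : P.el 8 * P.el 2 = P.el 2 * P.el 8 := (C.comm_iff h8 (by norm_num)).2 (by decide +kernel)
  let φ := MulAut.conj w
  set v := φ (P.el 8) with hv
  have hvs : v * P.s = P.s * v := by
    rw [show P.s = φ (P.el 2) from h2.symm, hv, ← map_mul, ← map_mul, c1]
  obtain ⟨i, hi, hie⟩ := (C.mem v).1 hvs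
  refine ⟨w, hw, h1, h2, i, ?_, hie.symm⟩
  obtain ⟨k, hk, hke⟩ := C.mem_E.1 ((mem_normalizer_iff''.1 hw _).1 (C.mem_E.2 ⟨4, by norm_num, rfl⟩))
  have hk4 : 4 ≤ k := by
    by_contra hlt
    have e : P.el 4 = φ (P.el k) := by rw [hke]; simp [φ]; group
    interval_cases k
    · rw [C.rels.el_zero, map_one, ← C.rels.el_zero, C.eq_iff (by norm_num) (by norm_num)] at e
      exact absurd e (by norm_num)
    · rw [el_one, show φ P.s = P.el 2 from h1, C.eq_iff (by norm_num) (by norm_num)] at e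
      exact absurd e (by norm_num)
    · rw [show φ (P.el 2) = P.s from h2, ← el_one P, C.eq_iff (by norm_num) (by norm_num)] at e
      exact absurd e (by norm_num)
    · rw [show 3 = Tc 1 2 by decide +kernel, ← C.mul (by norm_num), map_mul, el_one, show φ P.s = P.el 2 from h1,
        show φ (P.el 2) = P.s from h2, ← el_one P, C.mul (by norm_num),
        C.eq_iff (by norm_num) (C.lt (by norm_num))] at e
      exact absurd e (by decide +kernel)
  have hk192 : k < 192 := by omega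
  have hrel : P.el 8 * P.el k = P.s * P.el k * P.el 8 := by
    have h : ∀ k < 8, 4 ≤ k → Tc 8 k = Tc (Tc 1 k) 8 := by decide +kernel
    rw [← el_one P, C.mul hk192, C.mul hk192, C.mul h8, h k hk hk4]
  have e4 : φ (P.el k) = P.el 4 := by rw [hke]; simp [φ]; group
  have hrel' := congrArg φ hrel
  rw [map_mul, map_mul, map_mul, show φ P.s = P.el 2 from h1, e4, ← hv, ← hie, C.mul (by norm_num),
    C.mul (by norm_num), C.mul hi, C.eq_iff (C.lt (by norm_num)) (C.lt hi)] at hrel'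
  refine chk_swap i hi ((C.comm_iff hi (by norm_num)).1 (by rw [el_one]; exact C.el_comm hi))
    ((C.comm_iff hi (by norm_num)).1 ?_) ((C.sq_iff hi).1 ?_) hrel'
  · rw [hie, hv, ← h1, show w * P.s * w⁻¹ = φ P.s from rfl, ← map_mul, ← map_mul, C.el_comm h8]
  · rw [hie, hv, ← map_mul, (C.sq_iff h8).2 (by decide +kernel), map_one]

end CType

end Cfsg.Agent.S3Extra
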