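import Cfsg.Prelude.Def_Solvable
import Cfsg.Prelude.Def_Transfer
import Cfsg.Agent.Lib.FiniteGroup.FittingPow
import Mathlib.GroupTheory.Sylow
import Mathlib.GroupTheory.Perm.Fin
import Mathlib.Data.Fintype.Perm

/-!
An involution whose centraliser has an extraspecial subgroup of order 32 with quotient `S₃`, the elements of
order three acting without fixed points modulo the centre: the hypothesis and its first consequences.
-/

set_option autoImplicit false
set_option linter.style.haveILetI false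

namespace Cfsg.Agent.S3Extra

open Subgroup

variable {G : Type*} [Group G]

/-- The properties of the pair `(s, Q)` that are used. -/
structure Hyp (s : G) (Q : Subgroup G) : Prop where
  s_two : orderOf s = 2
  comm_s : ∀ q ∈ Q, q * s = s * q
  norm : ∀ g, g * s = s * g → ∀ q ∈ Q, g * q * g⁻¹ ∈ Q
  card_Q : Nat.card Q = 32
  s_mem : s ∈ Q
  center : ∀ c ∈ Q, (∀ q ∈ Q, q * c = c * q) → c = 1 ∨ c = s
  sq : ∀ q ∈ Q, q * q = 1 ∨ q * q = s
  comm : ∀ a ∈ Q, ∀ b ∈ Q, a * b = b * a ∨ a * b = b * a * s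
  card_cent : Nat.card (centralizer ({s} : Set G)) = 192
  fpf : ∀ x, x * s = s * x → orderOf x = 3 → ∀ q ∈ Q, x * q = q * x → q = 1 ∨ q = s
  invert : ∀ u x, u * s = s * u → x * s = s * x → u ∉ Q → u * u ∈ Q → x * x * x ∈ Q → u * x * u⁻¹ * x ∈ Q
  outer : ∀ u y, u * s = s * u → y * s = s * y → u ∉ Q → u * u ∈ Q → y * u * y⁻¹ * u⁻¹ ∈ Q → y ∈ Q ∨ y * u ∈ Q
  cases : ∀ y, y * s = s * y → y * y ∈ Q ∨ y * y * y ∈ Q

theorem perm_invert : ∀ u x : Equiv.Perm (Fin 3), u ≠ 1 → u * u = 1 → x * x * x = 1 →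
    u * x * u⁻¹ * x = 1 := by decide

set_option synthInstance.maxSize 512 in
theorem perm_outer : ∀ u y : Equiv.Perm (Fin 3), u ≠ 1 → u * u = 1 → y * u * y⁻¹ * u⁻¹ = 1 →
    y = 1 ∨ y * u = 1 := by decide

theorem perm_pow : ∀ y : Equiv.Perm (Fin 3), y * y = 1 ∨ y * y * y = 1 := by decide

/-- The hypothesis from the data of the statement. -/
theorem hyp_of [Finite G] (s : G) (hs : orderOf s = 2) (L : Subgroup G) (hL : L = centralizer ({s} : Set G))
    (Q : Subgroup G) (hQ : Q = (Cfsg.pCore 2 L).map L.subtype) (hQex : Cfsg.IsExtraspecial 2 Q)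
    (hQcard : Nat.card Q = 32) [(Cfsg.pCore 2 L).Normal] (e : L ⧸ Cfsg.pCore 2 L ≃* Equiv.Perm (Fin 3))
    (X : Sylow 3 L)
    (hCQX : Q ⊓ centralizer (((X : Subgroup L).map L.subtype : Subgroup G) : Set G) = zpowers s) :
    Hyp s Q := by
  haveI : Fact (Nat.Prime 2) := ⟨Nat.prime_two⟩
  haveI : Fact (Nat.Prime 3) := ⟨Nat.prime_three⟩
  have hmem : ∀ {g : G}, g ∈ L ↔ g * s = s * g := by rw [hL]; exact mem_centralizer_singleton_iff
  have hQL : ∀ q ∈ Q, q ∈ L := fun q hq => by rw [hQ] at hq; exact map_subtype_le _ hq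
  have hcore : ∀ g : L, (g : G) ∈ Q ↔ g ∈ Cfsg.pCore 2 L := fun g => by
    rw [hQ]; exact mem_map_iff_mem L.subtype_injective
  have hsQ : s ∈ Q := (hCQX.ge (mem_zpowers s)).1
  obtain ⟨⟨hQp, hfr, hder⟩, hZ⟩ := hQex
  have hz1 : (⟨s, hsQ⟩ : Q) ∈ center Q :=
    mem_center_iff.2 fun q => Subtype.ext (hmem.1 (hQL _ q.2))
  have hs1 : s ≠ 1 := fun h => by rw [h, orderOf_one] at hs; omega
  have hZeq : ∀ c : Q, c ∈ center Q → (c : G) = 1 ∨ (c : G) = s := by
    intro c hc
    have h : center Q = zpowers (⟨s, hsQ⟩ : Q) := (eq_of_le_of_card_ge (zpowers_le.2 hz1) (by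
      rw [Nat.card_zpowers, hZ, ← Subgroup.orderOf_coe, hs])).symm
    rw [h] at hc
    obtain ⟨k, rfl⟩ := hc
    have hss : s * s = 1 := by rw [← pow_two, ← hs]; exact pow_orderOf_eq_one s
    rcases Int.even_or_odd k with ⟨j, rfl⟩ | ⟨j, rfl⟩
    · left
      show ((⟨s, hsQ⟩ : Q) ^ (j + j) : Q).1 = 1
      rw [SubgroupClass.coe_zpow, zpow_add, ← Commute.mul_zpow (Commute.refl s), hss, one_zpow]
    · right
      show ((⟨s, hsQ⟩ : Q) ^ (2 * j + 1) : Q).1 = s
      rw [SubgroupClass.coe_zpow, zpow_add, zpow_mul, zpow_two, hss, one_zpow, one_mul, zpow_one]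
  have hidx : Nat.card (L ⧸ Cfsg.pCore 2 L) = 6 := by
    rw [Nat.card_congr e.toEquiv, Nat.card_eq_fintype_card, Fintype.card_perm, Fintype.card_fin]; rfl
  have hcL : Nat.card L = 192 := by
    rw [(Cfsg.pCore 2 L).card_eq_card_quotient_mul_card_subgroup, hidx,
      show Nat.card (Cfsg.pCore 2 L) = 32 by rw [← hQcard, hQ, card_map_of_injective L.subtype_injective]]
  let π : L →* Equiv.Perm (Fin 3) := e.toMonoidHom.comp (QuotientGroup.mk' _)
  have hker : ∀ g : L, π g = 1 ↔ (g : G) ∈ Q := fun g => by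
    show e (QuotientGroup.mk' _ g) = 1 ↔ _
    rw [MulEquiv.map_eq_one_iff, QuotientGroup.mk'_apply, QuotientGroup.eq_one_iff, hcore]
  have hXcard : Nat.card (X : Subgroup L) = 3 := by
    rw [X.card_eq_multiplicity, hcL, show (192 : ℕ) = 3 * 2 ^ 6 by norm_num,
      Nat.factorization_mul (by norm_num) (by norm_num), Nat.Prime.factorization_pow Nat.prime_two]
    simp [Nat.prime_three.factorization]
  refine
    { s_two := hs, comm_s := fun q hq => hmem.1 (hQL q hq), norm := fun g hg q hq => ?_, card_Q := hQcard,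
      s_mem := hsQ, center := fun c hc h => hZeq ⟨c, hc⟩ (mem_center_iff.2 fun q => Subtype.ext (h q q.2)),
      sq := fun q hq => ?_, comm := fun a ha b hb => ?_, card_cent := by rw [← hL]; exact hcL, fpf := fun x hx hx3 q hq hc => ?_,
      invert := fun u x hu hx huQ huu hxxx => ?_, outer := fun u y hu hy huQ huu hyu => ?_,
      cases := fun y hy => ?_ }
  · have h := (inferInstance : (Cfsg.pCore 2 L).Normal).conj_mem _ ((hcore ⟨q, hQL q hq⟩).1 hq) ⟨g, hmem.2 hg⟩
    exact (hcore _).2 h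
  · refine hZeq (⟨q, hq⟩ * ⟨q, hq⟩) ?_
    rw [← hfr]
    have hn : Group.IsNilpotent Q := hQp.isNilpotent
    rw [frattini, Order.radical]
    refine mem_iInf.2 fun M => mem_iInf.2 fun hM => ?_
    have hMn : (M : Subgroup Q).Normal := Subgroup.NormalizerCondition.normal_of_coatom M
      (Group.normalizerCondition_of_isNilpotent (G := Q)) hM
    have hM2 : M.index = 2 := by
      obtain ⟨n, hn⟩ := hQp.index M
      have hq : IsPGroup 2 (Q ⧸ M) := hQp.to_quotient M
      haveI : IsSimpleGroup (Q ⧸ M) := by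
        haveI : Nontrivial (Q ⧸ M) := QuotientGroup.nontrivial_iff.2 hM.1
        refine ⟨fun N hN => ?_⟩
        have hle : M ≤ N.comap (QuotientGroup.mk' M) := fun m hm => by
          rw [mem_comap, QuotientGroup.mk'_apply, (QuotientGroup.eq_one_iff m).2 hm]; exact N.one_mem
        rcases hle.eq_or_lt with h | h
        · left
          rw [eq_bot_iff]
          intro y hy
          obtain ⟨q, rfl⟩ := QuotientGroup.mk'_surjective M y
          rw [mem_bot, QuotientGroup.mk'_apply, QuotientGroup.eq_one_iff, h]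
          exact hy
        · right
          rw [eq_top_iff]
          intro y _
          obtain ⟨q, rfl⟩ := QuotientGroup.mk'_surjective M y
          have := hM.2 _ h
          exact mem_comap.1 (this ▸ mem_top q)
      rw [index_eq_card]
      obtain ⟨k, hk⟩ := hq.exists_card_eq
      haveI : Nontrivial (Q ⧸ M) := QuotientGroup.nontrivial_iff.2 hM.1
      have hp := IsPGroup.bot_lt_center (G := Q ⧸ M) hq
      have htop : center (Q ⧸ M) = ⊤ :=
        ((inferInstance : (center (Q ⧸ M)).Normal).eq_bot_or_eq_top).resolve_left hp.ne'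
      letI : CommGroup (Q ⧸ M) := { mul_comm := fun a b => mem_center_iff.1 (htop ▸ mem_top b) a }
      have hpr := IsSimpleGroup.prime_card (α := Q ⧸ M)
      rw [hk] at hpr ⊢
      rcases k with - | k
      · simp [Nat.not_prime_one] at hpr
      · rcases k with - | k
        · norm_num
        · exact absurd hpr (Nat.Prime.not_prime_pow (by omega))
    exact mul_self_mem_of_index_two hM2 _
  · have h : (⟨a, ha⟩ : Q)⁻¹ * ⟨b, hb⟩⁻¹ * ⟨a, ha⟩ * ⟨b, hb⟩ ∈ center Q := by
      rw [← hder, _root_.commutator_def]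
      have h1 := Subgroup.commutator_mem_commutator (H₁ := (⊤ : Subgroup Q)) (H₂ := ⊤)
        (mem_top (⟨a, ha⟩ : Q)⁻¹) (mem_top (⟨b, hb⟩ : Q)⁻¹)
      simpa [commutatorElement_def] using h1
    rcases hZeq _ h with e1 | e1
    · left
      have e1 : a⁻¹ * b⁻¹ * a * b = 1 := e1
      calc a * b = b * a * (a⁻¹ * b⁻¹ * a * b) := by group
        _ = b * a := by rw [e1, mul_one]
    · right
      have e1 : a⁻¹ * b⁻¹ * a * b = s := e1
      rw [← e1]; group
  · -- conjugate the element of order three into X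
    have hxo : orderOf (⟨x, hmem.2 hx⟩ : L) = 3 := by rw [← Subgroup.orderOf_coe]; exact hx3
    obtain ⟨Y, hY⟩ := (IsPGroup.of_card (n := 1) (by rw [Nat.card_zpowers, hxo]; norm_num) :
      IsPGroup 3 (zpowers (⟨x, hmem.2 hx⟩ : L))).exists_le_sylow
    obtain ⟨g, hg⟩ := MulAction.exists_smul_eq L Y X
    set x' := g * ⟨x, hmem.2 hx⟩ * g⁻¹ with hx'
    have hx'X : x' ∈ (X : Subgroup L) := by
      rw [← hg, Sylow.coe_subgroup_smul]
      exact Subgroup.smul_mem_pointwise_smul _ (MulAut.conj g) _ (hY (mem_zpowers _))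
    have hgen : zpowers x' = (X : Subgroup L) := eq_of_le_of_card_ge (zpowers_le.2 hx'X) (by
      rw [hXcard, Nat.card_zpowers, hx', ← MulAut.conj_apply, MulEquiv.orderOf_eq, hxo])
    set q' := (g : G) * q * (g : G)⁻¹ with hq'
    have hq'Q : q' ∈ Q := by
      have h := (inferInstance : (Cfsg.pCore 2 L).Normal).conj_mem _ ((hcore ⟨q, hQL q hq⟩).1 hq) g
      exact (hcore _).2 h
    have hcm : (x' : G) * q' = q' * x' := by
      show (g : G) * x * (g : G)⁻¹ * ((g : G) * q * (g : G)⁻¹) = (g : G) * q * (g : G)⁻¹ * ((g : G) * x * (g : G)⁻¹)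
      calc (g : G) * x * (g : G)⁻¹ * ((g : G) * q * (g : G)⁻¹) = (g : G) * (x * q) * (g : G)⁻¹ := by group
        _ = _ := by rw [hc]; group
    have h1 : q' ∈ zpowers s := by
      rw [← hCQX]
      refine ⟨hq'Q, mem_centralizer_iff.2 ?_⟩
      rintro _ ⟨w, hw, rfl⟩
      obtain ⟨k, rfl⟩ := hgen.ge hw
      show ((x' ^ k : L) : G) * q' = q' * ((x' ^ k : L) : G)
      rw [SubgroupClass.coe_zpow]
      exact (Commute.zpow_left hcm k).eq
    have hgs : (g : G) * s = s * g := hmem.1 g.2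
    have hqeq : q = (g : G)⁻¹ * q' * g := by simp [hq']; group
    obtain ⟨k, hk⟩ := h1
    have hk : s ^ k = q' := hk
    have : q = s ^ k := by
      rw [hqeq, ← hk, mul_assoc, ← (Commute.zpow_right hgs k).eq, inv_mul_cancel_left]
    rw [this]
    exact hZeq ⟨s ^ k, Q.zpow_mem hsQ k⟩ (mem_center_iff.2 fun w => Subtype.ext
      (Commute.zpow_right (hmem.1 (hQL _ w.2)) k).eq)
  · have h1 := perm_invert (π ⟨u, hmem.2 hu⟩) (π ⟨x, hmem.2 hx⟩) (fun h => huQ ((hker _).1 h))
      (by rw [← map_mul]; exact (hker _).2 huu) (by rw [← map_mul, ← map_mul]; exact (hker _).2 hxxx)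
    rw [← map_inv, ← map_mul, ← map_mul, ← map_mul] at h1
    exact (hker _).1 h1
  · have h1 := perm_outer (π ⟨u, hmem.2 hu⟩) (π ⟨y, hmem.2 hy⟩) (fun h => huQ ((hker _).1 h))
      (by rw [← map_mul]; exact (hker _).2 huu)
      (by rw [← map_inv, ← map_inv, ← map_mul, ← map_mul, ← map_mul]; exact (hker _).2 hyu)
    rw [← map_mul] at h1
    exact h1.imp (hker _).1 (hker _).1
  · have h1 := perm_pow (π ⟨y, hmem.2 hy⟩)
    rw [← map_mul, ← map_mul] at h1
    exact h1.imp (hker _).1 (hker _).1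

namespace Hyp

variable {s : G} {Q : Subgroup G} (H : Hyp s Q)
include H

theorem s_ne : s ≠ 1 := fun h => by have := H.s_two; rw [h, orderOf_one] at this; omega

theorem s_sq : s * s = 1 := by rw [← pow_two, ← H.s_two]; exact pow_orderOf_eq_one s

/-- The image under conjugation. -/
theorem conj (g : G) : Hyp (g * s * g⁻¹) (Q.map (MulAut.conj g).toMonoidHom) := by
  have hm : ∀ {y : G}, y ∈ Q.map (MulAut.conj g).toMonoidHom ↔ g⁻¹ * y * g ∈ Q := fun {y} => by
    rw [mem_map_equiv]; simp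
  have hcv : ∀ {y : G}, y * (g * s * g⁻¹) = g * s * g⁻¹ * y ↔ g⁻¹ * y * g * s = s * (g⁻¹ * y * g) := fun {y} => by
    constructor <;> intro h
    · calc g⁻¹ * y * g * s = g⁻¹ * (y * (g * s * g⁻¹)) * g := by group
        _ = s * (g⁻¹ * y * g) := by rw [h]; group
    · calc y * (g * s * g⁻¹) = g * (g⁻¹ * y * g * s) * g⁻¹ := by group
        _ = g * s * g⁻¹ * y := by rw [h]; group
  refine
    { s_two := by rw [← MulAut.conj_apply, MulEquiv.orderOf_eq, H.s_two]
      comm_s := fun q hq => hcv.2 (H.comm_s _ (hm.1 hq))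
      norm := fun a ha q hq => hm.2 ?_
      card_Q := by rw [card_map_of_injective (MulAut.conj g).injective, H.card_Q]
      s_mem := ⟨s, H.s_mem, rfl⟩
      center := fun c hc h => ?_
      sq := fun q hq => ?_
      comm := fun a ha b hb => ?_
      card_cent := ?_
      fpf := fun x hx hx3 q hq hc => ?_
      invert := fun u x hu hx huQ huu hxxx => hm.2 ?_
      outer := fun u y hu hy huQ huu hyu => ?_
      cases := fun y hy => ?_ }
  · have h := H.norm _ (hcv.1 ha) _ (hm.1 hq)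
    rw [show g⁻¹ * (a * q * a⁻¹) * g = g⁻¹ * a * g * (g⁻¹ * q * g) * (g⁻¹ * a * g)⁻¹ by group]
    exact h
  · refine (H.center _ (hm.1 hc) fun q hq => ?_).imp ?_ ?_
    · have h' := h (g * q * g⁻¹) ⟨q, hq, rfl⟩
      calc q * (g⁻¹ * c * g) = g⁻¹ * (g * q * g⁻¹ * c) * g := by group
        _ = g⁻¹ * c * g * q := by rw [h']; group
    · intro e; rw [← show g * (g⁻¹ * c * g) * g⁻¹ = c by group, e, mul_one, mul_inv_cancel]
    · intro e; rw [← show g * (g⁻¹ * c * g) * g⁻¹ = c by group, e]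
  · refine (H.sq _ (hm.1 hq)).imp ?_ ?_ <;> intro e <;>
      rw [show q * q = g * (g⁻¹ * q * g * (g⁻¹ * q * g)) * g⁻¹ by group, e] <;> group
  · refine (H.comm _ (hm.1 ha) _ (hm.1 hb)).imp ?_ ?_ <;> intro e <;>
      rw [show a * b = g * (g⁻¹ * a * g * (g⁻¹ * b * g)) * g⁻¹ by group, e] <;> group
  · rw [← H.card_cent]
    refine Nat.card_congr (Equiv.subtypeEquiv (MulAut.conj g⁻¹).toEquiv fun x => ?_)
    show x ∈ centralizer _ ↔ g⁻¹ * x * g⁻¹⁻¹ ∈ centralizer _
    rw [inv_inv, mem_centralizer_singleton_iff, mem_centralizer_singleton_iff, hcv]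
  · refine (H.fpf _ (hcv.1 hx) (by
      rw [show g⁻¹ * x * g = MulAut.conj g⁻¹ x by simp, MulEquiv.orderOf_eq, hx3]) _ (hm.1 hq) ?_).imp ?_ ?_
    · calc g⁻¹ * x * g * (g⁻¹ * q * g) = g⁻¹ * (x * q) * g := by group
        _ = _ := by rw [hc]; group
    · intro e; rw [← show g * (g⁻¹ * q * g) * g⁻¹ = q by group, e, mul_one, mul_inv_cancel]
    · intro e; rw [← show g * (g⁻¹ * q * g) * g⁻¹ = q by group, e]
  · have h := H.invert _ _ (hcv.1 hu) (hcv.1 hx) (fun h => huQ (hm.2 h))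
      (by rw [show g⁻¹ * u * g * (g⁻¹ * u * g) = g⁻¹ * (u * u) * g by group]; exact hm.1 huu)
      (by rw [show g⁻¹ * x * g * (g⁻¹ * x * g) * (g⁻¹ * x * g) = g⁻¹ * (x * x * x) * g by group]; exact hm.1 hxxx)
    rw [show g⁻¹ * (u * x * u⁻¹ * x) * g = g⁻¹ * u * g * (g⁻¹ * x * g) * (g⁻¹ * u * g)⁻¹ * (g⁻¹ * x * g) by group]
    exact h
  · refine (H.outer (g⁻¹ * u * g) (g⁻¹ * y * g) (hcv.1 hu) (hcv.1 hy) (fun h => huQ (hm.2 h)) ?_ ?_).imp hm.2
      fun h => hm.2 ?_
    · rw [show g⁻¹ * u * g * (g⁻¹ * u * g) = g⁻¹ * (u * u) * g by group]; exact hm.1 huu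
    · rw [show g⁻¹ * y * g * (g⁻¹ * u * g) * (g⁻¹ * y * g)⁻¹ * (g⁻¹ * u * g)⁻¹ = g⁻¹ * (y * u * y⁻¹ * u⁻¹) * g by
        group]
      exact hm.1 hyu
    · rw [show g⁻¹ * (y * u) * g = g⁻¹ * y * g * (g⁻¹ * u * g) by group]; exact h
  · refine (H.cases (g⁻¹ * y * g) (hcv.1 hy)).imp (fun h => hm.2 ?_) fun h => hm.2 ?_
    · rw [show g⁻¹ * (y * y) * g = g⁻¹ * y * g * (g⁻¹ * y * g) by group]; exact h
    · rw [show g⁻¹ * (y * y * y) * g = g⁻¹ * y * g * (g⁻¹ * y * g) * (g⁻¹ * y * g) by group]; exact h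

end Hyp

end Cfsg.Agent.S3Extra
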