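import Cfsg.Agent.Lib.S3Extra.TypeM12Data
import Cfsg.Agent.Lib.S3Extra.CType
import Cfsg.Agent.Lib.S3Extra.NormE
import Cfsg.Agent.Lib.S3344Id.Small
import Cfsg.Agent.Lib.M12Cent.Order
import Cfsg.Agent.Lib.M12Cent.Concrete
import Cfsg.Agent.S0421

/-!
The second type of centraliser: a normal subgroup of order eight, or the Mathieu group `M₁₂`.
-/

set_option autoImplicit false
set_option linter.style.haveILetI false

namespace Cfsg.Agent.S3Extra

open Cfsg.Agent.PermCert

variable {G : Type*} [Group G] {P : Gens G}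

namespace Frame

variable (F : Frame P true)
include F

/-- The centraliser with the table of `M₁₂`. -/
noncomputable def setup : M12Cent.Setup G where
  t := P.s
  el i := P.el (piim i)
  mem x := by
    rw [F.mem x]
    constructor
    · rintro ⟨i, hi, rfl⟩
      have h := allBelow_spec _ _ chk_pi.1 i hi
      simp only [Bool.and_eq_true, Nat.blt_eq, Nat.beq_eq] at h
      exact ⟨pim i, h.1.1.2, congrArg P.el h.2⟩
    · rintro ⟨i, hi, rfl⟩
      have h := allBelow_spec _ _ chk_pi.1 i hi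
      simp only [Bool.and_eq_true, Nat.blt_eq, Nat.beq_eq] at h
      exact ⟨piim i, h.1.1.1, rfl⟩
  inj i hi j hj e := by
    have h := allBelow_spec _ _ chk_pi.1 i hi
    have h' := allBelow_spec _ _ chk_pi.1 j hj
    simp only [Bool.and_eq_true, Nat.blt_eq, Nat.beq_eq] at h h'
    rw [← h.1.2, ← h'.1.2, F.inj _ h.1.1.1 _ h'.1.1.1 e]
  mul i hi j hj := by
    have h' := allBelow_spec _ _ chk_pi.1 j hj
    simp only [Bool.and_eq_true, Nat.blt_eq, Nat.beq_eq] at h'
    rw [(F.rels.el_mul h'.1.1.1).1, Nat.eq_of_beq_eq_true (allBelow_spec _ _ (allBelow_spec _ _ chk_mul i hi) j hj)]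
  el_zero := by rw [chk_pi.2.2.1, F.rels.el_zero]
  el_one := by rw [chk_pi.2.1, el_one]

theorem gens_mem_of_index_two (N : Subgroup G) (hN : N.index = 2) :
    P.s ∈ N ∧ P.a₀ ∈ N ∧ P.a₁ ∈ N ∧ P.b₀ ∈ N ∧ P.b₁ ∈ N ∧ P.u ∈ N ∧ P.x ∈ N := by
  haveI hn := Subgroup.normal_of_index_eq_two hN
  have hm : ∀ {a b : G}, a * b ∈ N ↔ (a ∈ N ↔ b ∈ N) := fun {a b} =>
    Subgroup.mul_mem_iff_of_index_two hN
  have hconj : ∀ {a b : G}, IsConj a b → a ∈ N → b ∈ N := fun {a b} h ha => by
    obtain ⟨g, rfl⟩ := isConj_iff.1 h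
    exact hn.conj_mem a ha g
  have hx : P.x ∈ N := by
    have h := Subgroup.sq_mem_of_index_two hN (P.x * P.x)
    rwa [sq, ← mul_assoc, F.rels.xxx, one_mul] at h
  have hs : P.s ∈ N := by
    have h := Subgroup.sq_mem_of_index_two hN (P.a₀ * P.b₁)
    rwa [sq, show P.a₀ * P.b₁ * (P.a₀ * P.b₁) = P.s by
      rw [mul_assoc, ← mul_assoc P.b₁ P.a₀ P.b₁, F.rels.b₁a₀, mul_assoc (P.s * P.a₀), F.rels.b₁₁, mul_one,
        F.rels.sa₀, ← mul_assoc, F.rels.a₀₀, one_mul]] at h
  have ha₀ : P.a₀ ∈ N := hconj F.fused hs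
  have ha₁ : P.a₁ ∈ N := hconj (isConj_iff.2 ⟨P.x, by rw [F.rels.xa₀, mul_inv_cancel_right]⟩) ha₀
  have hb : P.b₀ ∈ N ↔ P.b₁ ∈ N := by
    have h : IsConj P.b₀ P.b₁ := isConj_iff.2 ⟨P.x, by rw [F.rels.xb₀, mul_inv_cancel_right]⟩
    exact ⟨hconj h, hconj h.symm⟩
  have hbb : P.b₁ ∈ N ↔ P.b₀ * P.b₁ ∈ N := by
    have h : IsConj P.b₁ (P.b₀ * P.b₁) := isConj_iff.2 ⟨P.x, by rw [F.rels.xb₁, mul_inv_cancel_right]⟩
    exact ⟨hconj h, hconj h.symm⟩
  rw [hm] at hbb
  have hb₁ : P.b₁ ∈ N := hbb.2 hb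
  have hb₀ : P.b₀ ∈ N := hb.2 hb₁
  refine ⟨hs, ha₀, ha₁, hb₀, hb₁, ?_, hx⟩
  obtain ⟨g, -, -, i, hi, hg⟩ := F.twin
  have hu : g⁻¹ * P.u * g ∈ N := by
    rw [← hg]
    have hd : ∀ i < 32, bitB i 5 = false ∧ i / 64 = 0 := by decide +kernel
    change P.W (dec i) ∈ N
    simp only [dec, (hd i hi).1, (hd i hi).2, Gens.W]
    have hc : ∀ (c : Bool) {y : G}, y ∈ N → cond c y 1 ∈ N := fun c y hy => by
      cases c <;> simp [hy]
    simp only [pow_zero, Bool.cond_false, mul_one]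
    repeat' first
      | exact one_mem _
      | assumption
      | apply hc
      | apply mul_mem
  exact hconj (isConj_iff.2 ⟨g, by group⟩) hu

theorem el_mem_of_index_two (N : Subgroup G) (hN : N.index = 2) (i : ℕ) : P.el i ∈ N := by
  obtain ⟨hs, ha₀, ha₁, hb₀, hb₁, hu, hx⟩ := F.gens_mem_of_index_two N hN
  have hc : ∀ (c : Bool) {y : G}, y ∈ N → cond c y 1 ∈ N := fun c y hy => by
    cases c <;> simp [hy]
  change P.W (dec i) ∈ N
  simp only [dec, Gens.W]
  repeat' first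
    | exact one_mem _
    | assumption
    | apply hc
    | apply pow_mem
    | apply mul_mem

theorem pre : F.setup.Pre :=
  ⟨by
    show IsConj P.s (P.el (piim 2))
    rw [chk_pi.2.2.2, el_two]
    exact F.fused,
   fun N hN => F.el_mem_of_index_two N hN _⟩

theorem normal_eight [Finite G] (hall : ∀ v : G, IsConj P.s v → v * P.s = P.s * v)
    (hy : IsConj F.setup.r F.setup.y) (hG : Nat.card G = 1344) :
    ∃ (N : Subgroup G) (hN : N.Normal), IsMulCommutative N ∧ (∀ n ∈ N, n ^ 2 = 1) ∧ Nat.card N = 8 ∧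
      Nonempty (G ⧸ N ≃* Matrix.ProjectiveSpecialLinearGroup (Fin 3) (ZMod 2)) := by
  have he := chk_small.2.2.2.1
  have hmul : ∀ i < 8, ∀ j < 8, P.el i * P.el j = P.el (T true i j) ∧ T true i j < 8 ∧
      T true i j = T true j i ∧ T true i i = 0 := fun i hi j hj => by
    have h := allBelow_spec _ _ he i hi
    rw [Bool.and_eq_true] at h
    have h' := allBelow_spec _ _ h.1 j hj
    simp only [Bool.and_eq_true, Nat.blt_eq, Nat.beq_eq] at h'
    exact ⟨(F.rels.el_mul (by omega)).1, h'.2, h'.1, Nat.eq_of_beq_eq_true h.2⟩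
  let E : Subgroup G := M12Cent.ofClosed {x | ∃ i < 8, P.el i = x} ⟨0, by norm_num, F.rels.el_zero⟩ (by
    rintro _ ⟨i, hi, rfl⟩ _ ⟨j, hj, rfl⟩
    exact ⟨_, (hmul i hi j hj).2.1, (hmul i hi j hj).1.symm⟩)
  have hmem : ∀ {x : G}, x ∈ E ↔ ∃ i < 8, P.el i = x := Iff.rfl
  have hclass : ∀ v : G, (v ∈ E ∧ v ≠ 1) ↔ IsConj P.s v := fun v => by
    constructor
    · rintro ⟨⟨i, hi, rfl⟩, hne⟩
      have hi0 : i ≠ 0 := fun h => hne (by rw [h, F.rels.el_zero])
      have h := allBelow_spec _ _ chk_pi.1 i (by omega)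
      simp only [Bool.and_eq_true, Nat.blt_eq, Nat.beq_eq] at h
      have hb := allBelow_spec _ _ chk_small.1 (pim i) h.1.1.2
      rw [h.2] at hb
      have hcj := (F.setup.kinds_II F.pre hy h.1.1.2).1.2 (by
        rw [eq_of_beq hb, Bool.and_eq_true, Nat.ble_eq, Nat.blt_eq]
        omega)
      change IsConj P.s (P.el (piim (pim i))) at hcj
      rwa [h.2] at hcj
    · intro hv
      obtain ⟨i, hi, rfl⟩ := (F.setup.mem v).1 (hall v hv)
      have hb := allBelow_spec _ _ chk_small.1 i hi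
      rw [(F.setup.kinds_II F.pre hy hi).1.1 hv, beq_iff_eq, eq_comm, Bool.and_eq_true, Nat.ble_eq,
        Nat.blt_eq] at hb
      refine ⟨⟨_, hb.2, rfl⟩, fun h => ?_⟩
      have h2 := M12Cent.orderOf_of_conj hv F.setup.ht2
      rw [h, orderOf_one] at h2
      omega
  haveI hn : E.Normal := ⟨fun e he g => by
    by_cases h1 : e = 1
    · rw [h1, mul_one, mul_inv_cancel]; exact one_mem _
    exact ((hclass _).2 (((hclass e).1 ⟨he, h1⟩).trans (isConj_iff.2 ⟨g, rfl⟩))).1⟩
  refine S3344Id.small_case E ⟨⟨?_⟩⟩ ?_ ?_ (by rw [Subgroup.normalizer_eq_top_iff.2 hn, Subgroup.card_top]) hG ?_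
  · rintro ⟨_, i, hi, rfl⟩ ⟨_, j, hj, rfl⟩
    exact Subtype.ext (by
      show P.el i * P.el j = P.el j * P.el i
      rw [(hmul i hi j hj).1, (hmul j hj i hi).1, (hmul i hi j hj).2.2.1])
  · rintro _ ⟨i, hi, rfl⟩
    rw [sq, (hmul i hi i hi).1, (hmul i hi i hi).2.2.2, F.rels.el_zero]
  · rw [Nat.card_congr (Equiv.ofBijective (fun i : Fin 8 => (⟨P.el i, ⟨i, i.2, rfl⟩⟩ : E))
      ⟨fun a b h => Fin.ext (F.inj _ (by omega) _ (by omega) (congrArg Subtype.val h)),
        fun ⟨_, i, hi, e⟩ => ⟨⟨i, hi⟩, Subtype.ext e⟩⟩).symm, Nat.card_fin]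
  · intro x hx
    have hc : ∀ k < 8, P.el k * x = x * P.el k := fun k hk =>
      Subgroup.mem_centralizer_iff.1 hx _ ⟨k, hk, rfl⟩
    obtain ⟨i, hi, rfl⟩ := (F.mem x).1 (by rw [← el_one P]; exact (hc 1 (by norm_num)).symm)
    have hk : ∀ k < 8, T true i k = T true k i := fun k hk =>
      F.inj _ (F.rels.el_mul (j := k) (by omega)).2 _ (F.rels.el_mul (j := i) hi).2 (by
        rw [← (F.rels.el_mul (j := k) (by omega)).1, ← (F.rels.el_mul (j := i) hi).1, hc k hk])
    have h := allBelow_spec _ _ chk_small.2.2.1 i hi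
    simp only [hk 2 (by norm_num), hk 4 (by norm_num), Nat.beq_refl, Bool.and_self, Bool.not_true,
      Bool.false_or, Nat.blt_eq] at h
    exact hmem.2 ⟨i, h, rfl⟩

theorem isSimple_of_full [Finite G] (hF : F.setup.Full) : IsSimpleGroup G := by
  classical
  set S := F.setup with hS
  haveI : Fact (Nat.Prime 2) := ⟨Nat.prime_two⟩
  haveI : Nontrivial G := ⟨⟨S.t, 1, S.t_ne⟩⟩
  refine ⟨fun N hN => ?_⟩
  by_cases hodd : Odd (Nat.card N)
  · left
    rw [Subgroup.eq_bot_iff_forall]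
    have hs : ∀ x ∈ N, x * P.s = P.s * x → x = 1 := fun x hx hxs => by
      obtain ⟨i, hi, rfl⟩ := (F.mem x).1 hxs
      have hodd' : Odd (orderOf (P.el i)) := hodd.of_dvd_nat (Subgroup.orderOf_dvd_natCard N hx)
      have hx3 : P.el i ^ 3 = 1 := by
        obtain ⟨j, hj, hji⟩ := (S.mem (P.el i)).1 hxs
        have hd : orderOf (P.el i) ∣ 64 * 3 := by
          have := Subgroup.orderOf_dvd_natCard (Subgroup.centralizer ({S.t} : Set G))
            (x := P.el i) (Subgroup.mem_centralizer_singleton_iff.2 hxs)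
          rwa [S.card_cent] at this
        exact orderOf_dvd_iff_pow_eq_one.1
          ((Nat.Coprime.pow_right 6 hodd'.coprime_two_right).dvd_of_dvd_mul_left
            (show orderOf (P.el i) ∣ 2 ^ 6 * 3 from hd))
      have hT : T true (T true i i) i = 0 := F.inj _ (F.rels.el_mul (j := i) hi).2 _ (by norm_num) (by
        rw [← (F.rels.el_mul (j := i) hi).1, ← (F.rels.el_mul (j := i) hi).1, F.rels.el_zero, ← hx3, pow_three',
          mul_assoc])
      have h := allBelow_spec _ _ chk_small.2.2.2.2 i hi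
      by_contra hne
      have hi0 : Nat.beq i 0 = false := Bool.eq_false_iff.2 fun h => hne (by
        rw [Nat.eq_of_beq_eq_true h, F.rels.el_zero])
      simp only [hT, Nat.beq_refl, Bool.not_true, Bool.false_or, hi0, Bool.and_eq_true, Bool.not_eq_true',
        Nat.blt_eq] at h
      obtain ⟨hk0, hk2⟩ := h
      have hiv := (chk_iv true).1 i hi
      have hinv : (P.el i)⁻¹ = P.el (iv true i) := inv_eq_of_mul_eq_one_left (by
        rw [(F.rels.el_mul hi).1, hiv.2.1, F.rels.el_zero])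
      set k := T true (T true (T true i 2) (iv true i)) 2 with hk
      have hkN : P.el k ∈ N := by
        have : P.el k = P.el i * (P.el 2 * (P.el i)⁻¹ * P.el 2) := by
          rw [hinv, hk, ← (F.rels.el_mul (show 2 < 192 by norm_num)).1, ← (F.rels.el_mul hiv.1).1,
            ← (F.rels.el_mul (show 2 < 192 by norm_num)).1]
          group
        rw [this]
        refine mul_mem hx ?_
        have h22 : (P.el 2)⁻¹ = P.el 2 := inv_eq_of_mul_eq_one_right (by
          rw [el_two]; exact F.rels.a₀₀)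
        have := hN.conj_mem _ (inv_mem hx) (P.el 2)
        rwa [h22] at this
      have hklt : k < 192 := (F.rels.el_mul (show 2 < 192 by norm_num)).2
      have h4 : P.el k ^ (2 ^ 2) = 1 := by
        rw [show (2 : ℕ) ^ 2 = 2 * 2 from rfl, pow_mul, sq (P.el k), (F.rels.el_mul hklt).1]
        rcases (show T true k k = 0 ∨ T true k k = 1 by omega) with e | e <;> rw [e]
        · rw [F.rels.el_zero, one_pow]
        · rw [el_one, sq, F.rels.ss]
      have ho : orderOf (P.el k) = 1 := Nat.eq_one_of_dvd_coprimes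
        (hodd.coprime_two_left.pow_left 2) (orderOf_dvd_iff_pow_eq_one.2 h4)
        (Subgroup.orderOf_dvd_natCard N hkN)
      rw [orderOf_eq_one_iff, ← F.rels.el_zero] at ho
      rw [F.inj k hklt 0 (by norm_num) ho] at hk0
      simp at hk0
    have hcv : ∀ v, IsConj P.s v → ∀ x ∈ N, x * v = v * x → x = 1 := fun v hv x hx hxv => by
      obtain ⟨g, rfl⟩ := isConj_iff.1 hv
      have := hs _ (hN.conj_mem x hx g⁻¹) (by
        rw [inv_inv]
        calc g⁻¹ * x * g * P.s = g⁻¹ * (x * (g * P.s * g⁻¹)) * g := by group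
          _ = _ := by rw [hxv]; group)
      rwa [inv_inv, show g⁻¹ * x * g = g⁻¹ * x * g⁻¹⁻¹ by rw [inv_inv], conj_eq_one_iff] at this
    have hsa : IsConj P.s (P.s * P.a₀) := by
      have h3 : allBelow (fun i => !(Nat.beq (piim i) 3) || M12Cent.isP i) 192 = true := by decide +kernel
      obtain ⟨j, hj, he⟩ := (S.mem (P.el 3)).1 (by
        rw [show P.el 3 = P.el (T true 1 2) by rw [show T true 1 2 = 3 by decide +kernel],
          ← (F.rels.el_mul (show 2 < 192 by norm_num)).1, el_one, el_two]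
        show P.s * P.a₀ * P.s = P.s * (P.s * P.a₀)
        rw [mul_assoc, ← F.rels.sa₀])
      have h := allBelow_spec _ _ h3 j hj
      have hj' := allBelow_spec _ _ chk_pi.1 j hj
      simp only [Bool.and_eq_true, Nat.blt_eq, Nat.beq_eq] at hj'
      have hj3 : piim j = 3 := F.inj _ hj'.1.1.1 _ (by norm_num) he
      simp only [hj3, Nat.beq_refl, Bool.not_true, Bool.false_or] at h
      have := (S.tP hF.pre).trans (S.conj_P ⟨j, hj, he, h⟩)
      rwa [show P.el 3 = P.s * P.a₀ by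
        rw [← el_one P, ← el_two P, (F.rels.el_mul (show 2 < 192 by norm_num)).1,
          show T true 1 2 = 3 by decide +kernel]] at this
    exact fun x hx => M12Cent.odd_trivial (O := N) F.rels.ss F.rels.a₀₀ (fun x hx => hN.conj_mem x hx _)
      (fun x hx => hN.conj_mem x hx _) (hcv _ (IsConj.refl _)) (hcv _ F.fused) (hcv _ hsa) x hx
  · right
    have hconj : ∀ {a b : G}, IsConj a b → a ∈ N → b ∈ N := fun {a b} h ha => by
      obtain ⟨g, rfl⟩ := isConj_iff.1 h
      exact hN.conj_mem a ha g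
    obtain ⟨v, hv⟩ := exists_prime_orderOf_dvd_card' (G := N) 2
      (even_iff_two_dvd.1 (Nat.not_odd_iff_even.1 hodd))
    have hv2 : orderOf (v : G) = 2 := by rw [← hv, orderOf_submonoid]
    have ht : S.t ∈ N := by
      have hyy := S.tY hF
      rcases S.invol_classes hF.pre hv2 with h | h | h
      · exact hconj h.symm v.2
      · have hr : S.r ∈ N := hconj h.symm v.2
        have h30 : S.el 30 ∈ N := hconj (S.conj_R ⟨30, by norm_num, rfl, chk_small.2.1.1⟩) hr
        have h := mul_mem (mul_mem hr h30) (mul_mem hr h30)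
        rwa [M12Cent.Setup.r, chk_small.2.1.2.1, S.mul 16 (by norm_num) 30 (by norm_num),
          S.mul _ (M12Cent.T_lt (by norm_num) (by norm_num)) _ (M12Cent.T_lt (by norm_num) (by norm_num)),
          chk_small.2.1.2.2, S.el_one] at h
      · exact hconj (hyy.trans h).symm v.2
    have hletter : ∀ a < 192, letter a = true → S.el a ∈ N := fun a ha h => by
      simp only [letter, Bool.or_eq_true, Nat.blt_eq] at h
      rcases h with (h | h) | h
      · rcases (show a = 0 ∨ a = 1 by omega) with rfl | rfl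
        · rw [S.el_zero]; exact one_mem _
        · rw [S.el_one]; exact ht
      · exact hconj ((S.tP hF.pre).trans (S.conj_P ⟨a, ha, rfl, h⟩)) ht
      · exact hconj ((S.tY hF).trans (S.conj_Y ⟨a, ha, rfl, h⟩)) ht
    have hC : ∀ y, y * S.t = S.t * y → y ∈ N := fun y hy => by
      obtain ⟨i, hi, rfl⟩ := (S.mem y).1 hy
      have h := allBelow_spec _ _ chk_word i hi
      simp only [Bool.and_eq_true, Nat.blt_eq, Nat.beq_eq] at h
      obtain ⟨⟨⟨⟨⟨⟨ha, hb⟩, hc⟩, la⟩, lb⟩, lc⟩, he⟩ := h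
      rw [← he, ← S.mul _ (M12Cent.T_lt ha hb) _ hc, ← S.mul _ ha _ hb]
      exact mul_mem (mul_mem (hletter _ ha la) (hletter _ hb lb)) (hletter _ hc lc)
    obtain ⟨Syl, hSyl⟩ := S.exists_sylow
    have hle : (Syl : Subgroup G) ≤ N := hSyl ▸ fun x hx => hC x (S.syl_le hx)
    haveI := hN
    have hfr := Sylow.normalizer_sup_eq_top (Syl.subtype hle)
    rw [Sylow.coe_subtype, Subgroup.map_subgroupOf_eq_of_le hle] at hfr
    refine eq_top_iff.2 (hfr ▸ sup_le (fun n hn => hC n ?_) le_rfl)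
    have h1 : S.t ∈ (Syl : Subgroup G) := hSyl ▸ ⟨1, by norm_num, S.el_one⟩
    refine mul_inv_eq_iff_eq_mul.1 (S.syl_central ?_ (fun x hx => ?_) fun h => S.t_ne (conj_eq_one_iff.1 h))
    · rw [← hSyl]; exact (Subgroup.mem_normalizer_iff.1 hn _).1 h1
    · rw [← hSyl] at hx
      have hx' := S.syl_le (hSyl ▸ (Subgroup.mem_normalizer_iff''.1 hn x).1 hx)
      calc x * (n * S.t * n⁻¹) = n * (n⁻¹ * x * n * S.t) * n⁻¹ := by group
        _ = _ := by rw [hx']; group

/-- The conclusion for the second type. -/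
theorem type_m12 [Finite G] : (∃ (N : Subgroup G) (hN : N.Normal), IsMulCommutative N ∧ (∀ n ∈ N, n ^ 2 = 1) ∧
    Nat.card N = 8 ∧ Nonempty (G ⧸ N ≃* Matrix.ProjectiveSpecialLinearGroup (Fin 3) (ZMod 2))) ∨
    Cfsg.Spor.IsoM12 G := by
  by_cases hy : IsConj F.setup.r F.setup.y
  · obtain ⟨hG, -, hall⟩ := F.setup.case_two F.pre hy
    exact Or.inl (F.normal_eight hall hy hG)
  · have hF : F.setup.Full := ⟨F.pre, hy⟩
    right
    haveI hs := F.isSimple_of_full hF
    have hM : Nat.card ↥Cfsg.Spor.M12 = 95040 := Golay.card_sporM12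
    haveI hMs : IsSimpleGroup ↥Cfsg.Spor.M12 := by
      rw [Golay.sporM12_eq]
      exact Golay.isSimpleGroup_M12
    obtain ⟨e₁⟩ := S0421.result (G := G) ⟨hs, F.setup.card_eq hF⟩ _ Golay.squareDodecad_mem
    obtain ⟨e₂⟩ := S0421.result (G := ↥Cfsg.Spor.M12) ⟨hMs, hM⟩ _ Golay.squareDodecad_mem
    exact ⟨e₁.trans e₂.symm⟩

end Frame

end Cfsg.Agent.S3Extra
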